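import Cfsg.Prelude.Def_LocalEven
import Cfsg.Prelude.Def_Transfer
import Cfsg.Agent.Lib.Base.Cores
import Cfsg.Agent.Lib.Coprime.Action2
import Cfsg.Agent.Lib.LocalEven.OmegaCentral
import Cfsg.Agent.Lib.OddOrder.SmallRank

/-!
The theorem of Klinger and Mason: basic objects.

`cP p a` is `O_p(N(⟨a⟩))` and `cR z` is `O_2(C(z))`, as subgroups of the whole group.
-/

set_option autoImplicit false
set_option linter.style.haveILetI false
set_option linter.unusedSectionVars false

namespace CfsgLib.KlingerMason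

open Cfsg Subgroup
open scoped commutatorElement

variable {G : Type*} [Group G] {p n : ℕ}

/-- `O_p(N(⟨a⟩))`. -/
def cP (p : ℕ) (a : G) : Subgroup G :=
  (pCore p ↥(normalizer (zpowers a : Set G))).map (normalizer (zpowers a : Set G)).subtype

/-- `O_2(C(z))`. -/
def cR (z : G) : Subgroup G :=
  (pCore 2 ↥(centralizer ({z} : Set G))).map (centralizer ({z} : Set G)).subtype

/-- Abelian of exponent dividing `q`. -/
def Elem (q : ℕ) (E : Subgroup G) : Prop :=
  (∀ x ∈ E, ∀ y ∈ E, x * y = y * x) ∧ ∀ x ∈ E, x ^ q = 1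

/-- The standing hypotheses: `p ^ n` bounds the elementary `p`-subgroups of 2-locals. -/
structure Hyp (p n : ℕ) (G : Type*) [Group G] : Prop where
  prime : p.Prime
  ne_two : p ≠ 2
  lc : IsOfLocalCharacteristic p G
  c2 : IsCharacteristicTwoType G
  three_le : 3 ≤ n
  bound : ∀ E X : Subgroup G, Elem p E → IsPGroup 2 X → X ≠ ⊥ →
    E ≤ normalizer (X : Set G) → Nat.card E ≤ p ^ n

theorem Elem.isMulCommutative {q : ℕ} {E : Subgroup G} (h : Elem q E) : IsMulCommutative E :=
  ⟨⟨fun x y => Subtype.ext (h.1 x x.2 y y.2)⟩⟩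

theorem elem_iff {q : ℕ} {E : Subgroup G} : Elem q E ↔ IsElementaryAbelian q E :=
  ⟨fun h => ⟨h.isMulCommutative, h.2⟩, fun h => ⟨fun x hx y hy =>
    congrArg Subtype.val (h.1.is_comm.comm ⟨x, hx⟩ ⟨y, hy⟩), h.2⟩⟩

theorem Elem.mono {q : ℕ} {E F : Subgroup G} (h : Elem q E) (hle : F ≤ E) : Elem q F :=
  ⟨fun x hx y hy => h.1 x (hle hx) y (hle hy), fun x hx => h.2 x (hle hx)⟩

theorem Elem.isPGroup {q : ℕ} {E : Subgroup G} (h : Elem q E) : IsPGroup q E :=
  fun x => ⟨1, Subtype.ext (by simpa using h.2 x x.2)⟩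

theorem Elem.le_centralizer {q : ℕ} {E : Subgroup G} (h : Elem q E) :
    E ≤ centralizer (E : Set G) :=
  fun x hx => mem_centralizer_iff.2 fun y hy => h.1 y hy x hx

/-! ### Elementary abelian subgroups generated by commuting pieces -/

theorem elem_zpowers {q : ℕ} {a : G} (ha : a ^ q = 1) : Elem q (zpowers a) := by
  refine ⟨fun x hx y hy => ?_, fun x hx => ?_⟩
  · obtain ⟨i, rfl⟩ := mem_zpowers_iff.1 hx
    obtain ⟨j, rfl⟩ := mem_zpowers_iff.1 hy
    exact zpow_mul_comm a i j
  · obtain ⟨i, rfl⟩ := mem_zpowers_iff.1 hx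
    rw [← zpow_natCast, ← zpow_mul, mul_comm, zpow_mul, zpow_natCast, ha, one_zpow]

theorem le_normalizer_of_commute {E F : Subgroup G} (h : ∀ x ∈ E, ∀ y ∈ F, x * y = y * x) :
    E ≤ normalizer (F : Set G) := fun x hx => by
  refine centralizer_le_normalizer _ (mem_centralizer_iff.2 fun y hy => (h x hx y hy).symm)

theorem mem_sup_of_commute {E F : Subgroup G} (h : ∀ x ∈ E, ∀ y ∈ F, x * y = y * x) {g : G} :
    g ∈ E ⊔ F ↔ ∃ x ∈ E, ∃ y ∈ F, x * y = g :=
  Coprime.mem_sup_iff_of_le_normalizer (le_normalizer_of_commute h)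

theorem Elem.sup {q : ℕ} {E F : Subgroup G} (hE : Elem q E) (hF : Elem q F)
    (h : ∀ x ∈ E, ∀ y ∈ F, x * y = y * x) : Elem q (E ⊔ F) := by
  constructor
  · intro g hg k hk
    obtain ⟨x, hx, y, hy, rfl⟩ := (mem_sup_of_commute h).1 hg
    obtain ⟨x', hx', y', hy', rfl⟩ := (mem_sup_of_commute h).1 hk
    have h1 : Commute x x' := hE.1 x hx x' hx'
    have h2 : Commute x y' := h x hx y' hy'
    have h3 : Commute y x' := (h x' hx' y hy).symm
    have h4 : Commute y y' := hF.1 y hy y' hy'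
    exact ((h1.mul_right h2).mul_left (h3.mul_right h4)).eq
  · intro g hg
    obtain ⟨x, hx, y, hy, rfl⟩ := (mem_sup_of_commute h).1 hg
    rw [(show Commute x y from h x hx y hy).mul_pow, hE.2 x hx, hF.2 y hy, one_mul]

theorem card_sup_of_commute {E F : Subgroup G} (h : ∀ x ∈ E, ∀ y ∈ F, x * y = y * x)
    (hd : E ⊓ F = ⊥) : Nat.card ↥(E ⊔ F) = Nat.card E * Nat.card F :=
  Coprime.card_sup_of_inf_eq_bot (le_normalizer_of_commute h) hd

theorem card_zpowers_of_pow (hp : p.Prime) {a : G} (h : a ^ p = 1) (h1 : a ≠ 1) :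
    Nat.card (zpowers a) = p := by
  haveI := Fact.mk hp
  rw [Nat.card_zpowers, orderOf_eq_prime h h1]

/-- An element of order dividing `p` (odd) inverted by itself is trivial. -/
theorem eq_one_of_inv_eq (hp : p.Prime) (hp2 : p ≠ 2) {x : G} (h : x ^ p = 1)
    (hinv : x⁻¹ = x) : x = 1 := by
  obtain ⟨k, hk⟩ := hp.odd_of_ne_two hp2
  have h2 : x ^ 2 = 1 := by rw [pow_two]; nth_rw 1 [← hinv]; exact inv_mul_cancel x
  rw [hk, pow_succ, pow_mul, h2, one_pow, one_mul] at h
  exact h

theorem conj_mem_iff_of_mem_normalizer {E : Subgroup G} {g x : G}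
    (hg : g ∈ normalizer (E : Set G)) : g * x * g⁻¹ ∈ E ↔ x ∈ E :=
  (mem_normalizer_iff.1 hg x).symm

theorem conj_mem_of_mem_normalizer {E : Subgroup G} {g x : G}
    (hg : g ∈ normalizer (E : Set G)) (hx : x ∈ E) : g * x * g⁻¹ ∈ E :=
  (mem_normalizer_iff.1 hg x).1 hx

/-- Fixed by conjugation means commuting. -/
theorem conj_eq_iff {g x : G} : g * x * g⁻¹ = x ↔ g * x = x * g := by
  constructor
  · intro h
    calc g * x = (g * x * g⁻¹) * g := by group
      _ = x * g := by rw [h]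
  · intro h
    rw [h]; group

theorem mem_centralizer_singleton {g x : G} : g ∈ centralizer ({x} : Set G) ↔ g * x = x * g :=
  mem_centralizer_singleton_iff

/-- A `p`-element and a `p'`-element power argument: elements of coprime order generate their
own `p'`-part. -/
theorem eq_one_of_pow_eq_one_of_coprime {x : G} {m k : ℕ} (hm : x ^ m = 1) (hk : x ^ k = 1)
    (hmk : m.Coprime k) : x = 1 := by
  have h := pow_gcd_eq_one.mpr ⟨hm, hk⟩
  rwa [show Nat.gcd m k = 1 from hmk, pow_one] at h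

/-! ### `O_p(N(⟨a⟩))` -/

theorem cP_le_normalizer_zpowers (a : G) : cP p a ≤ normalizer (zpowers a : Set G) :=
  Subgroup.map_subtype_le _

theorem isPGroup_cP (a : G) : IsPGroup p (cP p a) := Base.isPGroup_map_pCore p _

theorem normalizer_zpowers_le_normalizer_cP (a : G) :
    normalizer (zpowers a : Set G) ≤ normalizer (cP p a : Set G) :=
  Base.le_normalizer_map_pCore _

theorem centralizer_le_normalizer_zpowers (a : G) :
    centralizer ({a} : Set G) ≤ normalizer (zpowers a : Set G) := by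
  refine le_trans ?_ (centralizer_le_normalizer _)
  rw [zpowers_eq_closure, centralizer_closure]

theorem centralizer_le_normalizer_cP (a : G) :
    centralizer ({a} : Set G) ≤ normalizer (cP p a : Set G) :=
  (centralizer_le_normalizer_zpowers a).trans (normalizer_zpowers_le_normalizer_cP a)

theorem le_cP {K : Subgroup G} {a : G} (hK : K ≤ normalizer (zpowers a : Set G))
    (hn : normalizer (zpowers a : Set G) ≤ normalizer (K : Set G)) (hp : IsPGroup p K) :
    K ≤ cP p a :=
  Base.le_map_pCore hK hn hp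

theorem self_mem_cP {a : G} (ha : a ^ p = 1) : a ∈ cP p a :=
  le_cP le_normalizer le_rfl (elem_zpowers ha).isPGroup (mem_zpowers a)

/-- A `p`-element normalising a group of order `p` centralises it. -/
theorem commute_of_mem_normalizer_zpowers (hp : p.Prime) {a x : G} (ha : a ^ p = 1)
    {k : ℕ} (hx : x ^ p ^ k = 1) (hn : x ∈ normalizer (zpowers a : Set G)) : x * a = a * x := by
  haveI := Fact.mk hp
  obtain ⟨i, hi⟩ := mem_zpowers_iff.1 (conj_mem_of_mem_normalizer hn (mem_zpowers a))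
  -- `x ^ j` conjugates `a` to `a ^ (i ^ j)`
  have hpow : ∀ j : ℕ, x ^ j * a * (x ^ j)⁻¹ = a ^ (i ^ j : ℤ) := by
    intro j
    induction j with
    | zero => simp
    | succ j ih =>
      calc x ^ (j + 1) * a * (x ^ (j + 1))⁻¹ = x * (x ^ j * a * (x ^ j)⁻¹) * x⁻¹ := by
            rw [pow_succ']; group
        _ = (x * a * x⁻¹) ^ (i ^ j : ℤ) := by rw [ih, conj_zpow]
        _ = a ^ (i ^ (j + 1) : ℤ) := by rw [← hi, ← zpow_mul, pow_succ']
  by_cases h1 : a = 1
  · simp [h1]
  have ho : orderOf a = p := orderOf_eq_prime ha h1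
  have h := hpow (p ^ k)
  rw [hx, one_mul, inv_one, mul_one] at h
  have h2 : ((i : ZMod p) ^ (p ^ k)) = 1 := by
    have := (orderOf_dvd_iff_zpow_eq_one (x := a) (i := i ^ (p ^ k) - 1)).2 (by
      rw [zpow_sub_one, ← h, mul_inv_cancel])
    rw [ho, ← ZMod.intCast_zmod_eq_zero_iff_dvd, Int.cast_sub, Int.cast_pow, Int.cast_one,
      sub_eq_zero] at this
    exact this
  rw [ZMod.pow_card_pow] at h2
  have h3 : a ^ i = a := by
    have : ((i - 1 : ℤ) : ZMod p) = 0 := by rw [Int.cast_sub, h2, Int.cast_one, sub_self]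
    rw [ZMod.intCast_zmod_eq_zero_iff_dvd, ← ho, orderOf_dvd_iff_zpow_eq_one, zpow_sub_one,
      mul_inv_eq_one] at this
    exact this
  rw [h3] at hi
  exact conj_eq_iff.1 hi.symm

variable [Finite G]

theorem cP_le_centralizer (H : Hyp p n G) {a : G} (ha : a ^ p = 1) :
    cP p a ≤ centralizer ({a} : Set G) := fun x hx => by
  obtain ⟨k, hk⟩ := isPGroup_cP (p := p) a ⟨x, hx⟩
  exact mem_centralizer_singleton.2 (commute_of_mem_normalizer_zpowers H.prime ha
    (k := k) (congrArg Subtype.val hk) (cP_le_normalizer_zpowers a hx))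

theorem mem_cP_of_centralizer (H : Hyp p n G) {a x : G} (ha : a ^ p = 1) (ha1 : a ≠ 1)
    (hx : x ∈ normalizer (zpowers a : Set G)) (hc : x ∈ centralizer (cP p a : Set G)) :
    x ∈ cP p a := by
  have hne : zpowers a ≠ ⊥ := by simpa using ha1
  have hmem : (⟨x, hx⟩ : ↥(normalizer (zpowers a : Set G))) ∈
      centralizer (pCore p ↥(normalizer (zpowers a : Set G)) :
        Set ↥(normalizer (zpowers a : Set G))) :=
    mem_centralizer_iff.2 fun y hy =>
      Subtype.ext (mem_centralizer_iff.1 hc y ⟨y, hy, rfl⟩)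
  exact ⟨⟨x, hx⟩, H.lc.2 _ (elem_zpowers ha).isPGroup hne hmem, rfl⟩

/-- A `p'`-element of `C(a)` centralising `O_p(N(⟨a⟩))` is trivial. -/
theorem eq_one_of_centralizes_cP (H : Hyp p n G) {a x : G} (ha : a ^ p = 1) (ha1 : a ≠ 1)
    (hx : x ∈ centralizer ({a} : Set G)) (ho : (orderOf x).Coprime p)
    (hc : x ∈ centralizer (cP p a : Set G)) : x = 1 := by
  obtain ⟨k, hk⟩ := isPGroup_cP (p := p) a
    ⟨x, mem_cP_of_centralizer H ha ha1 (centralizer_le_normalizer_zpowers a hx) hc⟩
  exact eq_one_of_pow_eq_one_of_coprime (pow_orderOf_eq_one x) (congrArg Subtype.val hk)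
    (ho.pow_right k)

/-! ### `O_2(C(z))` -/

theorem cR_le_centralizer (z : G) : cR z ≤ centralizer ({z} : Set G) :=
  Subgroup.map_subtype_le _

theorem isPGroup_cR (z : G) : IsPGroup 2 (cR z) := Base.isPGroup_map_pCore 2 _

theorem centralizer_le_normalizer_cR (z : G) :
    centralizer ({z} : Set G) ≤ normalizer (cR z : Set G) :=
  Base.le_normalizer_map_pCore _

theorem self_mem_cR {z : G} (hz : z ^ 2 = 1) : z ∈ cR z := by
  have h1 : zpowers z ≤ centralizer ({z} : Set G) :=
    zpowers_le.2 (mem_centralizer_singleton.2 rfl)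
  refine Base.le_map_pCore (M := zpowers z) h1 ?_ (elem_zpowers hz).isPGroup (mem_zpowers z)
  refine le_trans ?_ (centralizer_le_normalizer _)
  rw [zpowers_eq_closure, centralizer_closure]

theorem normalizer_zpowers_involution {z : G} (hz : z ^ 2 = 1) :
    normalizer (zpowers z : Set G) = centralizer ({z} : Set G) := by
  refine le_antisymm (fun g hg => mem_centralizer_singleton.2 (conj_eq_iff.1 ?_))
    (centralizer_le_normalizer_zpowers z)
  obtain ⟨i, hi⟩ := mem_zpowers_iff.1 (conj_mem_of_mem_normalizer hg (mem_zpowers z))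
  rcases Int.even_or_odd i with ⟨j, rfl⟩ | ⟨j, rfl⟩
  · rw [← two_mul, zpow_mul, zpow_two, ← pow_two, hz, one_zpow, eq_comm, conj_eq_one_iff] at hi
    subst hi; simp
  · rw [← hi, zpow_add_one, zpow_mul, zpow_two, ← pow_two, hz, one_zpow, one_mul]

theorem centralizer_cR_le (H : Hyp p n G) {z x : G} (hz : orderOf z = 2)
    (hx : x ∈ centralizer ({z} : Set G)) (hc : x ∈ centralizer (cR z : Set G)) : x ∈ cR z := by
  have hz2 : z ^ 2 = 1 := hz ▸ pow_orderOf_eq_one z
  have hne : zpowers z ≠ ⊥ := by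
    rw [Ne, zpowers_eq_bot, ← orderOf_eq_one_iff, hz]; decide
  have hN : IsOfCharacteristicTwo ↥(centralizer ({z} : Set G)) :=
    normalizer_zpowers_involution hz2 ▸ H.c2.2 _ (elem_zpowers hz2).isPGroup hne
  exact ⟨⟨x, hx⟩, hN (mem_centralizer_iff.2 fun y hy =>
    Subtype.ext (mem_centralizer_iff.1 hc y ⟨y, hy, rfl⟩)), rfl⟩

/-- An element of `C(z)` of order prime to 2 centralising `O_2(C(z))` is trivial. -/
theorem eq_one_of_centralizes_cR (H : Hyp p n G) {z x : G} (hz : orderOf z = 2)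
    (hx : x ∈ centralizer ({z} : Set G)) (hxp : x ^ p = 1)
    (hc : x ∈ centralizer (cR z : Set G)) : x = 1 := by
  obtain ⟨k, hk⟩ := isPGroup_cR z ⟨x, centralizer_cR_le H hz hx hc⟩
  exact eq_one_of_pow_eq_one_of_coprime hxp (congrArg Subtype.val hk)
    (((Nat.coprime_primes H.prime Nat.prime_two).2 H.ne_two).pow_right k)

/-! ### Detection inside centralisers -/

/-- A `p'`-element centralising a `p`-group `X ∋ a` and centralising a subgroup detecting
`O_p(N(⟨a⟩)) ∩ C(X)` is trivial. -/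
theorem exists_detecting_inf (H : Hyp p n G) {a : G} {X : Subgroup G} (hX : IsPGroup p X)
    (ha : a ^ p = 1) (ha1 : a ≠ 1) (haX : a ∈ X) (hXa : X ≤ centralizer ({a} : Set G)) :
    ∃ D : Subgroup G, D ≤ cP p a ⊓ centralizer (X : Set G) ∧ (∀ x ∈ D, x ^ p = 1) ∧
      (∀ x ∈ D, ∀ y ∈ D, ∀ v ∈ D, ⁅x, y⁆ * v = v * ⁅x, y⁆) ∧
      (∀ g ∈ centralizer ({a} : Set G), g ∈ normalizer (X : Set G) →
        g ∈ normalizer (D : Set G)) ∧
      ∀ g ∈ centralizer (X : Set G), (orderOf g).Coprime p → g ∈ centralizer (D : Set G) →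
        g = 1 := by
  haveI := Fact.mk H.prime
  set U := cP p a ⊓ centralizer (X : Set G) with hU
  have hUp : IsPGroup p U := (isPGroup_cP a).to_le inf_le_left
  obtain ⟨D, hDU, hDe, hDc, hDn, hDd⟩ := OddOrder.exists_detecting H.ne_two U hUp
  have hnU : ∀ g ∈ centralizer ({a} : Set G), g ∈ normalizer (X : Set G) →
      g ∈ normalizer (U : Set G) := fun g hg hgX =>
    Coprime.le_normalizer_inf_inf
      (zpowers_le.2 (centralizer_le_normalizer_cP a hg))
      (Coprime.le_normalizer_centralizer (zpowers_le.2 hgX)) (mem_zpowers g)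
  refine ⟨D, hDU, hDe, fun x hx y hy v hv => ?_, fun g hg hgX => hDn (hnU g hg hgX),
    fun g hg ho hgD => ?_⟩
  · exact (congrArg Subtype.val (mem_center_iff.1 (hDc ⟨x, hx⟩ ⟨y, hy⟩) ⟨v, hv⟩)).symm
  have hga : g ∈ centralizer ({a} : Set G) := centralizer_le (Set.singleton_subset_iff.2 haX) hg
  have hgU : g ∈ centralizer (U : Set G) :=
    hDd g (hnU g hga (centralizer_le_normalizer _ hg)) ho hgD
  have hQ : zpowers g ≤ centralizer (cP p a : Set G) :=
    Coprime.pq_lemma hX (by rwa [Nat.card_zpowers]) (isPGroup_cP a)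
      (le_centralizer_iff.1 (zpowers_le.2 hg)) (hXa.trans (centralizer_le_normalizer_cP a))
      (zpowers_le.2 (centralizer_le_normalizer_cP a hga))
      (le_centralizer_iff.1 (zpowers_le.2 hgU))
  exact eq_one_of_centralizes_cP H ha ha1 hga ho (hQ (mem_zpowers g))

end CfsgLib.KlingerMason
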