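import Cfsg.Agent.Lib.KlingerMason.Basic

/-!
The theorem of Klinger and Mason: eigen-elements of elementary abelian 2-groups and the basic
lemma on an elementary group of order `p ^ (n - 1)` centralising a moved 2-group.
-/

set_option autoImplicit false
set_option linter.style.haveILetI false
set_option linter.unusedSectionVars false

namespace CfsgLib.KlingerMason

open Cfsg Subgroup
open scoped commutatorElement

variable {G : Type*} [Group G] [Finite G] {p n : ℕ}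

theorem Elem.inv_eq {W : Subgroup G} (hW : Elem 2 W) {w : G} (hw : w ∈ W) : w⁻¹ = w :=
  inv_eq_of_mul_eq_one_left (by rw [← pow_two]; exact hW.2 w hw)

theorem orderOf_coprime_of_sq (hp : p.Prime) (hp2 : p ≠ 2) {w : G} (hw : w ^ 2 = 1) :
    (orderOf w).Coprime p :=
  ((Nat.coprime_primes Nat.prime_two hp).2 fun h => hp2 h.symm).coprime_dvd_left
    (orderOf_dvd_of_pow_eq_one hw)

/-- An elementary abelian 2-group acting on a `p`-group with a nontrivially acting element `w₁`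
has a common eigen-element inverted by `w₁`. -/
theorem exists_eigen (hp : p.Prime) (hp2 : p ≠ 2) {W D : Subgroup G} (hW : Elem 2 W)
    (hD : IsPGroup p D) (hWD : W ≤ normalizer (D : Set G)) {w₁ : G} (hw₁ : w₁ ∈ W)
    (hne : ¬ w₁ ∈ centralizer (D : Set G)) :
    ∃ u ∈ D, u ≠ 1 ∧ w₁ * u * w₁⁻¹ = u⁻¹ ∧
      ∀ w ∈ W, w * u * w⁻¹ = u ∨ w * u * w⁻¹ = u⁻¹ := by
  haveI := Fact.mk hp
  haveI := hW.isMulCommutative
  have hcop : (Nat.card W).Coprime (Nat.card D) := by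
    haveI := Fact.mk Nat.prime_two
    obtain ⟨i, hi⟩ := IsPGroup.iff_card.1 hW.isPGroup
    obtain ⟨j, hj⟩ := IsPGroup.iff_card.1 hD
    rw [hi, hj]
    exact (((Nat.coprime_primes Nat.prime_two hp).2 fun h => hp2 h.symm).pow_left i).pow_right j
  have : ¬ ∀ B : Subgroup G, B ≤ W → (∃ a ∈ W, B ⊔ zpowers a = W) →
      D ⊓ centralizer (B : Set G) ≤ centralizer ({w₁} : Set G) := fun h => hne
    (mem_centralizer_iff.2 fun x hx =>
      mem_centralizer_singleton.1 (Coprime.le_of_cyclic_quotient hWD hcop h hx))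
  push Not at this
  obtain ⟨B, hB, ⟨a, ha, hBa⟩, hx⟩ := this
  obtain ⟨x, ⟨hxD, hxB⟩, hxw⟩ := SetLike.not_le_iff_exists.1 hx
  have hw2 : w₁ * w₁ = 1 := by rw [← pow_two]; exact hW.2 w₁ hw₁
  set u := x⁻¹ * (w₁ * x * w₁⁻¹) with hu
  have huD : u ∈ D := D.mul_mem (D.inv_mem hxD) (conj_mem_of_mem_normalizer (hWD hw₁) hxD)
  have hinv : w₁ * u * w₁⁻¹ = u⁻¹ := by
    rw [hu, show w₁⁻¹ = w₁ from hW.inv_eq hw₁]
    calc w₁ * (x⁻¹ * (w₁ * x * w₁)) * w₁ = w₁ * x⁻¹ * w₁ * x * (w₁ * w₁) := by group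
      _ = w₁⁻¹ * x⁻¹ * w₁⁻¹ * x := by rw [hw2, mul_one, hW.inv_eq hw₁]
      _ = _ := by group
  have hu1 : u ≠ 1 := fun h => hxw (mem_centralizer_singleton.2 (by
    rw [hu, inv_mul_eq_one] at h
    exact (conj_eq_iff.1 h.symm).symm))
  have hfixB : ∀ b ∈ B, b * u * b⁻¹ = u := by
    intro b hb
    have hbx : b * x * b⁻¹ = x := conj_eq_iff.2 (mem_centralizer_iff.1 hxB b hb)
    have hbw : b * w₁ = w₁ * b := hW.1 b (hB hb) w₁ hw₁
    have hbw' : b * w₁ * b⁻¹ = w₁ := conj_eq_iff.2 hbw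
    calc b * u * b⁻¹ = (b * x * b⁻¹)⁻¹ * ((b * w₁ * b⁻¹) * (b * x * b⁻¹) * (b * w₁ * b⁻¹)⁻¹) := by
          rw [hu]; group
      _ = u := by rw [hbx, hbw', hu]
  have hdec : ∀ w ∈ W, ∃ b ∈ B, w = b ∨ w = b * a := by
    intro w hw
    rw [← hBa, mem_sup_of_commute fun b hb y hy => hW.1 b (hB hb) y
      (zpowers_le.2 ha hy)] at hw
    obtain ⟨b, hb, y, hy, rfl⟩ := hw
    obtain ⟨i, rfl⟩ := mem_zpowers_iff.1 hy
    have ha2 : a ^ (2 : ℤ) = 1 := by exact_mod_cast hW.2 a ha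
    refine ⟨b, hb, ?_⟩
    rcases Int.even_or_odd i with ⟨j, rfl⟩ | ⟨j, rfl⟩
    · left; rw [← two_mul, zpow_mul, ha2, one_zpow, mul_one]
    · right; rw [zpow_add_one, zpow_mul, ha2, one_zpow, one_mul]
  obtain ⟨b₁, hb₁, h₁ | h₁⟩ := hdec w₁ hw₁
  · exact absurd (mem_centralizer_singleton.2
      (show x * w₁ = w₁ * x by rw [h₁]; exact (mem_centralizer_iff.1 hxB b₁ hb₁).symm)) hxw
  have hau : a * u * a⁻¹ = u⁻¹ := by
    have hb' : b₁⁻¹ * u⁻¹ * b₁ = u⁻¹ := by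
      have := hfixB b₁⁻¹ (B.inv_mem hb₁)
      rw [inv_inv] at this
      calc b₁⁻¹ * u⁻¹ * b₁ = (b₁⁻¹ * u * b₁)⁻¹ := by group
        _ = u⁻¹ := by rw [this]
    calc a * u * a⁻¹ = b₁⁻¹ * ((b₁ * a) * u * (b₁ * a)⁻¹) * b₁ := by group
      _ = u⁻¹ := by rw [← h₁, hinv, hb']
  refine ⟨u, huD, hu1, hinv, fun w hw => ?_⟩
  obtain ⟨b, hb, rfl | rfl⟩ := hdec w hw
  · exact Or.inl (hfixB _ hb)
  · right
    calc b * a * u * (b * a)⁻¹ = b * (a * u * a⁻¹) * b⁻¹ := by group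
      _ = (b * u * b⁻¹)⁻¹ := by rw [hau]; group
      _ = u⁻¹ := by rw [hfixB b hb]

/-- Fixed and inverted by the same element: trivial. -/
theorem eq_one_of_fix_inv (hp : p.Prime) (hp2 : p ≠ 2) {w x : G} (hx : x ^ p = 1)
    (hfix : w * x * w⁻¹ = x) (hinv : w * x * w⁻¹ = x⁻¹) : x = 1 :=
  eq_one_of_inv_eq hp hp2 hx (hinv.symm.trans hfix)

/-- The elements fixed by `w`. -/
theorem fix_sup {E F : Subgroup G} {w : G} (hE : E ≤ centralizer ({w} : Set G))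
    (hF : F ≤ centralizer ({w} : Set G)) : E ⊔ F ≤ centralizer ({w} : Set G) :=
  sup_le hE hF

/-- A group centralised by `w` meets a group inverted by `w` trivially. -/
theorem disjoint_of_fix_inv (hp : p.Prime) (hp2 : p ≠ 2) {E F : Subgroup G} {w : G}
    (hE : E ≤ centralizer ({w} : Set G)) (hEp : ∀ x ∈ E, x ^ p = 1)
    (hF : ∀ x ∈ F, w * x * w⁻¹ = x⁻¹) : E ⊓ F = ⊥ :=
  (eq_bot_iff_forall _).2 fun x hx => eq_one_of_fix_inv hp hp2 (hEp x hx.1)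
    (conj_eq_iff.2 (mem_centralizer_singleton.1 (hE hx.1)).symm) (hF x hx.2)

theorem inv_zpowers {w u : G} (hu : w * u * w⁻¹ = u⁻¹) :
    ∀ x ∈ zpowers u, w * x * w⁻¹ = x⁻¹ := by
  intro x hx
  obtain ⟨i, rfl⟩ := mem_zpowers_iff.1 hx
  rw [← conj_zpow, hu, inv_zpow]

theorem fix_zpowers {w u : G} (hu : w * u * w⁻¹ = u) :
    zpowers u ≤ centralizer ({w} : Set G) :=
  zpowers_le.2 (mem_centralizer_singleton.2 (conj_eq_iff.1 hu).symm)

theorem fix_of_mem_centralizer {K : Subgroup G} {w x : G} (hw : w ∈ centralizer (K : Set G))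
    (hx : x ∈ K) : w * x * w⁻¹ = x :=
  conj_eq_iff.2 (mem_centralizer_iff.1 hw x hx).symm

/-- Central commutators: inversion of either entry inverts the commutator. -/
theorem commutator_inv_left_eq {u v : G} (h : ⁅u, v⁆ * u = u * ⁅u, v⁆) :
    ⁅u⁻¹, v⁆ = ⁅u, v⁆⁻¹ := by
  calc ⁅u⁻¹, v⁆ = u⁻¹ * ⁅u, v⁆⁻¹ * u := by simp only [commutatorElement_def]; group
    _ = u⁻¹ * (⁅u, v⁆⁻¹ * (u * ⁅u, v⁆)) * ⁅u, v⁆⁻¹ := by group
    _ = ⁅u, v⁆⁻¹ := by rw [← h]; group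

theorem commutator_inv_right_eq {u v : G} (h : ⁅u, v⁆ * v = v * ⁅u, v⁆) :
    ⁅u, v⁻¹⁆ = ⁅u, v⁆⁻¹ := by
  calc ⁅u, v⁻¹⁆ = v⁻¹ * ⁅u, v⁆⁻¹ * v := by simp only [commutatorElement_def]; group
    _ = v⁻¹ * (⁅u, v⁆⁻¹ * (v * ⁅u, v⁆)) * ⁅u, v⁆⁻¹ := by group
    _ = ⁅u, v⁆⁻¹ := by rw [← h]; group

theorem conj_commutator (w u v : G) :
    w * ⁅u, v⁆ * w⁻¹ = ⁅w * u * w⁻¹, w * v * w⁻¹⁆ := by
  simp only [commutatorElement_def]; group

/-- Sign of a product, both fixing or both inverting. -/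
theorem fix_of_mul {w w' x : G} (h : (w * x * w⁻¹ = x ∧ w' * x * w'⁻¹ = x) ∨
    (w * x * w⁻¹ = x⁻¹ ∧ w' * x * w'⁻¹ = x⁻¹)) : w * w' * x * (w * w')⁻¹ = x := by
  have e : w * w' * x * (w * w')⁻¹ = w * (w' * x * w'⁻¹) * w⁻¹ := by group
  rcases h with ⟨h1, h2⟩ | ⟨h1, h2⟩
  · rw [e, h2, h1]
  · calc w * w' * x * (w * w')⁻¹ = (w * x * w⁻¹)⁻¹ := by rw [e, h2]; group
      _ = x := by rw [h1, inv_inv]

/-- The key lemma: an elementary `K ∋ a` of order `p ^ (n-1)`, an elementary 2-group `W`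
centralising it and some `c` in `C(a)` normalising both and moving `W`. -/
theorem moved_two_group (H : Hyp p n G) {K W : Subgroup G} {a c w₀ : G} (hK : Elem p K)
    (hcard : Nat.card K * p = p ^ n) (haK : a ∈ K) (ha1 : a ≠ 1) (hW : Elem 2 W)
    (hWK : W ≤ centralizer (K : Set G)) (hca : c ∈ centralizer ({a} : Set G))
    (hcK : c ∈ normalizer (K : Set G)) (hcW : c ∈ normalizer (W : Set G))
    (hw₀ : w₀ ∈ W) (hmove : c * w₀ * c⁻¹ ≠ w₀) :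
    (∃ w ∈ W, w ≠ 1 ∧ ∃ E : Subgroup G, Elem p E ∧ Nat.card E = p ^ n ∧
      E ≤ centralizer ({w} : Set G)) ∧ Nat.card W < 8 := by
  have hp := H.prime
  have hp2 := H.ne_two
  set w₀' := c * w₀ * c⁻¹ with hw₀'
  have hw₀'W : w₀' ∈ W := conj_mem_of_mem_normalizer hcW hw₀
  set w₁ := w₀' * w₀ with hw₁
  have hw₁W : w₁ ∈ W := W.mul_mem hw₀'W hw₀
  have hw₁1 : w₁ ≠ 1 := fun h => hmove (by
    rw [← hW.inv_eq hw₀]; exact mul_eq_one_iff_eq_inv.1 h)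
  obtain ⟨D, hDU, hDe, hDc, hDn, hDd⟩ :=
    exists_detecting_inf H hK.isPGroup (hK.2 a haK) ha1 haK
      fun x hx => mem_centralizer_singleton.2 (hK.1 x hx a haK)
  have hWD : W ≤ normalizer (D : Set G) := fun w hw =>
    hDn w (centralizer_le (Set.singleton_subset_iff.2 haK) (hWK hw))
      (centralizer_le_normalizer _ (hWK hw))
  have hcD : c ∈ normalizer (D : Set G) := hDn c hca hcK
  have hDp : IsPGroup p D := (isPGroup_cP a).to_le (hDU.trans inf_le_left)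
  obtain ⟨u, huD, hu1, hinv, hsgn⟩ := exists_eigen hp hp2 hW hDp hWD hw₁W fun h =>
    hw₁1 (hDd w₁ (hWK hw₁W) (orderOf_coprime_of_sq hp hp2 (hW.2 _ hw₁W)) h)
  have hup := hDe u huD
  -- the conjugate eigen-element
  set v₀ := c⁻¹ * u * c with hv₀
  have hv₀D : v₀ ∈ D := by
    have := conj_mem_of_mem_normalizer (inv_mem hcD) huD
    rwa [inv_inv] at this
  have hv₀sgn : ∀ w ∈ W, (c * w * c⁻¹ * u * (c * w * c⁻¹)⁻¹ = u → w * v₀ * w⁻¹ = v₀) ∧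
      (c * w * c⁻¹ * u * (c * w * c⁻¹)⁻¹ = u⁻¹ → w * v₀ * w⁻¹ = v₀⁻¹) := by
    intro w _
    have e : w * v₀ * w⁻¹ = c⁻¹ * (c * w * c⁻¹ * u * (c * w * c⁻¹)⁻¹) * c := by rw [hv₀]; group
    exact ⟨fun h => by rw [e, h], fun h => by rw [e, h, hv₀]; group⟩
  have hu0 : (w₀' * u * w₀'⁻¹ = u ∧ w₀ * u * w₀⁻¹ = u⁻¹) ∨
      (w₀' * u * w₀'⁻¹ = u⁻¹ ∧ w₀ * u * w₀⁻¹ = u) := by
    rcases hsgn w₀' hw₀'W with h | h <;> rcases hsgn w₀ hw₀ with h' | h'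
    · exact absurd (eq_one_of_fix_inv hp hp2 hup (fix_of_mul (.inl ⟨h, h'⟩)) hinv) hu1
    · exact .inl ⟨h, h'⟩
    · exact .inr ⟨h, h'⟩
    · exact absurd (eq_one_of_fix_inv hp hp2 hup (fix_of_mul (.inr ⟨h, h'⟩)) hinv) hu1
  have hKu : ∀ x ∈ K, ∀ y ∈ zpowers u, x * y = y * x := fun x hx y hy =>
    (mem_centralizer_iff.1 (zpowers_le.2 (hDU huD).2 hy) x hx)
  have hE : Elem p (K ⊔ zpowers u) := hK.sup (elem_zpowers hup) hKu
  have hKw : ∀ w ∈ W, K ≤ centralizer ({w} : Set G) := fun w hw x hx =>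
    mem_centralizer_singleton.2 (mem_centralizer_iff.1 (hWK hw) x hx)
  have hEcard : Nat.card ↥(K ⊔ zpowers u) = p ^ n := by
    rw [card_sup_of_commute hKu (disjoint_of_fix_inv hp hp2 (hKw w₁ hw₁W) hK.2
      (inv_zpowers hinv)), card_zpowers_of_pow hp hup hu1, hcard]
  have hw₀1 : w₀ ≠ 1 := fun h => hmove (by rw [hw₀', h]; simp)
  refine ⟨?_, ?_⟩
  · rcases hu0 with ⟨h, -⟩ | ⟨-, h⟩
    · exact ⟨w₀', hw₀'W, fun e => hw₀1 (conj_eq_one_iff.1 e), _, hE, hEcard,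
        fix_sup (hKw _ hw₀'W) (fix_zpowers h)⟩
    · exact ⟨w₀, hw₀, hw₀1, _, hE, hEcard, fix_sup (hKw _ hw₀) (fix_zpowers h)⟩
  by_contra h8
  rw [not_lt] at h8
  -- a second eigen-element commuting with the first
  obtain ⟨w₂, hw₂W, hw₂⟩ : ∃ w ∈ W, w * v₀ * w⁻¹ = v₀⁻¹ := by
    refine ⟨c⁻¹ * w₁ * c, ?_, (hv₀sgn _ ?_).2 ?_⟩
    · have := conj_mem_of_mem_normalizer (inv_mem hcW) hw₁W
      rwa [inv_inv] at this
    · have := conj_mem_of_mem_normalizer (inv_mem hcW) hw₁W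
      rwa [inv_inv] at this
    · rw [show c * (c⁻¹ * w₁ * c) * c⁻¹ = w₁ by group]; exact hinv
  have hv₀1 : v₀ ≠ 1 := fun h => hu1 (by
    rw [show u = c * v₀ * c⁻¹ by rw [hv₀]; group, h]; simp)
  have hdist : (w₀ * u * w₀⁻¹ = u⁻¹ ∧ w₀ * v₀ * w₀⁻¹ = v₀) ∨
      (w₀ * u * w₀⁻¹ = u ∧ w₀ * v₀ * w₀⁻¹ = v₀⁻¹) := by
    rcases hu0 with ⟨h, h'⟩ | ⟨h, h'⟩
    · exact .inl ⟨h', (hv₀sgn w₀ hw₀).1 h⟩
    · exact .inr ⟨h', (hv₀sgn w₀ hw₀).2 h⟩
  obtain ⟨v, hvD, hv1, hcomm, ⟨wv, hwvW, hwv⟩, hvsgn, w, hw, hwuv⟩ :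
      ∃ v ∈ D, v ≠ 1 ∧ u * v = v * u ∧ (∃ w ∈ W, w * v * w⁻¹ = v⁻¹) ∧
        (∀ w ∈ W, w * v * w⁻¹ = v ∨ w * v * w⁻¹ = v⁻¹) ∧
        ∃ w ∈ W, (w * u * w⁻¹ = u⁻¹ ∧ w * v * w⁻¹ = v) ∨
          (w * u * w⁻¹ = u ∧ w * v * w⁻¹ = v⁻¹) := by
    have hv₀s : ∀ w ∈ W, w * v₀ * w⁻¹ = v₀ ∨ w * v₀ * w⁻¹ = v₀⁻¹ := fun w hw =>
      (hsgn _ (conj_mem_of_mem_normalizer hcW hw)).imp (hv₀sgn w hw).1 (hv₀sgn w hw).2
    by_cases hc : u * v₀ = v₀ * u
    · exact ⟨v₀, hv₀D, hv₀1, hc, ⟨w₂, hw₂W, hw₂⟩, hv₀s, w₀, hw₀, hdist⟩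
    set d := ⁅u, v₀⁆ with hd
    have hdc := hDc u huD v₀ hv₀D
    have hdD : d ∈ D := D.mul_mem (D.mul_mem (D.mul_mem huD hv₀D) (D.inv_mem huD))
      (D.inv_mem hv₀D)
    have hd1 : d ≠ 1 := fun h => hc (commutatorElement_eq_one_iff_mul_comm.1 h)
    have e1 : ⁅u⁻¹, v₀⁆ = d⁻¹ := commutator_inv_left_eq (hdc u huD)
    have e2 : ⁅u, v₀⁻¹⁆ = d⁻¹ := commutator_inv_right_eq (hdc v₀ hv₀D)
    have e3 : ⁅u⁻¹, v₀⁻¹⁆ = d := by
      rw [commutator_inv_right_eq (by rw [e1]; exact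
        ((show Commute d v₀ from hdc v₀ hv₀D).inv_left).eq), e1, inv_inv]
    refine ⟨d, hdD, hd1, (hdc u huD).symm, ⟨w₀, hw₀, ?_⟩, fun w hw => ?_, w₂, hw₂W, ?_⟩
    · rw [hd, conj_commutator]
      rcases hdist with ⟨h, h'⟩ | ⟨h, h'⟩ <;> rw [h, h']
      exacts [e1, e2]
    · rw [hd, conj_commutator]
      rcases hsgn w hw with h | h <;> rcases hv₀s w hw with h' | h' <;> rw [h, h']
      exacts [.inl rfl, .inr e2, .inr e1, .inl e3]
    · rcases hsgn w₂ hw₂W with h | h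
      · exact .inr ⟨h, by rw [hd, conj_commutator, h, hw₂]; exact e2⟩
      · exact .inl ⟨h, by rw [hd, conj_commutator, h, hw₂]; exact e3⟩
  have hvp := hDe v hvD
  have hKv : ∀ x ∈ K, ∀ y ∈ zpowers v, x * y = y * x := fun x hx y hy =>
    (mem_centralizer_iff.1 (zpowers_le.2 (hDU hvD).2 hy) x hx)
  have huv : ∀ x ∈ zpowers u, ∀ y ∈ zpowers v, x * y = y * x := by
    intro x hx y hy
    obtain ⟨i, rfl⟩ := mem_zpowers_iff.1 hx
    obtain ⟨j, rfl⟩ := mem_zpowers_iff.1 hy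
    exact ((show Commute u v from hcomm).zpow_zpow i j).eq
  have hKuv : ∀ x ∈ K ⊔ zpowers u, ∀ y ∈ zpowers v, x * y = y * x := fun x hx y hy => by
    obtain ⟨k, hk, z, hz, rfl⟩ := (mem_sup_of_commute hKu).1 hx
    exact ((show Commute k y from hKv k hk y hy).mul_left (huv z hz y hy)).eq
  have hbig : Nat.card ↥(K ⊔ zpowers u ⊔ zpowers v) = p ^ n * p := by
    rcases hwuv with ⟨h, h'⟩ | ⟨h, h'⟩
    · have hKvu : ∀ x ∈ K ⊔ zpowers v, ∀ y ∈ zpowers u, x * y = y * x := fun x hx y hy => by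
        obtain ⟨k, hk, z, hz, rfl⟩ := (mem_sup_of_commute hKv).1 hx
        exact ((show Commute k y from hKu k hk y hy).mul_left (huv y hy z hz).symm).eq
      rw [sup_assoc, sup_comm (zpowers u), ← sup_assoc, card_sup_of_commute hKvu
          (disjoint_of_fix_inv hp hp2 (fix_sup (hKw w hw) (fix_zpowers h'))
            (hK.sup (elem_zpowers hvp) hKv).2 (inv_zpowers h)),
        card_sup_of_commute hKv (disjoint_of_fix_inv hp hp2 (hKw wv hwvW) hK.2 (inv_zpowers hwv)),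
        card_zpowers_of_pow hp hvp hv1, card_zpowers_of_pow hp hup hu1, hcard]
    · rw [card_sup_of_commute hKuv (disjoint_of_fix_inv hp hp2
        (fix_sup (hKw w hw) (fix_zpowers h)) hE.2 (inv_zpowers h')), hEcard,
        card_zpowers_of_pow hp hvp hv1]
  -- an involution centralising all of it
  obtain ⟨w₃, hw₃, hw₃1, hu₃, hv₃⟩ :
      ∃ w ∈ W, w ≠ 1 ∧ w * u * w⁻¹ = u ∧ w * v * w⁻¹ = v := by
    classical
    haveI := Fintype.ofFinite W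
    obtain ⟨⟨x, hx⟩, ⟨y, hy⟩, hne, he⟩ :=
      Fintype.exists_ne_map_eq_of_card_lt (α := W) (β := Bool × Bool)
        (f := fun w => (decide ((w : G) * u * (w : G)⁻¹ = u), decide ((w : G) * v * (w : G)⁻¹ = v)))
        (by rw [Fintype.card_prod, Fintype.card_bool, ← Nat.card_eq_fintype_card]; omega)
    simp only [Prod.mk.injEq, decide_eq_decide] at he
    refine ⟨x * y, W.mul_mem hx hy, fun e => hne (Subtype.ext ?_), fix_of_mul ?_, fix_of_mul ?_⟩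
    · exact (mul_eq_one_iff_eq_inv.1 e).trans (hW.inv_eq hy)
    · by_cases hh : x * u * x⁻¹ = u
      · exact .inl ⟨hh, he.1.1 hh⟩
      · exact .inr ⟨(hsgn x hx).resolve_left hh,
          (hsgn y hy).resolve_left fun h => hh (he.1.2 h)⟩
    · by_cases hh : x * v * x⁻¹ = v
      · exact .inl ⟨hh, he.2.1 hh⟩
      · exact .inr ⟨(hvsgn x hx).resolve_left hh,
          (hvsgn y hy).resolve_left fun h => hh (he.2.2 h)⟩
  have := H.bound (K ⊔ zpowers u ⊔ zpowers v) (zpowers w₃) (hE.sup (elem_zpowers hvp) hKuv)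
    (elem_zpowers (hW.2 w₃ hw₃)).isPGroup (by simpa using hw₃1) (by
      refine le_trans ?_ (centralizer_le_normalizer _)
      rw [zpowers_eq_closure w₃, centralizer_closure]
      exact fix_sup (fix_sup (hKw _ hw₃) (fix_zpowers hu₃)) (fix_zpowers hv₃))
  rw [hbig] at this
  have hpos : 0 < p ^ n := pow_pos hp.pos n
  nlinarith [hp.two_le]

end CfsgLib.KlingerMason
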