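import Cfsg.Agent.Lib.KlingerMason.NoExtra

/-!
The theorem of Klinger and Mason: orders of `C_R(a)` and the weight spaces of
`⟨z, s₁s₂, t₁t₂⟩`.
-/

set_option autoImplicit false
set_option linter.style.haveILetI false
set_option linter.unusedSectionVars false

namespace CfsgLib.KlingerMason

open Cfsg Subgroup
open scoped commutatorElement

variable {G : Type*} [Group G] [Finite G] {n : ℕ} {z a : G} {A D : Subgroup G}

/-- A pair has a live hyperplane missing any given nontrivial element. -/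
theorem exists_live_notMem (H : Hyp 3 n G) (P : IsPair 3 n z A) {h : G} (hh : h ∈ A)
    (h1 : h ≠ 1) : ∃ K, Live 3 z A K ∧ h ∉ K := by
  by_contra hcon
  simp only [not_exists, not_and, not_not] at hcon
  have hzh : z ∈ centralizer ({h} : Set G) := mem_centralizer_singleton.2 (P.z_comm hh).symm
  have hle : R1 z A ≤ centralizer ({h} : Set G) := R1_inf_le H P le_normalizer_R1 le_rfl hzh
    fun K hK x hx => by
      by_cases hl : Live 3 z A K
      · exact centralizer_le (Set.singleton_subset_iff.2 (hcon K hl)) hx.2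
      · exact zpowers_le.2 hzh (not_not.1 (fun h' => hl ⟨hK, h'⟩) hx)
  exact h1 (eq_one_of_centralizes_R1 H P hh
    (mem_centralizer_iff.2 fun x hx => mem_centralizer_singleton.1 (hle hx)))

theorem eight_le_TH (H : Hyp 3 n G) (P : IsPair 3 n z A) {K : Subgroup G} (hK : Live 3 z A K) :
    8 ≤ Nat.card (TH z A K) := by
  haveI := Fact.mk Nat.prime_two
  obtain ⟨s, c, hc, q⟩ := exists_qpair H P hK
  have ho : orderOf s = 2 ^ (1 + 1) := orderOf_eq_prime_pow
    (by rw [pow_one, q.sq]; exact P.z_ne_one) (by rw [pow_add, pow_mul, pow_one, q.sq, P.z_sq])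
  have hlt : Nat.card (zpowers s) < Nat.card (TH z A K) := lt_of_not_ge fun hge => by
    have h' := (eq_of_le_of_card_ge (zpowers_le.2 q.mem) hge).ge q.mem'
    refine P.z_ne_one (q.comm.symm.trans (commutatorElement_eq_one_iff_mul_comm.2 ?_))
    obtain ⟨i, hi⟩ := mem_zpowers_iff.1 h'
    rw [← hi]
    exact ((Commute.refl s).zpow_right i).eq
  rw [Nat.card_zpowers, ho] at hlt
  obtain ⟨j, hj⟩ := IsPGroup.iff_card.1
    ((isPGroup_cR z).to_le ((inf_le_left : TH z A K ≤ R1 z A).trans (R1_le P)))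
  rw [show Nat.card ↥(TH z A K) = 2 ^ j from hj] at hlt ⊢
  calc 8 = 2 ^ 3 := rfl
    _ ≤ 2 ^ j := Nat.pow_le_pow_right two_pos ((Nat.pow_lt_pow_iff_right one_lt_two).1 hlt)

theorem TH_card_le (H : Hyp 3 n G) (P : IsPair 3 n z A) {K : Subgroup G} (hK : Live 3 z A K) :
    Nat.card (TH z A K) ≤ 8 := by
  classical
  obtain ⟨s, c, -, -, hsm, -⟩ := small_all H P hK
  set t := c * s * c⁻¹
  let F : Finset G := {1, z * 1, s, z * s, t, z * t, s * t, z * (s * t)}
  have hsub : (TH z A K : Set G) ⊆ ↑F := fun x hx => by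
    rcases hsm x hx with h | h | h | h <;> rcases h with rfl | rfl <;> simp [F]
  calc Nat.card (TH z A K) = (TH z A K : Set G).ncard := rfl
    _ ≤ (↑F : Set G).ncard := Set.ncard_le_ncard hsub F.finite_toSet
    _ = F.card := Set.ncard_coe_finset F
    _ ≤ 8 := by
      refine (Finset.card_insert_le _ _).trans (Nat.succ_le_succ ?_)
      repeat (refine (Finset.card_insert_le _ _).trans (Nat.succ_le_succ ?_))
      simp

theorem two_mul_card_sup_le (hz2 : orderOf z = 2) {X Y : Subgroup G}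
    (hc : ∀ x ∈ X, ∀ y ∈ Y, x * y = y * x) (hzX : z ∈ X) (hzY : z ∈ Y) :
    2 * Nat.card ↥(X ⊔ Y) ≤ Nat.card X * Nat.card Y := by
  rw [← Coprime.card_sup_mul_card_inf (le_normalizer_of_commute hc), mul_comm]
  refine Nat.mul_le_mul_left _ ?_
  calc 2 = Nat.card (zpowers z) := by rw [Nat.card_zpowers, hz2]
    _ ≤ Nat.card ↥(X ⊓ Y) :=
      card_le_of_le (zpowers_le.2 (mem_inf.2 ⟨hzX, hzY⟩))

theorem le_two_mul_card_sup (hz2 : orderOf z = 2) {X Y : Subgroup G}
    (hc : ∀ x ∈ X, ∀ y ∈ Y, x * y = y * x) (hd : X ⊓ Y ≤ zpowers z) :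
    Nat.card X * Nat.card Y ≤ 2 * Nat.card ↥(X ⊔ Y) := by
  rw [← Coprime.card_sup_mul_card_inf (le_normalizer_of_commute hc), mul_comm]
  refine Nat.mul_le_mul_right _ ?_
  calc Nat.card ↥(X ⊓ Y) ≤ Nat.card (zpowers z) := card_le_of_le hd
    _ = 2 := by rw [Nat.card_zpowers, hz2]

theorem sup_commute {X Y Z : Subgroup G} (hXZ : ∀ x ∈ X, ∀ y ∈ Z, x * y = y * x)
    (hYZ : ∀ x ∈ Y, ∀ y ∈ Z, x * y = y * x) : ∀ x ∈ X ⊔ Y, ∀ y ∈ Z, x * y = y * x :=
  fun x hx y hy => mem_centralizer_singleton.1 ((sup_le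
    (fun u hu => mem_centralizer_singleton.2 (hXZ u hu y hy))
    (fun u hu => mem_centralizer_singleton.2 (hYZ u hu y hy)) :
      X ⊔ Y ≤ centralizer ({y} : Set G)) hx)

theorem thirtytwo_le (H : Hyp 3 n G) (P : IsPair 3 n z A) {K L : Subgroup G}
    (hK : Live 3 z A K) (hL : Live 3 z A L) (hne : K ≠ L) :
    32 ≤ Nat.card ↥(TH z A K ⊔ TH z A L) := by
  have hc := TH_commute H P hK.1 hL.1 hne
  have h := le_two_mul_card_sup P.order_z hc fun x hx =>
    TH_nondeg H P hK.1 hx.1 fun y hy => (hc y hy x hx.2).symm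
  have := Nat.mul_le_mul (eight_le_TH H P hK) (eight_le_TH H P hL)
  omega

theorem one_twenty_eight_le (H : Hyp 3 n G) (P : IsPair 3 n z A) {K L M : Subgroup G}
    (hK : Live 3 z A K) (hL : Live 3 z A L) (hM : Live 3 z A M) (hKL : K ≠ L) (hKM : K ≠ M)
    (hLM : L ≠ M) : 128 ≤ Nat.card ↥(TH z A K ⊔ TH z A L ⊔ TH z A M) := by
  have hc := sup_commute (TH_commute H P hK.1 hM.1 hKM) (TH_commute H P hL.1 hM.1 hLM)
  have h := le_two_mul_card_sup P.order_z hc fun x hx =>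
    TH_nondeg H P hM.1 hx.2 fun y hy => hc x hx.1 y hy
  have := Nat.mul_le_mul (thirtytwo_le H P hK hL hKL) (eight_le_TH H P hM)
  omega

theorem TH_le_cB (P : IsPair 3 n z A) {K : Subgroup G} {y : G} (hy : y ∈ K) :
    TH z A K ≤ cB z y :=
  fun _ hx => ⟨R1_le P hx.1, centralizer_le (Set.singleton_subset_iff.2 hy) hx.2⟩

section

variable (H : Hyp 3 n G) (T : MaxTriple 3 n z a A) (hD : Good 3 z a D)
include H T hD

/-- `C_R(a)` is generated by the quaternion groups through `a`. -/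
theorem cB_le {X : Subgroup G} (hzX : z ∈ X)
    (hX : ∀ K, Live 3 z A K → a ∈ K → TH z A K ≤ X) : cB z a ≤ X := by
  have P := T.pair
  have key : R1 z A ⊓ centralizer ({a} : Set G) ≤ X := by
    refine R1_inf_le H P (Coprime.le_normalizer_inf_inf le_normalizer_R1
      (fun g hg => le_normalizer (mem_centralizer_singleton.2 (P.elem.1 g hg a T.mem))))
      inf_le_left hzX fun K hK x hx => ?_
    by_cases haK : a ∈ K
    · by_cases hl : Live 3 z A K
      · exact hX K hl haK ⟨hx.1.1, hx.2⟩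
      · exact zpowers_le.2 hzX (not_not.1 (fun h' => hl ⟨hK, h'⟩) ⟨hx.1.1, hx.2⟩)
    · refine zpowers_le.2 hzX ((sympl_core H P).2.2.1 x hx.1.1 ?_)
      rw [← sup_zpowers_eq H P hK T.mem haK]
      exact mem_centralizer_sup hx.2 (conj_eq_iff.2 (mem_centralizer_singleton.1 hx.1.2).symm)
  rintro r ⟨hr, hra⟩
  obtain ⟨c, hcA, hrc⟩ := decomp H P hr
  have hcz := cR_inf_centralizer H T hD hcA
  have hca : c ∈ centralizer ({a} : Set G) :=
    centralizer_le (Set.singleton_subset_iff.2 T.mem) hcA.2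
  have h1 := key ⟨hrc, Subgroup.mul_mem _ hra (Subgroup.inv_mem _ hca)⟩
  simpa using X.mul_mem h1 (zpowers_le.2 hzX hcz)

theorem card_cB_le_two {K L : Subgroup G} (hK : Live 3 z A K) (hL : Live 3 z A L) (hne : K ≠ L)
    (hall : ∀ M, Live 3 z A M → a ∈ M → M = K ∨ M = L) : Nat.card (cB z a) ≤ 32 := by
  have P := T.pair
  have hle : cB z a ≤ TH z A K ⊔ TH z A L :=
    cB_le H T hD (mem_sup_left (z_mem_TH H P hK.1.1)) fun M hM haM => by
      rcases hall M hM haM with rfl | rfl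
      · exact le_sup_left
      · exact le_sup_right
  have h1 := two_mul_card_sup_le P.order_z (TH_commute H P hK.1 hL.1 hne)
    (z_mem_TH H P hK.1.1) (z_mem_TH H P hL.1.1)
  have h2 := card_le_of_le hle
  have := Nat.mul_le_mul (TH_card_le H P hK) (TH_card_le H P hL)
  omega

theorem card_cB_le : Nat.card (cB z a) ≤ 128 := by
  have P := T.pair
  obtain ⟨K, L, hK, hL, haK, haL, hne⟩ := exists_two_live H T
  by_cases h3 : ∃ M, Live 3 z A M ∧ a ∈ M ∧ M ≠ K ∧ M ≠ L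
  · obtain ⟨M, hM, haM, hMK, hML⟩ := h3
    have hle : cB z a ≤ TH z A K ⊔ TH z A L ⊔ TH z A M :=
      cB_le H T hD (mem_sup_right (z_mem_TH H P hM.1.1)) fun N hN haN => by
        by_cases hNK : N = K
        · subst hNK; exact le_sup_left.trans le_sup_left
        by_cases hNL : N = L
        · subst hNL; exact le_sup_right.trans le_sup_left
        by_cases hNM : N = M
        · subst hNM; exact le_sup_right
        exact (no_four H T hD hK hL hM hN haK haL haM haN hne hMK.symm (Ne.symm hNK)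
          hML.symm (Ne.symm hNL) (Ne.symm hNM)).elim
    have h1 := two_mul_card_sup_le P.order_z (TH_commute H P hK.1 hL.1 hne)
      (z_mem_TH H P hK.1.1) (z_mem_TH H P hL.1.1)
    have h2 := two_mul_card_sup_le P.order_z
      (sup_commute (TH_commute H P hK.1 hM.1 hMK.symm) (TH_commute H P hL.1 hM.1 hML.symm))
      (mem_sup_left (z_mem_TH H P hK.1.1)) (z_mem_TH H P hM.1.1)
    have h3 := card_le_of_le hle
    have h4 := Nat.mul_le_mul (TH_card_le H P hK) (TH_card_le H P hL)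
    have h5 : Nat.card ↥(TH z A K ⊔ TH z A L) * Nat.card (TH z A M) ≤ 32 * 8 :=
      Nat.mul_le_mul (by omega) (TH_card_le H P hM)
    omega
  · have := card_cB_le_two H T hD hK hL hne fun M hM haM => by
      by_contra hcon
      exact h3 ⟨M, hM, haM, fun e => hcon (Or.inl e), fun e => hcon (Or.inr e)⟩
    omega

end

/-- Two quaternion pairs through `a`. -/
structure Frame (z a : G) (A K L : Subgroup G) (s₁ t₁ s₂ t₂ : G) : Prop where
  liveK : Live 3 z A K
  liveL : Live 3 z A L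
  aK : a ∈ K
  aL : a ∈ L
  ne : K ≠ L
  q₁ : QPair z A K s₁ t₁
  q₂ : QPair z A L s₂ t₂

theorem exists_frame (H : Hyp 3 n G) (T : MaxTriple 3 n z a A) :
    ∃ K L s₁ t₁ s₂ t₂, Frame z a A K L s₁ t₁ s₂ t₂ := by
  obtain ⟨K, L, hK, hL, haK, haL, hne⟩ := exists_two_live H T
  obtain ⟨s₁, c₁, -, q₁⟩ := exists_qpair H T.pair hK
  obtain ⟨s₂, c₂, -, q₂⟩ := exists_qpair H T.pair hL
  exact ⟨K, L, s₁, _, s₂, _, hK, hL, haK, haL, hne, q₁, q₂⟩

/-- `x` lies in the weight space fixed by `w` and `w'`. -/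
structure Wt (z : G) (D : Subgroup G) (w w' x : G) : Prop where
  mem : x ∈ D
  inv : z * x * z⁻¹ = x⁻¹
  fix : w * x * w⁻¹ = x
  fix' : w' * x * w'⁻¹ = x

variable {K L : Subgroup G} {s₁ t₁ s₂ t₂ : G}

/-- The elementary group, toggles and relations of a frame. -/
structure FrameFacts (z a : G) (A K L : Subgroup G) (s₁ t₁ w w' : G) : Prop where
  sq : w ^ 2 = 1
  sq' : w' ^ 2 = 1
  ne_one : w ≠ 1
  comm : w * w' = w' * w
  cR_mem : w ∈ cR z
  cR_mem' : w' ∈ cR z
  cent : w ∈ centralizer ((K ⊓ L : Subgroup G) : Set G)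
  cent' : w' ∈ centralizer ((K ⊓ L : Subgroup G) : Set G)
  tog_s : Tog z a (K ⊓ L) s₁
  tog_t : Tog z a (K ⊓ L) t₁
  s_comm : s₁ * w = w * s₁
  t_comm : t₁ * w' = w' * t₁
  t_anti : Anti z t₁ w
  s_anti : Anti z s₁ w'
  aw : w * a = a * w
  aw' : w' * a = a * w'
  z_cent : z ∈ centralizer ((K ⊓ L : Subgroup G) : Set G)

theorem Frame.facts (H : Hyp 3 n G) (P : IsPair 3 n z A) (f : Frame z a A K L s₁ t₁ s₂ t₂) :
    FrameFacts z a A K L s₁ t₁ (s₁ * s₂) (t₁ * t₂) := by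
  have hzz := zz H P
  have x₁₂ := TH_commute H P f.liveK.1 f.liveL.1 f.ne
  have hR : ∀ {L x}, x ∈ TH z A L → x * z = z * x := fun hx => P.cR_comm (R1_le P hx.1)
  have sq : ∀ {x y : G}, x ^ 2 = z → y ^ 2 = z → x * y = y * x → (x * y) ^ 2 = 1 :=
    fun hx hy h => by rw [(show Commute _ _ from h).mul_pow, hx, hy, hzz]
  have ta : Anti z t₁ (s₁ * s₂) :=
    (anti_of_comm H P (f.q₁.symm H P).comm).mul_right (x₁₂ _ f.q₁.mem' _ f.q₂.mem)
  have sa : Anti z s₁ (t₁ * t₂) :=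
    (anti_of_comm H P f.q₁.comm).mul_right (x₁₂ _ f.q₁.mem _ f.q₂.mem')
  have cK : ∀ {x}, x ∈ TH z A K → x ∈ centralizer ((K ⊓ L : Subgroup G) : Set G) := fun hx =>
    centralizer_le (SetLike.coe_subset_coe.2 inf_le_left) hx.2
  have cL : ∀ {x}, x ∈ TH z A L → x ∈ centralizer ((K ⊓ L : Subgroup G) : Set G) := fun hx =>
    centralizer_le (SetLike.coe_subset_coe.2 inf_le_right) hx.2
  have ca : ∀ {x}, x ∈ centralizer ((K ⊓ L : Subgroup G) : Set G) → x * a = a * x := fun hx =>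
    (mem_centralizer_iff.1 hx a ⟨f.aK, f.aL⟩).symm
  exact
    { sq := sq f.q₁.sq f.q₂.sq (x₁₂ _ f.q₁.mem _ f.q₂.mem)
      sq' := sq f.q₁.sq' f.q₂.sq' (x₁₂ _ f.q₁.mem' _ f.q₂.mem')
      ne_one := ta.ne_one P.z_ne_one
      comm := Anti.mul_commute hzz sa ((anti_of_comm H P f.q₂.comm).mul_left
        (x₁₂ _ f.q₁.mem' _ f.q₂.mem).symm (hR f.q₁.mem')) (hR f.q₁.mem)
      cR_mem := mul_mem (R1_le P f.q₁.mem.1) (R1_le P f.q₂.mem.1)
      cR_mem' := mul_mem (R1_le P f.q₁.mem'.1) (R1_le P f.q₂.mem'.1)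
      cent := mul_mem (cK f.q₁.mem) (cL f.q₂.mem)
      cent' := mul_mem (cK f.q₁.mem') (cL f.q₂.mem')
      tog_s := tog_of_mem inf_le_left ⟨f.aK, f.aL⟩ (R1_le P f.q₁.mem.1) f.q₁.mem.2
      tog_t := tog_of_mem inf_le_left ⟨f.aK, f.aL⟩ (R1_le P f.q₁.mem'.1) f.q₁.mem'.2
      s_comm := ((Commute.refl s₁).mul_right (x₁₂ _ f.q₁.mem _ f.q₂.mem)).eq
      t_comm := ((Commute.refl t₁).mul_right (x₁₂ _ f.q₁.mem' _ f.q₂.mem')).eq
      t_anti := ta
      s_anti := sa
      aw := ca (mul_mem (cK f.q₁.mem) (cL f.q₂.mem))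
      aw' := ca (mul_mem (cK f.q₁.mem') (cL f.q₂.mem'))
      z_cent := mem_centralizer_iff.2 fun x hx => P.z_comm (f.liveK.1.1 hx.1) }

section

variable (H : Hyp 3 n G) (T : MaxTriple 3 n z a A) (hD : Good 3 z a D)
include H T hD

theorem conj_inv_of_comm {g x : G} (hg : g * z = z * g) (hx : z * x * z⁻¹ = x⁻¹) :
    z * (g * x * g⁻¹) * z⁻¹ = (g * x * g⁻¹)⁻¹ := by
  calc z * (g * x * g⁻¹) * z⁻¹ = (z * g) * x * (z * g)⁻¹ := by group
    _ = g * (z * x * z⁻¹) * g⁻¹ := by rw [← hg]; group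
    _ = _ := by rw [hx]; group

/-- A nontrivial element of the weight space centralised by `K ⊓ L`. -/
theorem exists_wt {w w' : G} (F : FrameFacts z a A K L s₁ t₁ w w') (hKA : K ≤ A)
    (haKL : a ∈ K ⊓ L) :
    ∃ u, Wt z D w w' u ∧ u ≠ 1 ∧ ∀ k ∈ K ⊓ L, k * u = u * k := by
  have P := T.pair
  have hzc : ∀ {x}, x ∈ cR z → zpowers z ≤ centralizer ({x} : Set G) := fun hx =>
    zpowers_le.2 (mem_centralizer_singleton.2 (P.cR_comm hx).symm)
  set W := zpowers z ⊔ zpowers w ⊔ zpowers w' with hW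
  have hWe : Elem 2 W := ((elem_zpowers P.z_sq).adjoin F.sq (hzc F.cR_mem)).adjoin F.sq'
    (sup_le (hzc F.cR_mem') (zpowers_le.2 (mem_centralizer_singleton.2 F.comm)))
  have hzW : z ∈ W := mem_sup_left (mem_sup_left (mem_zpowers z))
  have hwW : w ∈ W := mem_sup_left (mem_sup_right (mem_zpowers w))
  have hw'W : w' ∈ W := mem_sup_right (mem_zpowers w')
  have hWK : W ≤ centralizer ((K ⊓ L : Subgroup G) : Set G) :=
    sup_le (sup_le (zpowers_le.2 F.z_cent) (zpowers_le.2 F.cent)) (zpowers_le.2 F.cent')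
  have htW : ∀ v ∈ W, t₁⁻¹ * v * t₁ ∈ W := by
    have hsub : W ≤ W.comap (MulAut.conj t₁⁻¹).toMonoidHom := by
      refine sup_le (sup_le (zpowers_le.2 ?_) (zpowers_le.2 ?_)) (zpowers_le.2 ?_) <;>
        simp only [mem_comap, MulEquiv.coe_toMonoidHom, MulAut.conj_apply, inv_inv]
      · rw [conj_eq_of_commute F.tog_t.tz]; exact hzW
      · rw [conj_of_anticommute P.z_inv F.tog_t.tz F.t_anti]; exact mul_mem hzW hwW
      · rw [conj_eq_of_commute F.t_comm]; exact hw'W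
    intro v hv
    simpa using hsub hv
  obtain ⟨E, hE, hEc, hEfix, hEs⟩ := toggle_base H T hD ((inf_le_left : K ⊓ L ≤ K).trans hKA)
    haKL hWe hzW hWK hwW F.tog_t htW F.t_anti
  obtain ⟨u, hu, hu1⟩ := (bot_or_exists_ne_one E).resolve_left fun h => by
    rw [h, card_bot] at hEc; omega
  rcases hEs w' hw'W with h | h
  · exact ⟨u, ⟨hE.le hu, hE.inv u hu, hEfix u hu, h u hu⟩, hu1, fun k hk => hE.comm k hk u hu⟩
  · have hC := hE.conj H T hD F.tog_s.tz F.tog_s.ta F.tog_s.tK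
    have hm : s₁ * u * s₁⁻¹ ∈ conjG s₁ E := mem_conjG.2 ⟨u, hu, rfl⟩
    refine ⟨_, ⟨hC.le hm, hC.inv _ hm, fix_conjG ?_ _ hm, fix_conjG ?_ _ hm⟩,
      fun e => hu1 (conj_eq_one_iff.1 e), fun k hk => hC.comm k hk _ hm⟩
    · rw [conj_eq_of_commute F.s_comm]; exact hEfix
    · rw [conj_of_anticommute P.z_inv F.tog_s.tz F.s_anti]; exact fix_zmul hE.inv h

/-- Commuting elements of the weight space are dependent. -/
theorem wt_dependent {w w' : G} (F : FrameFacts z a A K L s₁ t₁ w w') {u x : G}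
    (hu : Wt z D w w' u) (hu1 : u ≠ 1) (hx : Wt z D w w' x) (hc : u * x = x * u) :
    x ∈ zpowers u := by
  by_contra hne
  have hup := hD.pow u hu.mem
  have hxp := hD.pow x hx.mem
  have hx1 : x ≠ 1 := fun e => hne (e ▸ one_mem _)
  have hcc : ∀ y ∈ zpowers u, ∀ v ∈ zpowers x, y * v = v * y := fun y hy v hv => by
    obtain ⟨i, rfl⟩ := mem_zpowers_iff.1 hy
    obtain ⟨j, rfl⟩ := mem_zpowers_iff.1 hv
    exact ((show Commute u x from hc).zpow_zpow i j).eq
  have hd : zpowers u ⊓ zpowers x = ⊥ := by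
    rw [eq_bot_iff_forall]
    intro y hy
    by_contra hy1
    exact hne (zpowers_le.2 hy.1 ((eq_of_le_of_card_ge (zpowers_le.2 hy.2) (by
      rw [card_zpowers_of_pow H.prime hxp hx1,
        card_zpowers_of_pow H.prime ((elem_zpowers hxp).2 y hy.2) hy1])).ge (mem_zpowers x)))
  have hE : Elem 3 (zpowers u ⊔ zpowers x) := (elem_zpowers hup).sup (elem_zpowers hxp) hcc
  have hB : Block 3 z D (zpowers a) (zpowers u ⊔ zpowers x) :=
    ⟨hE, sup_le (zpowers_le.2 hu.mem) (zpowers_le.2 hx.mem),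
      Inv.sup hE (inv_zpowers_iff.2 hu.inv) (inv_zpowers_iff.2 hx.inv), fun k hk v hv =>
      (Good.comm_of_mem_zpowers H T hD hk (Good.comm_a H T hD
        ((sup_le (zpowers_le.2 hu.mem) (zpowers_le.2 hx.mem) :
          zpowers u ⊔ zpowers x ≤ D) hv))).symm⟩
  have htog : Tog z a (zpowers a) s₁ := ⟨F.tog_s.tz, F.tog_s.ta, fun k hk =>
    (Good.comm_of_mem_zpowers H T hD hk F.tog_s.ta).symm⟩
  obtain ⟨E, hE', hc', hk⟩ := hB.double H T hD htog.tz htog.ta htog.tK F.aw'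
    (Or.inl ((fix_zpowers_iff.2 hu.fix').sup (fix_zpowers_iff.2 hx.fix'))) F.s_anti
  have hb := hE'.bound H T hD (elem_zpowers T.a_pow)
    (zpowers_le.2 (mem_centralizer_singleton.2 T.az)) F.sq F.ne_one
    (zpowers_le.2 (mem_centralizer_singleton.2 F.aw.symm))
    ((hk w F.s_comm).1 ((fix_zpowers_iff.2 hu.fix).sup (fix_zpowers_iff.2 hx.fix)))
  rw [hc', card_sup_of_commute hcc hd, card_zpowers_of_pow H.prime hup hu1,
    card_zpowers_of_pow H.prime hxp hx1, card_zpowers_of_pow H.prime T.a_pow T.ne_one] at hb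
  have h4 : (3 : ℕ) ^ n ≤ 3 ^ 4 := Nat.pow_le_pow_right (by norm_num) (n_le_four H T hD)
  norm_num at hb h4
  omega

end

end CfsgLib.KlingerMason
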