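import Cfsg.Agent.Lib.KlingerMason.Max

/-!
The theorem of Klinger and Mason: detecting subgroups `D` with `C_D(z) = ⟨a⟩`, on which `z`
inverts modulo `⟨a⟩`.
-/

set_option autoImplicit false
set_option linter.style.haveILetI false
set_option linter.unusedSectionVars false

namespace CfsgLib.KlingerMason

open Cfsg Subgroup
open scoped commutatorElement

variable {G : Type*} [Group G] [Finite G] {p n : ℕ}

/-- A detecting subgroup of `O_p(N(⟨a⟩))` in which `z` centralises only `⟨a⟩`. -/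
structure Good (p : ℕ) (z a : G) (D : Subgroup G) : Prop where
  le : D ≤ cP p a
  pow : ∀ x ∈ D, x ^ p = 1
  norm : centralizer ({a} : Set G) ≤ normalizer (D : Set G)
  detect : ∀ g ∈ centralizer ({a} : Set G), (orderOf g).Coprime p →
    g ∈ centralizer (D : Set G) → g = 1
  mem_a : a ∈ D
  fixed : ∀ x ∈ D, x * z = z * x → x ∈ zpowers a

variable {z a : G} {A D : Subgroup G}

theorem exists_good (H : Hyp p n G) (T : MaxTriple p n z a A) : ∃ D, Good p z a D := by
  have ha := T.a_pow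
  have haC : zpowers a ≤ centralizer ({a} : Set G) :=
    zpowers_le.2 (mem_centralizer_singleton.2 rfl)
  obtain ⟨D₀, hD₀, hD₀p, -, hD₀n, hD₀d⟩ :=
    exists_detecting_inf H (elem_zpowers ha).isPGroup ha T.ne_one (mem_zpowers a) haC
  have hcomm : ∀ x ∈ D₀, ∀ y ∈ zpowers a, x * y = y * x := fun x hx y hy =>
    (mem_centralizer_iff.1 (hD₀ hx).2 y hy).symm
  have hle : D₀ ⊔ zpowers a ≤ cP p a :=
    sup_le (hD₀.trans inf_le_left) (zpowers_le.2 (self_mem_cP ha))
  have hpow : ∀ x ∈ D₀ ⊔ zpowers a, x ^ p = 1 := by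
    intro x hx
    obtain ⟨d, hd, y, hy, rfl⟩ := (mem_sup_of_commute hcomm).1 hx
    rw [(show Commute d y from hcomm d hd y hy).mul_pow, hD₀p d hd, (elem_zpowers ha).2 y hy,
      one_mul]
  refine ⟨D₀ ⊔ zpowers a, hle, hpow, ?_, fun g hg ho hgD => ?_, mem_sup_right (mem_zpowers a),
    fun x hx hxz => MaxTriple.mem_zpowers_a H T (hle hx) hxz (hpow x hx)⟩
  · exact Coprime.le_normalizer_sup_sup
      (fun g hg => hD₀n g hg (centralizer_le_normalizer_zpowers a hg))
      (centralizer_le_normalizer_zpowers a)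
  · refine hD₀d g ?_ ho (centralizer_le (SetLike.coe_subset_coe.2 le_sup_left) hgD)
    rw [zpowers_eq_closure, centralizer_closure]
    exact hg

namespace Good

section

variable (H : Hyp p n G) (T : MaxTriple p n z a A) (hD : Good p z a D)
include H T hD

theorem comm_a {x : G} (hx : x ∈ D) : x * a = a * x :=
  mem_centralizer_singleton.1 (cP_le_centralizer H T.a_pow (hD.le hx))

theorem le_normalizer_a {g : G} (hg : g * a = a * g) : g ∈ normalizer (D : Set G) :=
  hD.norm (mem_centralizer_singleton.2 hg)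

theorem z_conj_mem {x : G} (hx : x ∈ D) : z * x * z⁻¹ ∈ D :=
  conj_mem_of_mem_normalizer (hD.norm T.z_mem_centralizer_a) hx

/-- Two elements inverted by `z` in one coset of `⟨a⟩` are equal. -/
theorem inv_unique {d e : G} (hd : z * d * z⁻¹ = d⁻¹) (he : z * e * z⁻¹ = e⁻¹)
    (hdD : d ∈ D) (hde : d⁻¹ * e ∈ zpowers a) : d = e := by
  obtain ⟨i, hi⟩ := mem_zpowers_iff.1 hde
  have he' : e = d * a ^ i := by rw [hi, mul_inv_cancel_left]
  have hza : Commute z (a ^ i) := (show Commute z a from T.az.symm).zpow_right i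
  have hdai : Commute d (a ^ i) := (show Commute d a from comm_a H T hD hdD).zpow_right i
  have h1 : (a ^ i) * d⁻¹ = (a ^ i)⁻¹ * d⁻¹ := by
    calc a ^ i * d⁻¹ = d⁻¹ * a ^ i := (hdai.inv_left).eq.symm
      _ = (z * d * z⁻¹) * (z * a ^ i * z⁻¹) := by rw [hd, conj_eq_iff.2 hza.eq]
      _ = z * e * z⁻¹ := by rw [he']; group
      _ = (a ^ i)⁻¹ * d⁻¹ := by rw [he, he']; group
  have h2 := eq_one_of_inv_eq H.prime H.ne_two
    ((elem_zpowers T.a_pow).2 _ (zpow_mem (mem_zpowers a) i)) (mul_right_cancel h1).symm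
  rw [he', h2, mul_one]

/-- Every coset of `⟨a⟩` in `D` contains an element inverted by `z`. -/
theorem exists_inv {x : G} (hx : x ∈ D) :
    ∃ d ∈ D, z * d * z⁻¹ = d⁻¹ ∧ d⁻¹ * x ∈ zpowers a := by
  set N := (zpowers a).subgroupOf D
  let f : D → D := fun y => y * ⟨z * (y : G)⁻¹ * z⁻¹, z_conj_mem H T hD (inv_mem y.2)⟩
  have hinv : ∀ y : D, z * (f y : G) * z⁻¹ = (f y : G)⁻¹ := by
    intro y
    have hz2 : z * z = 1 := by rw [← pow_two]; exact T.pair.z_sq
    show z * ((y : G) * (z * (y : G)⁻¹ * z⁻¹)) * z⁻¹ = ((y : G) * (z * (y : G)⁻¹ * z⁻¹))⁻¹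
    rw [T.pair.z_inv]
    calc z * ((y : G) * (z * (y : G)⁻¹ * z)) * z = z * (y : G) * z * (y : G)⁻¹ * (z * z) := by
          group
      _ = z⁻¹ * (y : G) * z⁻¹ * (y : G)⁻¹ := by rw [hz2, mul_one, T.pair.z_inv]
      _ = _ := by simp [mul_assoc, T.pair.z_inv]
  have hwd : ∀ y y' : D, (QuotientGroup.leftRel N).r y y' → f y = f y' := by
    intro y y' h
    rw [QuotientGroup.leftRel_apply, mem_subgroupOf] at h
    obtain ⟨i, hi⟩ := mem_zpowers_iff.1 h
    apply Subtype.ext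
    have hy : (y' : G) = y * a ^ i := by rw [hi]; simp
    show (y : G) * (z * (y : G)⁻¹ * z⁻¹) = (y' : G) * (z * (y' : G)⁻¹ * z⁻¹)
    rw [hy]
    have hza : Commute z ((a ^ i)⁻¹) := ((show Commute z a from T.az.symm).zpow_right i).inv_right
    calc (y : G) * (z * (y : G)⁻¹ * z⁻¹)
        = (y : G) * a ^ i * ((a ^ i)⁻¹ * z) * (y : G)⁻¹ * z⁻¹ := by group
      _ = (y : G) * a ^ i * (z * (a ^ i)⁻¹) * (y : G)⁻¹ * z⁻¹ := by rw [hza.eq]
      _ = _ := by group
  let g : D ⧸ N → D ⧸ N := Quotient.lift (fun y => (f y : D ⧸ N))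
    fun y y' h => congrArg _ (hwd y y' h)
  have hg : Function.Injective g := by
    intro u v
    induction u using QuotientGroup.induction_on with | _ y => ?_
    induction v using QuotientGroup.induction_on with | _ y' => ?_
    intro h
    have h' : (f y : D ⧸ N) = (f y' : D ⧸ N) := h
    rw [QuotientGroup.eq, mem_subgroupOf] at h'
    have he := inv_unique H T hD (hinv y) (hinv y') (f y).2 (by simpa using h')
    rw [QuotientGroup.eq, mem_subgroupOf]
    refine hD.fixed _ (SetLike.coe_mem _) (conj_eq_iff.1 ?_).symm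
    change (y : G) * (z * (y : G)⁻¹ * z⁻¹) = (y' : G) * (z * (y' : G)⁻¹ * z⁻¹) at he
    calc z * ((y⁻¹ * y' : D) : G) * z⁻¹
        = (y : G)⁻¹ * ((y : G) * (z * (y : G)⁻¹ * z⁻¹)) * (z * (y' : G) * z⁻¹) := by
          simp only [Subgroup.coe_mul, InvMemClass.coe_inv]; group
      _ = ((y⁻¹ * y' : D) : G) := by rw [he]; simp only [Subgroup.coe_mul, InvMemClass.coe_inv]; group
  obtain ⟨u, hu⟩ := (Finite.injective_iff_surjective.1 hg) (⟨x, hx⟩ : D)
  induction u using QuotientGroup.induction_on with | _ y => ?_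
  refine ⟨f y, (f y).2, hinv y, ?_⟩
  have h' : (f y : D ⧸ N) = ((⟨x, hx⟩ : D) : D ⧸ N) := hu
  rw [QuotientGroup.eq, mem_subgroupOf] at h'
  simpa using h'

theorem comm_of_mem_zpowers {c x : G} (hc : c ∈ zpowers a) (hx : x * a = a * x) :
    x * c = c * x := by
  obtain ⟨i, rfl⟩ := mem_zpowers_iff.1 hc
  exact ((show Commute x a from hx).zpow_right i).eq

/-- `D / ⟨a⟩` is abelian. -/
theorem commutator_mem {x y : G} (hx : x ∈ D) (hy : y ∈ D) : ⁅x, y⁆ ∈ zpowers a := by
  have key : ∀ d ∈ D, ∀ e ∈ D, z * d * z⁻¹ = d⁻¹ → z * e * z⁻¹ = e⁻¹ →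
      ⁅d⁻¹, e⁻¹⁆ ∈ zpowers a := by
    intro d hd e he hdi hei
    obtain ⟨k, hk, hki, hkde⟩ := exists_inv H T hD (mul_mem hd he)
    obtain ⟨i, hi⟩ := mem_zpowers_iff.1 hkde
    have hde : d * e = k * a ^ i := by rw [hi, mul_inv_cancel_left]
    have hzai : z * a ^ i * z⁻¹ = a ^ i :=
      conj_eq_iff.2 ((show Commute z a from T.az.symm).zpow_right i).eq
    have h1 : d⁻¹ * e⁻¹ = k⁻¹ * a ^ i := by
      calc d⁻¹ * e⁻¹ = z * (d * e) * z⁻¹ := by rw [← hdi, ← hei]; group
        _ = (z * k * z⁻¹) * (z * a ^ i * z⁻¹) := by rw [hde]; group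
        _ = _ := by rw [hki, hzai]
    have h2 : ⁅d⁻¹, e⁻¹⁆ = a ^ i * a ^ i := by
      calc ⁅d⁻¹, e⁻¹⁆ = (d⁻¹ * e⁻¹) * (d * e) := by rw [commutatorElement_def]; group
        _ = k⁻¹ * (a ^ i * k) * a ^ i := by rw [h1, hde]; group
        _ = _ := by
          rw [← comm_of_mem_zpowers H T hD (zpow_mem (mem_zpowers a) i) (comm_a H T hD hk)]
          group
    rw [h2]
    exact mul_mem (zpow_mem (mem_zpowers a) i) (zpow_mem (mem_zpowers a) i)
  obtain ⟨d, hd, hdi, hdx⟩ := exists_inv H T hD hx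
  obtain ⟨e, he, hei, hey⟩ := exists_inv H T hD hy
  obtain ⟨i, hi⟩ := mem_zpowers_iff.1 hdx
  obtain ⟨j, hj⟩ := mem_zpowers_iff.1 hey
  have hx' : x = d * a ^ i := by rw [hi, mul_inv_cancel_left]
  have hy' : y = e * a ^ j := by rw [hj, mul_inv_cancel_left]
  have hc : ∀ w ∈ D, ∀ l : ℤ, Commute w (a ^ l) := fun w hw l =>
    comm_of_mem_zpowers H T hD (zpow_mem (mem_zpowers a) l) (comm_a H T hD hw)
  have h3 : ⁅x, y⁆ = ⁅d, e⁆ := by
    rw [hx', hy', commutatorElement_def]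
    calc d * a ^ i * (e * a ^ j) * (d * a ^ i)⁻¹ * (e * a ^ j)⁻¹
        = d * (a ^ i * (e * a ^ j) * (a ^ i)⁻¹) * d⁻¹ * (a ^ j)⁻¹ * e⁻¹ := by group
      _ = d * (e * a ^ j) * d⁻¹ * (a ^ j)⁻¹ * e⁻¹ := by
          rw [conj_eq_iff.2 (((hc e he i).mul_left
            (((Commute.refl a).zpow_left j).zpow_right i)).symm).eq]
      _ = d * e * (a ^ j * d⁻¹ * (a ^ j)⁻¹) * e⁻¹ := by group
      _ = ⁅d, e⁆ := by
          rw [conj_eq_iff.2 ((hc d⁻¹ (inv_mem hd) j).symm).eq, commutatorElement_def]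
  have h4 := key d⁻¹ (inv_mem hd) e⁻¹ (inv_mem he)
    (by rw [← conj_inv, hdi]) (by rw [← conj_inv, hei])
  rw [inv_inv, inv_inv] at h4
  rwa [h3]

/-- Elements of `D`, one fixed and the other inverted by some element of `C(a)`, commute. -/
theorem commute_of_fix_inv {f g w : G} (hf : f ∈ D) (hg : g ∈ D) (hw : w * a = a * w)
    (hwf : w * f * w⁻¹ = f) (hwg : w * g * w⁻¹ = g⁻¹) : f * g = g * f := by
  have hc := commutator_mem H T hD hf hg
  have hcg : ⁅f, g⁆ * g = g * ⁅f, g⁆ :=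
    (comm_of_mem_zpowers H T hD hc (comm_a H T hD hg)).symm
  have h1 : w * ⁅f, g⁆ * w⁻¹ = ⁅f, g⁆ := conj_eq_iff.2 (comm_of_mem_zpowers H T hD hc hw)
  have h2 : w * ⁅f, g⁆ * w⁻¹ = ⁅f, g⁆⁻¹ := by
    rw [conj_commutator, hwf, hwg, commutator_inv_right_eq hcg]
  exact commutatorElement_eq_one_iff_mul_comm.1
    (eq_one_of_fix_inv H.prime H.ne_two ((elem_zpowers T.a_pow).2 _ hc) h1 h2)

/-- An element of `C(a)` trivial on `D / ⟨a⟩` lies in `O_p(N(⟨a⟩))`. -/
theorem mem_cP_of_trivial {g : G} (hg : g * a = a * g)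
    (ht : ∀ x ∈ D, g * x * g⁻¹ * x⁻¹ ∈ zpowers a) : g ∈ cP p a := by
  haveI := Fact.mk H.prime
  set C := centralizer ({a} : Set G) with hC
  let K : Subgroup G :=
    { carrier := {g | g ∈ C ∧ ∀ x ∈ D, g * x * g⁻¹ * x⁻¹ ∈ zpowers a}
      one_mem' := ⟨one_mem _, fun x _ => by simp⟩
      mul_mem' := fun {g h} hg hh => ⟨mul_mem hg.1 hh.1, fun x hx => by
        have h1 := hg.2 _ (conj_mem_of_mem_normalizer (hD.norm hh.1) hx)
        have h2 := mul_mem h1 (hh.2 x hx)
        convert h2 using 1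
        group⟩
      inv_mem' := fun {g} hg => ⟨inv_mem hg.1, fun x hx => by
        have h1 := inv_mem (hg.2 _ (conj_mem_of_mem_normalizer (hD.norm (inv_mem hg.1)) hx))
        convert h1 using 1
        group⟩ }
  have hKC : K ≤ C := fun g hg => hg.1
  have hKn : C ≤ normalizer (K : Set G) := by
    have key : ∀ c ∈ C, ∀ k ∈ K, c * k * c⁻¹ ∈ K := fun c hc k hk =>
      ⟨mul_mem (mul_mem hc hk.1) (inv_mem hc), fun x hx => by
        have h1 := hk.2 _ (conj_mem_of_mem_normalizer (hD.norm (inv_mem hc)) hx)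
        rw [inv_inv] at h1
        obtain ⟨i, hi⟩ := mem_zpowers_iff.1 h1
        refine mem_zpowers_iff.2 ⟨i, ?_⟩
        rw [← conj_eq_iff.2 ((show Commute c a from mem_centralizer_singleton.1 hc).zpow_right i).eq,
          hi]
        group⟩
    intro c hc
    refine mem_normalizer_iff.2 fun k => ⟨key c hc k, fun h => ?_⟩
    have := key c⁻¹ (inv_mem hc) _ h
    simpa [mul_assoc] using this
  have hKp : IsPGroup p K := by
    rintro ⟨g, hg⟩
    obtain ⟨k, m, hm, he⟩ := Nat.exists_eq_pow_mul_and_not_dvd (orderOf_pos g).ne' p H.prime.ne_one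
    refine ⟨k, Subtype.ext ?_⟩
    show g ^ p ^ k = 1
    set g' := g ^ p ^ k with hg'
    have hg'm : g' ^ m = 1 := by rw [hg', ← pow_mul, ← he, pow_orderOf_eq_one]
    have hg'K : g' ∈ K := pow_mem (show g ∈ K from hg) _
    have hco : m.Coprime p := (H.prime.coprime_iff_not_dvd.2 hm).symm
    refine hD.detect g' hg'K.1 (hco.coprime_dvd_left (orderOf_dvd_of_pow_eq_one hg'm))
      (mem_centralizer_iff.2 fun x hx => (conj_eq_iff.1 ?_).symm)
    set e := g' * x * g'⁻¹ * x⁻¹ with he'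
    have hge : g' * e * g'⁻¹ = e := conj_eq_iff.2
      (comm_of_mem_zpowers H T hD (hg'K.2 x hx) (mem_centralizer_singleton.1 hg'K.1))
    have hpow : ∀ i : ℕ, g' ^ i * x * (g' ^ i)⁻¹ = e ^ i * x := by
      intro i
      induction i with
      | zero => simp
      | succ i ih =>
        calc g' ^ (i + 1) * x * (g' ^ (i + 1))⁻¹ = g' * (g' ^ i * x * (g' ^ i)⁻¹) * g'⁻¹ := by
              rw [pow_succ']; group
          _ = (g' * e * g'⁻¹) ^ i * (g' * x * g'⁻¹) := by rw [ih, conj_pow]; group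
          _ = e ^ i * (e * x) := by rw [hge, he']; group
          _ = e ^ (i + 1) * x := by rw [pow_succ]; group
    have h1 := hpow m
    rw [hg'm, one_mul, inv_one, mul_one] at h1
    have he1 : e = 1 := eq_one_of_pow_eq_one_of_coprime (mul_eq_right.mp h1.symm)
      ((elem_zpowers T.a_pow).2 e (hg'K.2 x hx)) hco
    rw [he'] at he1
    exact mul_inv_eq_one.1 he1
  have h1 : g ∈ (pCore p C).map C.subtype :=
    Base.le_map_pCore hKC hKn hKp (show g ∈ K from ⟨mem_centralizer_singleton.2 hg, ht⟩)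
  refine Base.map_pCore_le_of_normal_subgroupOf (centralizer_le_normalizer_zpowers a) ?_ h1
  rw [normal_subgroupOf_iff_le_normalizer (centralizer_le_normalizer_zpowers a)]
  have hCe : C = centralizer (zpowers a : Set G) := by
    rw [zpowers_eq_closure, centralizer_closure]
  rw [← hC, hCe]
  exact Coprime.le_normalizer_centralizer le_rfl

/-- A `p`-element of `C(a)` inverted by `z` lies in `O_p(N(⟨a⟩))`. -/
theorem mem_cP_of_inv {g : G} (hg : g * a = a * g) {k : ℕ} (hk : g ^ p ^ k = 1)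
    (hi : z * g * z⁻¹ = g⁻¹) : g ∈ cP p a := by
  have hgC : g ∈ centralizer ({a} : Set G) := mem_centralizer_singleton.2 hg
  have hg2 : g * g ∈ cP p a := by
    refine mem_cP_of_trivial H T hD ((show Commute g a from hg).mul_left hg).eq fun x hx => ?_
    -- move the computation to the element inverted by `z` in the coset of `g⁻¹ x g`
    obtain ⟨d, hd, hdi, hdx⟩ := exists_inv H T hD hx
    obtain ⟨e, he, hei, hde⟩ := exists_inv H T hD (conj_mem_of_mem_normalizer (hD.norm hgC) hd)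
    obtain ⟨i, hi'⟩ := mem_zpowers_iff.1 hde
    obtain ⟨j, hj⟩ := mem_zpowers_iff.1 hdx
    have hgd : g * d * g⁻¹ = e * a ^ i := by rw [hi', mul_inv_cancel_left]
    have hzai : z * a ^ i * z⁻¹ = a ^ i :=
      conj_eq_iff.2 ((show Commute z a from T.az.symm).zpow_right i).eq
    have h1 : g⁻¹ * d⁻¹ * g = e⁻¹ * a ^ i := by
      calc g⁻¹ * d⁻¹ * g = (z * g * z⁻¹) * (z * d * z⁻¹) * (z * g * z⁻¹)⁻¹ := by
            rw [hdi, hi, inv_inv]
        _ = z * (g * d * g⁻¹) * z⁻¹ := by group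
        _ = (z * e * z⁻¹) * (z * a ^ i * z⁻¹) := by rw [hgd]; group
        _ = _ := by rw [hei, hzai]
    have hge : g * (a ^ i)⁻¹ = (a ^ i)⁻¹ * g :=
      (((show Commute g a from hg).zpow_right i).inv_right).eq
    have h2 : g⁻¹ * d * g = (a ^ i)⁻¹ * e := by
      calc g⁻¹ * d * g = (g⁻¹ * d⁻¹ * g)⁻¹ := by group
        _ = _ := by rw [h1]; group
    have h3 : (g * g) * d * (g * g)⁻¹ = d * (a ^ i * a ^ i) := by
      have e1 : g * e * g⁻¹ = d * a ^ i := by
        have hed : e = a ^ i * (g⁻¹ * d * g) := by rw [h2, mul_inv_cancel_left]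
        rw [hed]
        calc g * (a ^ i * (g⁻¹ * d * g)) * g⁻¹ = (g * a ^ i * g⁻¹) * d := by group
          _ = a ^ i * d := by
            rw [conj_eq_iff.2 ((show Commute g a from hg).zpow_right i).eq]
          _ = d * a ^ i :=
            (comm_of_mem_zpowers H T hD (zpow_mem (mem_zpowers a) i) (comm_a H T hD hd)).symm
      calc (g * g) * d * (g * g)⁻¹ = g * (g * d * g⁻¹) * g⁻¹ := by group
        _ = (g * e * g⁻¹) * (g * a ^ i * g⁻¹) := by rw [hgd]; group
        _ = _ := by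
          rw [e1, conj_eq_iff.2 ((show Commute g a from hg).zpow_right i).eq, mul_assoc]
    refine mem_zpowers_iff.2 ⟨i + i, ?_⟩
    have hx' : x = d * a ^ j := by rw [hj, mul_inv_cancel_left]
    have hcd := comm_of_mem_zpowers H T hD (zpow_mem (mem_zpowers a) (i + i)) (comm_a H T hD hd)
    have hcg : Commute (g * g) (a ^ j) := (((show Commute g a from hg).mul_left hg)).zpow_right j
    calc a ^ (i + i) = (d * a ^ (i + i)) * d⁻¹ := by rw [hcd]; group
      _ = ((g * g) * d * (g * g)⁻¹) * d⁻¹ := by rw [h3, zpow_add]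
      _ = ((g * g) * d * (g * g)⁻¹) * ((g * g) * a ^ j * (g * g)⁻¹) * (a ^ j)⁻¹ * d⁻¹ := by
          rw [conj_eq_iff.2 hcg.eq]; group
      _ = _ := by rw [hx']; group
  -- `g` is a power of its square
  have ho : (orderOf g).Coprime 2 :=
    (((Nat.coprime_primes H.prime Nat.prime_two).2 H.ne_two).pow_left k).coprime_dvd_left
      (orderOf_dvd_of_pow_eq_one hk)
  obtain ⟨j, hj⟩ := exists_pow_eq_self_of_coprime ho.symm
  rw [← hj]
  exact pow_mem (pow_two g ▸ hg2) j

end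

end Good

end CfsgLib.KlingerMason
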