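import Cfsg.Agent.Lib.KlingerMason.Sympl
import Cfsg.Agent.Lib.PLocal.CyclicMaxApps

/-!
The theorem of Klinger and Mason: a triple `(z, A, a)` with `C_R(a)` as large as possible.
-/

set_option autoImplicit false
set_option linter.style.haveILetI false
set_option linter.unusedSectionVars false

namespace CfsgLib.KlingerMason

open Cfsg Subgroup
open scoped commutatorElement

variable {G : Type*} [Group G] [Finite G] {p n : ℕ}

/-- `C_R(a)` for `R = O_2(C(z))`. -/
def cB (z a : G) : Subgroup G := cR z ⊓ centralizer ({a} : Set G)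

/-- A triple `(z, A, a)` maximising `|C_R(a)|`. -/
structure MaxTriple (p n : ℕ) (z a : G) (A : Subgroup G) : Prop where
  pair : IsPair p n z A
  mem : a ∈ A
  ne_one : a ≠ 1
  max : ∀ (z' a' : G) (A' : Subgroup G), IsPair p n z' A' → a' ∈ A' → a' ≠ 1 →
    Nat.card (cB z' a') ≤ Nat.card (cB z a)

theorem IsPair.exists_ne_one (H : Hyp p n G) {z : G} {A : Subgroup G} (P : IsPair p n z A) :
    ∃ a ∈ A, a ≠ 1 := by
  refine (bot_or_exists_ne_one A).resolve_left fun h => ?_
  have h2 := P.card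
  rw [h, card_bot] at h2
  exact absurd h2.symm (Nat.one_lt_pow (by have := H.three_le; omega) H.prime.one_lt).ne'

theorem exists_maxTriple (H : Hyp p n G) {z : G} {A : Subgroup G} (P : IsPair p n z A) :
    ∃ z a A, MaxTriple p n z a (A : Subgroup G) := by
  obtain ⟨a, ha, ha1⟩ := P.exists_ne_one H
  obtain ⟨⟨z', a', A'⟩, ⟨P', ha', ha1'⟩, hmax⟩ := Set.exists_max_image
    {x : G × G × Subgroup G | IsPair p n x.1 x.2.2 ∧ x.2.1 ∈ x.2.2 ∧ x.2.1 ≠ 1}
    (fun x => Nat.card (cB x.1 x.2.1)) (Set.toFinite _) ⟨(z, a, A), P, ha, ha1⟩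
  exact ⟨z', a', A', P', ha', ha1', fun z₂ a₂ A₂ h1 h2 h3 => hmax (z₂, a₂, A₂) ⟨h1, h2, h3⟩⟩

namespace MaxTriple

variable {z a : G} {A : Subgroup G}

theorem a_pow (T : MaxTriple p n z a A) : a ^ p = 1 := T.pair.elem.2 a T.mem

theorem az (T : MaxTriple p n z a A) : a * z = z * a := T.pair.z_comm T.mem

theorem le_centralizer_a (T : MaxTriple p n z a A) : A ≤ centralizer ({a} : Set G) :=
  fun x hx => mem_centralizer_singleton.2 (T.pair.elem.1 x hx a T.mem)

theorem z_mem_centralizer_a (T : MaxTriple p n z a A) : z ∈ centralizer ({a} : Set G) :=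
  mem_centralizer_singleton.2 T.az.symm

theorem normalizes_cB (z a : G) : centralizer ({a} : Set G) ⊓ centralizer ({z} : Set G) ≤
    normalizer (cB z a : Set G) :=
  Coprime.le_normalizer_inf_inf (inf_le_right.trans (centralizer_le_normalizer_cR z))
    (inf_le_left.trans le_normalizer)

section

variable (H : Hyp p n G) (T : MaxTriple p n z a A)
include H T

/-- No elementary group of order `p²` has all its elements in maximal position. -/
theorem no_plane {E : Subgroup G} (hE : Elem p E) (hc : Nat.card E = p ^ 2)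
    (hEz : E ≤ centralizer ({z} : Set G))
    (hb : ∀ b ∈ E, ∀ r ∈ cB z a, b * r = r * b)
    (hp' : ∀ b ∈ E, ∃ A', IsPair p n z A' ∧ b ∈ A') : False := by
  haveI := hE.isMulCommutative
  have hncyc : ¬ IsCyclic E := by
    rintro ⟨g, hg⟩
    have h1 : orderOf g = Nat.card E := orderOf_eq_card_of_forall_mem_zpowers hg
    have h2 : orderOf g ∣ p := orderOf_dvd_of_pow_eq_one (Subtype.ext (by simpa using hE.2 g g.2))
    rw [h1, hc] at h2
    have := Nat.le_of_dvd H.prime.pos h2
    nlinarith [H.prime.two_le]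
  have hfix : cR z ≤ centralizer ({a} : Set G) :=
    Coprime.le_of_centralizer_le_of_not_isCyclic hncyc
      (hEz.trans (centralizer_le_normalizer_cR z))
      (coprime_two_group H.prime H.ne_two hE.isPGroup (isPGroup_cR z)) fun b hbE hb1 => by
        obtain ⟨A', P', hbA'⟩ := hp' b hbE
        have hle : cB z a ≤ cB z b := fun r hr =>
          ⟨hr.1, mem_centralizer_singleton.2 (hb b hbE r hr).symm⟩
        intro r hr
        exact ((eq_of_le_of_card_ge hle (T.max z b A' P' hbA' hb1)).ge hr).2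
  exact T.ne_one (eq_one_of_centralizes_cR H T.pair.order_z (T.pair.le T.mem) T.a_pow
    (mem_centralizer_iff.2 fun r hr => mem_centralizer_singleton.1 (hfix hr)))

/-- `C_A(C_R(a)) = ⟨a⟩`. -/
theorem centralizer_cB_le {h : G} (hh : h ∈ A) (hc : ∀ r ∈ cB z a, h * r = r * h) :
    h ∈ zpowers a := by
  by_contra hne
  have hcomm : ∀ x ∈ zpowers a, ∀ y ∈ zpowers h, x * y = y * x := fun x hx y hy =>
    T.pair.elem.1 x (zpowers_le.2 T.mem hx) y (zpowers_le.2 hh hy)
  have h1 : h ≠ 1 := fun e => hne (e ▸ one_mem _)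
  have hd : zpowers a ⊓ zpowers h = ⊥ := by
    rw [eq_bot_iff_forall]
    intro x hx
    by_contra hx1
    haveI := Fact.mk H.prime
    have hp1 := card_zpowers_of_pow H.prime (T.pair.elem.2 h hh) h1
    have hle : zpowers x ≤ zpowers h := zpowers_le.2 hx.2
    have he : zpowers x = zpowers h := eq_of_le_of_card_ge hle (by
      rw [hp1, card_zpowers_of_pow H.prime (T.pair.elem.2 x (zpowers_le.2 hh hx.2)) hx1])
    exact hne (zpowers_le.2 hx.1 (he.ge (mem_zpowers h)))
  refine no_plane H T (E := zpowers a ⊔ zpowers h)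
    ((elem_zpowers T.a_pow).sup (elem_zpowers (T.pair.elem.2 h hh)) hcomm) ?_ ?_ ?_ ?_
  · rw [card_sup_of_commute hcomm hd, card_zpowers_of_pow H.prime T.a_pow T.ne_one,
      card_zpowers_of_pow H.prime (T.pair.elem.2 h hh) h1, pow_two]
  · exact (sup_le (zpowers_le.2 T.mem) (zpowers_le.2 hh)).trans T.pair.le
  · intro b hb r hr
    obtain ⟨x, hx, y, hy, rfl⟩ := (mem_sup_of_commute hcomm).1 hb
    obtain ⟨i, rfl⟩ := mem_zpowers_iff.1 hx
    obtain ⟨j, rfl⟩ := mem_zpowers_iff.1 hy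
    have h2 : Commute a r := (mem_centralizer_singleton.1 hr.2).symm
    exact ((h2.zpow_left i).mul_left ((show Commute h r from hc r hr).zpow_left j)).eq
  · exact fun b hb => ⟨A, T.pair, sup_le (zpowers_le.2 T.mem) (zpowers_le.2 hh) hb⟩

/-- `C_P(z)` centralises `C_R(a)`. -/
theorem cPz_commute {x : G} (hx : x ∈ cP p a ⊓ centralizer ({z} : Set G)) :
    ∀ r ∈ cB z a, x * r = r * x := by
  intro r hr
  set Z := cP p a ⊓ centralizer ({z} : Set G) with hZ
  have hxC : x ∈ centralizer ({a} : Set G) ⊓ centralizer ({z} : Set G) :=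
    ⟨cP_le_centralizer H T.a_pow hx.1, hx.2⟩
  have hrC : r ∈ centralizer ({a} : Set G) ⊓ centralizer ({z} : Set G) :=
    ⟨hr.2, cR_le_centralizer z hr.1⟩
  have h1 : r * x * r⁻¹ * x⁻¹ ∈ Z := mul_mem
    ⟨conj_mem_of_mem_normalizer (centralizer_le_normalizer_cP a hrC.1) hx.1,
      Subgroup.mul_mem _ (Subgroup.mul_mem _ hrC.2 hx.2) (Subgroup.inv_mem _ hrC.2)⟩ (inv_mem hx)
  have h2 : r * x * r⁻¹ * x⁻¹ ∈ cB z a := by
    have := mul_mem hr (conj_mem_of_mem_normalizer (normalizes_cB z a hxC) (inv_mem hr))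
    simpa only [mul_assoc] using this
  obtain ⟨i, hi⟩ := isPGroup_cP (p := p) a ⟨_, h1.1⟩
  obtain ⟨j, hj⟩ := isPGroup_cR z ⟨_, h2.1⟩
  have h3 := eq_one_of_pow_eq_one_of_coprime (congrArg Subtype.val hi) (congrArg Subtype.val hj)
    ((((Nat.coprime_primes H.prime Nat.prime_two).2 H.ne_two).pow_left i).pow_right j)
  exact (conj_eq_iff.1 (mul_inv_eq_one.1 h3)).symm

/-- `C_P(z)` is cyclic. -/
theorem isCyclic_cPz : IsCyclic ↥(cP p a ⊓ centralizer ({z} : Set G)) := by
  haveI := Fact.mk H.prime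
  by_contra hcyc
  set Z := cP p a ⊓ centralizer ({z} : Set G) with hZ
  have hAZ : A ≤ normalizer (Z : Set G) :=
    Coprime.le_normalizer_inf_inf (T.le_centralizer_a.trans (centralizer_le_normalizer_cP a))
      (T.pair.le.trans le_normalizer)
  set S := A ⊔ Z with hS
  have hSp : IsPGroup p S :=
    T.pair.elem.isPGroup.to_sup_of_normal_right' ((isPGroup_cP a).to_le inf_le_left) hAZ
  haveI : (Z.subgroupOf S).Normal := normal_subgroupOf_sup_of_le_normalizer hAZ
  obtain ⟨E', hE'Z, hE'n, hE'e, hE'c⟩ := CfsgLib.PLocal.exists_normal_elementary_sq (p := p)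
    H.ne_two hSp (Z.subgroupOf S)
    fun h => hcyc (isCyclic_of_surjective (subgroupOfEquivOfLe (le_sup_right : Z ≤ S)).toMonoidHom
      (subgroupOfEquivOfLe (le_sup_right : Z ≤ S)).surjective)
  haveI := hE'n
  set E := E'.map S.subtype with hE
  have hEe : Elem p E := by
    refine ⟨?_, ?_⟩
    · rintro _ ⟨x, hx, rfl⟩ _ ⟨y, hy, rfl⟩
      exact congrArg Subtype.val ((elem_iff.2 hE'e).1 x hx y hy)
    · rintro _ ⟨x, hx, rfl⟩
      exact congrArg Subtype.val (hE'e.2 x hx)
  have hEc : Nat.card E = p ^ 2 :=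
    (Nat.card_congr (E'.equivMapOfInjective _ S.subtype_injective).toEquiv).symm.trans hE'c
  have hEZ : E ≤ Z := by
    rintro _ ⟨x, hx, rfl⟩
    exact hE'Z hx
  have hSE : ∀ g ∈ A, ∀ x ∈ E, g * x * g⁻¹ ∈ E := by
    rintro g hg _ ⟨x, hx, rfl⟩
    exact ⟨_, hE'n.conj_mem x hx ⟨g, mem_sup_left hg⟩, rfl⟩
  -- an element of `E` fixed by `A`
  have hE'b : E' ≠ ⊥ := fun h => by
    rw [h, card_bot] at hE'c
    exact absurd hE'c.symm (Nat.one_lt_pow two_ne_zero H.prime.one_lt).ne'
  obtain ⟨⟨e₀, he₀, he₀c⟩, he₀1⟩ := ne_bot_iff_exists_ne_one.1 (PGroups.inf_center_ne_bot hSp hE'b)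
  have he₀E : (e₀ : G) ∈ E := ⟨e₀, he₀, rfl⟩
  have he₀A : ∀ g ∈ A, g * (e₀ : G) = e₀ * g := fun g hg =>
    congrArg Subtype.val (mem_center_iff.1 he₀c ⟨g, mem_sup_left hg⟩)
  have he₀ne : (e₀ : G) ≠ 1 := fun h => he₀1 (Subtype.ext (Subtype.ext h))
  have hcard0 := card_zpowers_of_pow H.prime (hEe.2 _ he₀E) he₀ne
  obtain ⟨e₁, he₁, he₁0⟩ := SetLike.not_le_iff_exists.1 fun hle : E ≤ zpowers (e₀ : G) => by
    have := card_le_of_le hle
    rw [hEc, hcard0] at this
    nlinarith [H.prime.two_le]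
  set A₁ := A ⊓ centralizer ({e₁} : Set G) with hA₁
  -- the orbit of `e₁` is small
  have hidx : Nat.card A ≤ Nat.card A₁ * p := by
    classical
    set N := A₁.subgroupOf A with hN
    have hlift : ∀ g h : A, (QuotientGroup.leftRel N).r g h →
        (g : G) * e₁ * (g : G)⁻¹ = (h : G) * e₁ * (h : G)⁻¹ := by
      intro g h hgh
      rw [QuotientGroup.leftRel_apply, hN, mem_subgroupOf] at hgh
      have h2 : ((g : G)⁻¹ * h) * e₁ * ((g : G)⁻¹ * h)⁻¹ = e₁ :=
        conj_eq_iff.2 (mem_centralizer_singleton.1 hgh.2)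
      calc (g : G) * e₁ * (g : G)⁻¹
          = g * (((g : G)⁻¹ * h) * e₁ * ((g : G)⁻¹ * h)⁻¹) * (g : G)⁻¹ := by rw [h2]
        _ = _ := by group
    let f : A ⧸ N → {x : E // (x : G) ∉ zpowers (e₀ : G)} :=
      Quotient.lift (fun g : A => ⟨⟨(g : G) * e₁ * (g : G)⁻¹, hSE g g.2 e₁ he₁⟩, fun hmem => he₁0 (by
        obtain ⟨i, hi⟩ := mem_zpowers_iff.1 hmem
        dsimp only at hi
        have h3 : e₁ = (g : G)⁻¹ * (e₀ : G) ^ i * g := by rw [hi]; group
        rw [h3, mul_assoc, ← ((show Commute (g : G) e₀ from he₀A g g.2).zpow_right i).eq,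
          inv_mul_cancel_left]
        exact zpow_mem (mem_zpowers _) i)⟩)
        fun g h hgh => Subtype.ext (Subtype.ext (hlift g h hgh))
    have hf : Function.Injective f := by
      intro x y
      induction x using QuotientGroup.induction_on with | _ g => ?_
      induction y using QuotientGroup.induction_on with | _ h => ?_
      intro heq
      have e : (g : G) * e₁ * (g : G)⁻¹ = (h : G) * e₁ * (h : G)⁻¹ :=
        congrArg (fun t : {x : E // (x : G) ∉ zpowers (e₀ : G)} => ((t : E) : G)) heq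
      rw [QuotientGroup.eq, hN, mem_subgroupOf]
      refine ⟨SetLike.coe_mem _, mem_centralizer_singleton.2 (conj_eq_iff.1 ?_)⟩
      calc ((g⁻¹ * h : A) : G) * e₁ * ((g⁻¹ * h : A) : G)⁻¹
          = (g : G)⁻¹ * ((h : G) * e₁ * (h : G)⁻¹) * g := by simp [mul_assoc]
        _ = e₁ := by rw [← e]; group
    have hlt : Nat.card (A ⧸ N) < p ^ 2 := by
      refine lt_of_le_of_lt (Nat.card_le_card_of_injective f hf) ?_
      rw [← hEc]
      refine Finite.card_subtype_lt (p := fun x : E => (x : G) ∉ zpowers (e₀ : G))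
        (x := ⟨e₀, he₀E⟩) (fun h => h (mem_zpowers _))
    obtain ⟨k, hk⟩ := T.pair.elem.isPGroup.index N
    have hkN : Nat.card (A ⧸ N) = p ^ k := hk
    rw [hkN] at hlt
    have hk1 := (Nat.pow_lt_pow_iff_right H.prime.one_lt).1 hlt
    have h4 : Nat.card N * N.index = Nat.card A := card_mul_index N
    rw [Nat.card_congr (subgroupOfEquivOfLe (inf_le_left : A₁ ≤ A)).toEquiv, hk] at h4
    rw [← h4]
    exact Nat.mul_le_mul_left _ (by
      calc p ^ k ≤ p ^ 1 := Nat.pow_le_pow_right H.prime.pos (by omega)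
        _ = p := pow_one p)
  -- `A₁ E` is elementary of order at least `p ^ n`
  have hA₁E : ∀ x ∈ A₁, ∀ y ∈ E, x * y = y * x := by
    intro x hx y hy
    have hsup : E ≤ centralizer ({x} : Set G) := by
      have hd : zpowers (e₀ : G) ⊓ zpowers e₁ = ⊥ := by
        rw [eq_bot_iff_forall]
        intro w hw
        by_contra hw1
        have he : zpowers w = zpowers (e₀ : G) := eq_of_le_of_card_ge (zpowers_le.2 hw.1) (by
          rw [hcard0, card_zpowers_of_pow H.prime (hEe.2 w (zpowers_le.2 he₀E hw.1)) hw1])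
        have he' : zpowers w = zpowers e₁ := eq_of_le_of_card_ge (zpowers_le.2 hw.2) (by
          rw [card_zpowers_of_pow H.prime (hEe.2 e₁ he₁) (fun e => he₁0 (e ▸ one_mem _)),
            card_zpowers_of_pow H.prime (hEe.2 w (zpowers_le.2 he₀E hw.1)) hw1])
        exact he₁0 (he ▸ he'.ge (mem_zpowers e₁))
      have hE2 : zpowers (e₀ : G) ⊔ zpowers e₁ = E := eq_of_le_of_card_ge
        (sup_le (zpowers_le.2 he₀E) (zpowers_le.2 he₁)) (le_of_eq (by
          rw [card_sup_of_commute (fun u hu v hv => hEe.1 u (zpowers_le.2 he₀E hu) v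
              (zpowers_le.2 he₁ hv)) hd, hcard0,
            card_zpowers_of_pow H.prime (hEe.2 e₁ he₁) (fun e => he₁0 (e ▸ one_mem _)), hEc,
            pow_two]))
      rw [← hE2]
      exact sup_le (zpowers_le.2 (mem_centralizer_singleton.2 (he₀A x hx.1).symm))
        (zpowers_le.2 (mem_centralizer_singleton.2 (mem_centralizer_singleton.1 hx.2).symm))
    exact (mem_centralizer_singleton.1 (hsup hy)).symm
  have hA'e : Elem p (A₁ ⊔ E) := (T.pair.elem.mono inf_le_left).sup hEe hA₁E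
  have hA'z : A₁ ⊔ E ≤ centralizer ({z} : Set G) :=
    sup_le (inf_le_left.trans T.pair.le) (hEZ.trans inf_le_right)
  have hge : p ^ n ≤ Nat.card ↥(A₁ ⊔ E) := by
    by_cases hEA : E ≤ A
    · refine le_of_eq_of_le T.pair.card.symm (card_le_of_le ?_)
      refine le_trans ?_ le_sup_left
      exact le_inf le_rfl fun g hg =>
        mem_centralizer_singleton.2 (T.pair.elem.1 g hg e₁ (hEA he₁))
    · have h1 := Coprime.card_sup_mul_card_inf (le_normalizer_of_commute hA₁E)
      have h2 : Nat.card ↥(A₁ ⊓ E) ≤ p := by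
        obtain ⟨k, hk⟩ := IsPGroup.iff_card.1 (hEe.isPGroup.to_le (inf_le_right : A₁ ⊓ E ≤ E))
        have : Nat.card ↥(A₁ ⊓ E) < p ^ 2 := by
          rw [← hEc]
          exact lt_of_not_ge fun hge => hEA
            ((eq_of_le_of_card_ge inf_le_right hge).ge.trans (inf_le_left.trans inf_le_left))
        rw [hk] at this ⊢
        have := (Nat.pow_lt_pow_iff_right H.prime.one_lt).1 this
        calc p ^ k ≤ p ^ 1 := Nat.pow_le_pow_right H.prime.pos (by omega)
          _ = p := pow_one p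
      rw [hEc, pow_two] at h1
      have h3 : Nat.card A₁ * (p * p) ≤ Nat.card ↥(A₁ ⊔ E) * p :=
        h1 ▸ Nat.mul_le_mul_left _ h2
      have h4 : Nat.card A₁ * p ≤ Nat.card ↥(A₁ ⊔ E) :=
        Nat.le_of_mul_le_mul_right (by rwa [mul_assoc]) H.prime.pos
      calc p ^ n = Nat.card A := T.pair.card.symm
        _ ≤ _ := hidx.trans h4
  have hle := H.bound (A₁ ⊔ E) (zpowers z) hA'e (elem_zpowers T.pair.z_sq).isPGroup
    (by simpa using T.pair.z_ne_one) (hA'z.trans (centralizer_le_normalizer_zpowers z))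
  exact no_plane H T hEe hEc (hEZ.trans inf_le_right)
    (fun b hb => cPz_commute H T (hEZ hb))
    fun b hb => ⟨A₁ ⊔ E, ⟨T.pair.order_z, hA'e, le_antisymm hle hge, hA'z⟩, mem_sup_right hb⟩

theorem mem_zpowers_a {x : G} (hx : x ∈ cP p a) (hxz : x * z = z * x) (hxp : x ^ p = 1) :
    x ∈ zpowers a := by
  haveI := Fact.mk H.prime
  set Z := cP p a ⊓ centralizer ({z} : Set G)
  haveI := isCyclic_cPz H T
  have haZ : a ∈ Z := ⟨self_mem_cP T.a_pow, mem_centralizer_singleton.2 T.az⟩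
  have := CfsgLib.PLocal.isCyclic_mem_zpowers_of_pow_eq_one (p := p)
    ((isPGroup_cP a).to_le (inf_le_left : Z ≤ cP p a)) (z := (⟨a, haZ⟩ : Z))
    (by rw [orderOf_mk, orderOf_eq_prime T.a_pow T.ne_one])
    (y := ⟨x, hx, mem_centralizer_singleton.2 hxz⟩) (Subtype.ext (by simpa using hxp))
  obtain ⟨i, hi⟩ := mem_zpowers_iff.1 this
  exact mem_zpowers_iff.2 ⟨i, by simpa using congrArg Subtype.val hi⟩

end

end MaxTriple

end CfsgLib.KlingerMason
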