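import Cfsg.Agent.Lib.KlingerMason.SmallAll

/-!
The theorem of Klinger and Mason: `C_R(A) = ⟨z⟩`.
-/

set_option autoImplicit false
set_option linter.style.haveILetI false
set_option linter.unusedSectionVars false

namespace CfsgLib.KlingerMason

open Cfsg Subgroup
open scoped commutatorElement

variable {G : Type*} [Group G] [Finite G] {n : ℕ} {z a : G} {A D : Subgroup G}

section

variable (H : Hyp 3 n G) (T : MaxTriple 3 n z a A) (hD : Good 3 z a D)
include H T hD

/-- The case of three live hyperplanes through `a`. -/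
theorem no_extra_three {K L M : Subgroup G} (hK : Live 3 z A K) (hL : Live 3 z A L)
    (hM : Live 3 z A M) (haK : a ∈ K) (haL : a ∈ L) (haM : a ∈ M) (hKL : K ≠ L) (hKM : K ≠ M)
    (hLM : L ≠ M) {r : G} (hrR : r ∈ cR z) (hrA : r ∈ centralizer (A : Set G))
    (hr2 : r ^ 2 = z) : False := by
  have P := T.pair
  have hzz := zz H P
  have hr2' : r * r ∈ zpowers z := by rw [← pow_two, hr2]; exact mem_zpowers z
  have cK := commute_TH H P hK hrR hrA hr2'
  have cL := commute_TH H P hL hrR hrA hr2'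
  have cM := commute_TH H P hM hrR hrA hr2'
  obtain ⟨s₁, c₁, -, q₁⟩ := exists_qpair H P hK
  obtain ⟨s₂, c₂, -, q₂⟩ := exists_qpair H P hL
  obtain ⟨s₃, c₃, -, q₃⟩ := exists_qpair H P hM
  set t₁ := c₁ * s₁ * c₁⁻¹
  set t₂ := c₂ * s₂ * c₂⁻¹
  set t₃ := c₃ * s₃ * c₃⁻¹
  have x₁₂ := TH_commute H P hK.1 hL.1 hKL
  have x₁₃ := TH_commute H P hK.1 hM.1 hKM
  have x₂₃ := TH_commute H P hL.1 hM.1 hLM
  have hR : ∀ {L x}, x ∈ TH z A L → x * z = z * x := fun hx => P.cR_comm (R1_le P hx.1)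
  have hrz : r * z = z * r := P.cR_comm hrR
  set w₀ := r * s₃ with hw₀
  set w₁ := s₁ * s₂ with hw₁
  set w₂ := t₁ * t₂ with hw₂
  have sq : ∀ {x y : G}, x ^ 2 = z → y ^ 2 = z → x * y = y * x → (x * y) ^ 2 = 1 :=
    fun hx hy h => by rw [(show Commute _ _ from h).mul_pow, hx, hy, hzz]
  have b₀ : Anti z t₃ w₀ :=
    Anti.mul_left (cM _ q₃.mem').symm (anti_of_comm H P (q₃.symm H P).comm) hrz
  have b₁ : Anti z t₁ w₁ :=
    (anti_of_comm H P (q₁.symm H P).comm).mul_right (x₁₂ _ q₁.mem' _ q₂.mem)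
  have b₂ : Anti z s₁ w₂ :=
    (anti_of_comm H P q₁.comm).mul_right (x₁₂ _ q₁.mem _ q₂.mem')
  have c12 : w₁ * w₂ = w₂ * w₁ := Anti.mul_commute hzz b₂
    ((anti_of_comm H P q₂.comm).mul_left (x₁₂ _ q₁.mem' _ q₂.mem).symm (hR q₁.mem'))
    (hR q₁.mem)
  have c01 : w₀ * w₁ = w₁ * w₀ :=
    (((show Commute r s₁ from cK _ q₁.mem).mul_right (cL _ q₂.mem)).mul_left
      ((show Commute s₃ s₁ from (x₁₃ _ q₁.mem _ q₃.mem).symm).mul_right
        (x₂₃ _ q₂.mem _ q₃.mem).symm)).eq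
  have c02 : w₀ * w₂ = w₂ * w₀ :=
    (((show Commute r t₁ from cK _ q₁.mem').mul_right (cL _ q₂.mem')).mul_left
      ((show Commute s₃ t₁ from (x₁₃ _ q₁.mem' _ q₃.mem).symm).mul_right
        (x₂₃ _ q₂.mem' _ q₃.mem).symm)).eq
  have hzc : ∀ {w}, w ∈ cR z → zpowers z ≤ centralizer ({w} : Set G) := fun hw =>
    zpowers_le.2 (mem_centralizer_singleton.2 (P.cR_comm hw).symm)
  have m₀ : w₀ ∈ cR z := mul_mem hrR (R1_le P q₃.mem.1)
  have m₁ : w₁ ∈ R1 z A := mul_mem q₁.mem.1 q₂.mem.1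
  have m₂ : w₂ ∈ R1 z A := mul_mem q₁.mem'.1 q₂.mem'.1
  set W := zpowers z ⊔ zpowers w₀ ⊔ zpowers w₁ ⊔ zpowers w₂ with hW
  have hWe : Elem 2 W := (((elem_zpowers P.z_sq).adjoin
    (sq hr2 q₃.sq (cM _ q₃.mem)) (hzc m₀)).adjoin (sq q₁.sq q₂.sq (x₁₂ _ q₁.mem _ q₂.mem))
    (sup_le (hzc (R1_le P m₁)) (zpowers_le.2 (mem_centralizer_singleton.2 c01)))).adjoin
    (sq q₁.sq' q₂.sq' (x₁₂ _ q₁.mem' _ q₂.mem'))
    (sup_le (sup_le (hzc (R1_le P m₂)) (zpowers_le.2 (mem_centralizer_singleton.2 c02)))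
      (zpowers_le.2 (mem_centralizer_singleton.2 c12)))
  have hzW : z ∈ W := mem_sup_left (mem_sup_left (mem_sup_left (mem_zpowers z)))
  have ha1 : zpowers a ≤ A := zpowers_le.2 T.mem
  have hca : ∀ {L x}, a ∈ L → x ∈ TH z A L → x ∈ centralizer (zpowers a : Set G) :=
    fun haL hx => centralizer_le (SetLike.coe_subset_coe.2 (zpowers_le.2 haL)) hx.2
  have hWK : W ≤ centralizer (zpowers a : Set G) := sup_le (sup_le (sup_le
    (zpowers_le.2 (mem_centralizer_iff.2 fun x hx => P.z_comm (ha1 hx)))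
    (zpowers_le.2 (mul_mem (centralizer_le (SetLike.coe_subset_coe.2 ha1) hrA) (hca haM q₃.mem))))
    (zpowers_le.2 (mul_mem (hca haK q₁.mem) (hca haL q₂.mem))))
    (zpowers_le.2 (mul_mem (hca haK q₁.mem') (hca haL q₂.mem')))
  have htog : ∀ {L x}, a ∈ L → x ∈ TH z A L → Tog z a (zpowers a) x := fun haL hx =>
    tog_of_mem (zpowers_le.2 haL) (mem_zpowers a) (R1_le P hx.1) hx.2
  have d₁ : t₃ * w₁ = w₁ * t₃ :=
    ((show Commute t₃ s₁ from (x₁₃ _ q₁.mem _ q₃.mem').symm).mul_right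
      (x₂₃ _ q₂.mem _ q₃.mem').symm).eq
  have d₂ : t₃ * w₂ = w₂ * t₃ :=
    ((show Commute t₃ t₁ from (x₁₃ _ q₁.mem' _ q₃.mem').symm).mul_right
      (x₂₃ _ q₂.mem' _ q₃.mem').symm).eq
  have htW : ∀ v ∈ W, t₃⁻¹ * v * t₃ ∈ W := by
    have hsub : W ≤ W.comap (MulAut.conj t₃⁻¹).toMonoidHom := by
      refine sup_le (sup_le (sup_le (zpowers_le.2 ?_) (zpowers_le.2 ?_)) (zpowers_le.2 ?_))
        (zpowers_le.2 ?_) <;>
        simp only [mem_comap, MulEquiv.coe_toMonoidHom, MulAut.conj_apply, inv_inv]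
      · rw [conj_eq_of_commute (hR q₃.mem')]; exact hzW
      · rw [conj_of_anticommute P.z_inv (hR q₃.mem') b₀]
        exact mul_mem hzW (mem_sup_left (mem_sup_left (mem_sup_right (mem_zpowers _))))
      · rw [conj_eq_of_commute d₁]
        exact mem_sup_left (mem_sup_right (mem_zpowers _))
      · rw [conj_eq_of_commute d₂]
        exact mem_sup_right (mem_zpowers _)
    intro v hv
    simpa using hsub hv
  refine false_of_bound (p := 3) (X := zpowers a) (n := n) H.prime (j := 3) ?_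
    (toggles₃ H T hD ha1 (mem_zpowers a) hWe hzW hWK (w₀ := w₀) (w₁ := w₁) (w₂ := w₂)
      (mem_sup_left (mem_sup_left (mem_sup_right (mem_zpowers _))))
      (mem_sup_left (mem_sup_right (mem_zpowers _))) (mem_sup_right (mem_zpowers _))
      (htog haM q₃.mem') (htog haK q₁.mem') (htog haK q₁.mem) htW b₀ b₁ b₂
      ((show Commute t₁ r from (cK _ q₁.mem').symm).mul_right (x₁₃ _ q₁.mem' _ q₃.mem)).eq
      ((Commute.refl t₁).mul_right (x₁₂ _ q₁.mem' _ q₂.mem')).eq
      ((show Commute s₁ r from (cK _ q₁.mem).symm).mul_right (x₁₃ _ q₁.mem _ q₃.mem)).eq)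
    (by norm_num)
  rw [card_zpowers_of_pow H.prime T.a_pow T.ne_one, ← pow_succ']
  exact Nat.pow_le_pow_right (by norm_num) (n_le_four H T hD)

/-- The case of two live hyperplanes and `n = 3`. -/
theorem no_extra_two (hn : n = 3) {K : Subgroup G} (hK : Live 3 z A K) (haK : a ∈ K) {r : G}
    (hrR : r ∈ cR z) (hrA : r ∈ centralizer (A : Set G)) (hr2 : r ^ 2 = z) : False := by
  have P := T.pair
  have hzz := zz H P
  have hr2' : r * r ∈ zpowers z := by rw [← pow_two, hr2]; exact mem_zpowers z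
  have cK := commute_TH H P hK hrR hrA hr2'
  obtain ⟨s, c, hc, q⟩ := exists_qpair H P hK
  set t := c * s * c⁻¹
  have hrz : r * z = z * r := P.cR_comm hrR
  have htz : t * z = z * t := P.cR_comm (R1_le P q.mem'.1)
  have hsa : s * a = a * s := (mem_centralizer_iff.1 q.mem.2 a haK).symm
  have hta : t * a = a * t := (mem_centralizer_iff.1 q.mem'.2 a haK).symm
  have hra : r * a = a * r := (mem_centralizer_iff.1 hrA a T.mem).symm
  set w := r * s with hw
  have hwz : w * z = z * w :=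
    ((show Commute r z from hrz).mul_left (P.cR_comm (R1_le P q.mem.1))).eq
  have hwa : w * a = a * w := ((show Commute r a from hra).mul_left hsa).eq
  have hw2 : w ^ 2 = 1 := by
    rw [hw, (show Commute r s from cK _ q.mem).mul_pow, hr2, q.sq, hzz]
  have htw : Anti z t w :=
    Anti.mul_left (cK _ q.mem').symm (anti_of_comm H P (q.symm H P).comm) hrz
  have hw1 : w ≠ 1 := htw.ne_one P.z_ne_one
  -- a second element of `K`
  obtain ⟨b, hbK, hba⟩ := SetLike.not_le_iff_exists.1 fun hle : K ≤ zpowers a => by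
    have h1 := card_le_of_le hle
    have h2 := kernel_card H T hK.1
    rw [card_zpowers_of_pow H.prime T.a_pow T.ne_one] at h1
    rw [hn] at h2
    omega
  have hbA := hK.1.1 hbK
  have hbp : b ^ 3 = 1 := P.elem.2 b hbA
  have hbz : b * z = z * b := P.z_comm hbA
  have hbca : b * a = a * b := P.elem.1 b hbA a T.mem
  have hbr : b * r = r * b := mem_centralizer_iff.1 hrA b hbA
  have hbw : b * w = w * b :=
    ((show Commute b r from hbr).mul_right (mem_centralizer_iff.1 q.mem.2 b hbK)).eq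
  have hbt : b * t = t * b := mem_centralizer_iff.1 q.mem'.2 b hbK
  have hN : ∀ {g : G}, g * a = a * g → ∀ {x}, x ∈ D → g * x * g⁻¹ ∈ D := fun {g} hg {x} hx =>
    conj_mem_of_mem_normalizer (Good.le_normalizer_a H T hD hg) hx
  have zinv : ∀ {g : G}, g * z = z * g → ∀ {x : G}, z * x * z⁻¹ = x⁻¹ →
      z * (g * x * g⁻¹) * z⁻¹ = (g * x * g⁻¹)⁻¹ := fun {g} hg {x} hx => by
    calc z * (g * x * g⁻¹) * z⁻¹ = (z * g) * x * (z * g)⁻¹ := by group
      _ = g * (z * x * z⁻¹) * g⁻¹ := by rw [← hg]; group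
      _ = _ := by rw [hx]; group
  have wfix : ∀ {g : G}, g * w = w * g → ∀ {x : G}, w * x * w⁻¹ = x →
      w * (g * x * g⁻¹) * w⁻¹ = g * x * g⁻¹ := fun {g} hg {x} hx => by
    calc w * (g * x * g⁻¹) * w⁻¹ = (w * g) * x * (w * g)⁻¹ := by group
      _ = g * (w * x * w⁻¹) * g⁻¹ := by rw [← hg]; group
      _ = _ := by rw [hx]
  have conja : ∀ {g : G}, g * a = a * g → ∀ {x : G}, x ∈ zpowers a → g * x * g⁻¹ = x :=
    fun {g} hg {x} hx => conj_eq_iff.2 (Good.comm_of_mem_zpowers H T hD hx hg)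
  have hcomma : ∀ {x : G}, x ∈ zpowers a → b * x = x * b := fun hx =>
    Good.comm_of_mem_zpowers H T hD hx hbca
  -- `b` moves some element inverted by `z` and fixed by `w`
  obtain ⟨y, hy, hyz, hyw, hyb⟩ : ∃ y ∈ D, z * y * z⁻¹ = y⁻¹ ∧ w * y * w⁻¹ = y ∧
      b * y ≠ y * b := by
    by_contra hcon
    simp only [not_exists, not_and, not_not] at hcon
    have hcd : ∀ d ∈ D, z * d * z⁻¹ = d⁻¹ → Commute b (w * d * w⁻¹) := by
      intro d hd hdz
      set d' := w * d * w⁻¹ with hd'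
      have hd'D : d' ∈ D := hN hwa hd
      have hwd' : w * d' * w⁻¹ = d := by
        calc w * d' * w⁻¹ = w ^ 2 * d * (w ^ 2)⁻¹ := by rw [hd', pow_two]; group
          _ = d := by rw [hw2]; group
      -- the symmetric part
      obtain ⟨k, hk, hkz, hkd⟩ := Good.exists_inv H T hD (mul_mem hd hd'D)
      have hkw : w * k * w⁻¹ = k := by
        refine (Good.inv_unique H T hD hkz (zinv hwz hkz) hk ?_).symm
        have e1 : (d * d')⁻¹ * (d' * d) = ⁅d'⁻¹, d⁻¹⁆ := by
          rw [commutatorElement_def]; group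
        have e2 : k⁻¹ * (w * k * w⁻¹) = (k⁻¹ * (d * d')) * ((d * d')⁻¹ * (d' * d)) *
            (w * (k⁻¹ * (d * d'))⁻¹ * w⁻¹) := by
          calc k⁻¹ * (w * k * w⁻¹) = (k⁻¹ * (d * d')) * ((d * d')⁻¹ * ((w * d * w⁻¹) *
              (w * d' * w⁻¹))) * (w * (k⁻¹ * (d * d'))⁻¹ * w⁻¹) := by group
            _ = _ := by rw [hwd', ← hd']
        rw [e2, e1, conja hwa (inv_mem hkd)]
        exact mul_mem (mul_mem hkd (Good.commutator_mem H T hD (inv_mem hd'D) (inv_mem hd)))
          (inv_mem hkd)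
      have c1 : Commute b (d * d') := by
        have := (show Commute b k from hcon k hk hkz hkw).mul_right (hcomma hkd)
        rwa [mul_inv_cancel_left] at this
      -- the antisymmetric part
      obtain ⟨l, hl, hlz, hld⟩ := Good.exists_inv H T hD (mul_mem hd (inv_mem hd'D))
      have hlw : w * l * w⁻¹ = l⁻¹ := by
        have hli : z * l⁻¹ * z⁻¹ = l⁻¹⁻¹ := by rw [← conj_inv, hlz]
        refine (Good.inv_unique H T hD hli (zinv hwz hlz) (inv_mem hl) ?_).symm
        have e2 : l⁻¹⁻¹ * (w * l * w⁻¹) = (d * d'⁻¹) * (l⁻¹ * (d * d'⁻¹))⁻¹ * (d' * d⁻¹) *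
            (w * (l⁻¹ * (d * d'⁻¹))⁻¹ * w⁻¹) := by
          calc l⁻¹⁻¹ * (w * l * w⁻¹) = (d * d'⁻¹) * (l⁻¹ * (d * d'⁻¹))⁻¹ *
              ((w * d * w⁻¹) * (w * d' * w⁻¹)⁻¹) * (w * (l⁻¹ * (d * d'⁻¹))⁻¹ * w⁻¹) := by group
            _ = _ := by rw [hwd', ← hd']
        rw [e2, conja hwa (inv_mem hld), Good.comm_of_mem_zpowers H T hD (inv_mem hld)
          (Good.comm_a H T hD (mul_mem hd (inv_mem hd'D)))]
        refine mul_mem ?_ (inv_mem hld)
        rw [mul_assoc, show (d * d'⁻¹) * (d' * d⁻¹) = 1 by group, mul_one]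
        exact inv_mem hld
      have hl' : w * (t * l * t⁻¹) * w⁻¹ = t * l * t⁻¹ := by
        have e := conj_of_anticommute P.z_inv htz htw
        calc w * (t * l * t⁻¹) * w⁻¹ = t * ((t⁻¹ * w * t) * l * (t⁻¹ * w * t)⁻¹) * t⁻¹ := by group
          _ = _ := by rw [e, fix_of_mul (.inr ⟨hlz, hlw⟩)]
      have c2 : Commute b (d * d'⁻¹) := by
        have h0 : Commute b (t * l * t⁻¹) := hcon _ (hN hta hl) (zinv htz hlz) hl'
        have h1 := ((show Commute b t from hbt).inv_right.mul_right h0).mul_right hbt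
        have hl2 : Commute b l := by
          rwa [show t⁻¹ * (t * l * t⁻¹) * t = l by group] at h1
        have := hl2.mul_right (hcomma hld)
        rwa [mul_inv_cancel_left] at this
      have c3 : Commute b (d' ^ 2) := by
        have := c2.inv_right.mul_right c1
        rwa [show (d * d'⁻¹)⁻¹ * (d * d') = d' ^ 2 by rw [pow_two]; group] at this
      have h3 : d' = (d' ^ 2) ^ 2 := by
        rw [← pow_mul, show 2 * 2 = 3 + 1 from rfl, pow_succ, hD.pow d' hd'D, one_mul]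
      rw [h3]
      exact c3.pow_right 2
    have hbD : ∀ x ∈ D, b * x * b⁻¹ * x⁻¹ ∈ zpowers a := by
      intro x hx
      obtain ⟨d, hd, hdz, hdx⟩ := Good.exists_inv H T hD hx
      have h2 := hcd (w * d * w⁻¹) (hN hwa hd) (zinv hwz hdz)
      rw [show w * (w * d * w⁻¹) * w⁻¹ = w ^ 2 * d * (w ^ 2)⁻¹ by rw [pow_two]; group, hw2,
        one_mul, inv_one, mul_one] at h2
      have := (h2.mul_right (hcomma hdx))
      rw [mul_inv_cancel_left] at this
      rw [conj_eq_iff.2 this.eq, mul_inv_cancel]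
      exact one_mem _
    exact hba (MaxTriple.mem_zpowers_a H T (Good.mem_cP_of_trivial H T hD hbca hbD) hbz hbp)
  -- the image of `b - 1`
  set S : Set G := {g | ∃ x ∈ D, z * x * z⁻¹ = x⁻¹ ∧ w * x * w⁻¹ = x ∧
    g = x⁻¹ * (b * x * b⁻¹)} with hS
  set N := Subgroup.closure S ⊔ zpowers a with hNdef
  have hSD : S ⊆ D := fun g ⟨x, hx, _, _, e⟩ => e ▸ mul_mem (inv_mem hx) (hN hbca hx)
  have hND : N ≤ D := sup_le ((closure_le _).2 hSD) (zpowers_le.2 hD.mem_a)
  have hbN : zpowers b ≤ normalizer (N : Set G) := by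
    have hS' : ∀ g : G, g * z = z * g → g * w = w * g → g * a = a * g → g * b = b * g →
        ∀ x ∈ N, g * x * g⁻¹ ∈ N := by
      intro g g1 g2 g3 g4
      have hle : N ≤ N.comap (MulAut.conj g).toMonoidHom := by
        refine sup_le ((closure_le _).2 ?_) (zpowers_le.2 ?_)
        · rintro _ ⟨x, hx, hxz, hxw, rfl⟩
          refine mem_sup_left (subset_closure ⟨_, hN g3 hx, zinv g1 hxz, wfix g2 hxw, ?_⟩)
          simp only [MulEquiv.coe_toMonoidHom, MulAut.conj_apply]
          calc g * (x⁻¹ * (b * x * b⁻¹)) * g⁻¹ = (g * x * g⁻¹)⁻¹ * ((g * b) * x * (g * b)⁻¹) := by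
                group
            _ = _ := by rw [g4]; group
        · simp only [mem_comap, MulEquiv.coe_toMonoidHom, MulAut.conj_apply, conj_eq_iff.2 g3]
          exact mem_sup_right (mem_zpowers a)
      intro x hx
      simpa using hle hx
    refine zpowers_le.2 (mem_normalizer_iff.2 fun x => ⟨hS' b hbz hbw hbca rfl x, fun h => ?_⟩)
    have := hS' b⁻¹ ((show Commute b z from hbz).inv_left).eq
      ((show Commute b w from hbw).inv_left).eq ((show Commute b a from hbca).inv_left).eq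
      ((Commute.refl b).inv_left).eq _ h
    simpa [mul_assoc] using this
  have hNa : ¬ N ≤ zpowers a := fun hle => hyb (conj_eq_iff.1 (by
    refine (Good.inv_unique H T hD hyz (zinv hbz hyz) hy ?_).symm
    exact hle (mem_sup_left (subset_closure ⟨y, hy, hyz, hyw, rfl⟩))))
  obtain ⟨v, hvN, hvz, hv1, hvb⟩ := exists_inv_fixed H T hD hND (mem_sup_right (mem_zpowers a))
    hNa (elem_zpowers hbp).isPGroup hbN
    (zpowers_le.2 (mem_centralizer_singleton.2 hbz))
  have hvD := hND hvN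
  have hvw : w * v * w⁻¹ = v := by
    have : N ≤ centralizer ({w} : Set G) := sup_le ((closure_le _).2 (by
      rintro _ ⟨x, -, -, hxw, rfl⟩
      refine mem_centralizer_singleton.2 (conj_eq_iff.1 ?_).symm
      calc w * (x⁻¹ * (b * x * b⁻¹)) * w⁻¹
          = (w * x * w⁻¹)⁻¹ * (w * (b * x * b⁻¹) * w⁻¹) := by group
        _ = _ := by rw [wfix hbw hxw, hxw])) (zpowers_le.2 (mem_centralizer_singleton.2 hwa.symm))
    exact conj_eq_iff.2 (mem_centralizer_singleton.1 (this hvN)).symm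
  set f := r * v * r⁻¹ with hf
  have hfD : f ∈ D := hN hra hvD
  have hfb : b * f = f * b :=
    (((show Commute b r from hbr).mul_right (hvb b (mem_zpowers b))).mul_right
      (show Commute b r from hbr).inv_right).eq
  have hfw : w * f * w⁻¹ = f :=
    wfix ((Commute.refl r).mul_right (cK _ q.mem)).eq hvw
  have hfz : z * f * z⁻¹ = f⁻¹ := zinv hrz hvz
  have hNf : N ≤ centralizer ({f} : Set G) := sup_le ((closure_le _).2 (by
    rintro _ ⟨x, hx, -, -, rfl⟩
    refine mem_centralizer_singleton.2 (commutatorElement_eq_one_iff_mul_comm.1 ?_)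
    set g := x⁻¹ * (b * x * b⁻¹) with hg
    have hgD : g ∈ D := mul_mem (inv_mem hx) (hN hbca hx)
    have h1 : ⁅b * x * b⁻¹, f⁆ = ⁅x, f⁆ := by
      conv_lhs => rw [← conj_eq_iff.2 hfb, ← conj_commutator]
      exact conja hbca (Good.commutator_mem H T hD hx hfD)
    have h2 : ⁅b * x * b⁻¹, f⁆ = x * ⁅g, f⁆ * x⁻¹ * ⁅x, f⁆ := by
      rw [show b * x * b⁻¹ = x * g by rw [hg, mul_inv_cancel_left]]
      simp only [commutatorElement_def]; group
    rw [h1, conja (Good.comm_a H T hD hx) (Good.commutator_mem H T hD hgD hfD)] at h2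
    exact mul_eq_right.1 h2.symm)) (zpowers_le.2 (mem_centralizer_singleton.2
      (Good.comm_a H T hD hfD).symm))
  have hvf : v * f = f * v := mem_centralizer_singleton.1 (hNf hvN)
  have hvp := hD.pow v hvD
  have hfp := hD.pow f hfD
  have hf1 : f ≠ 1 := fun e => hv1 (conj_eq_one_iff.1 e)
  have hd : zpowers v ⊓ zpowers f = ⊥ := by
    rw [eq_bot_iff_forall]
    intro x hx
    by_contra hx1
    have e1 : zpowers x = zpowers v := eq_of_le_of_card_ge (zpowers_le.2 hx.1) (by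
      rw [card_zpowers_of_pow H.prime hvp hv1,
        card_zpowers_of_pow H.prime ((elem_zpowers hvp).2 x hx.1) hx1])
    have e2 : zpowers x = zpowers f := eq_of_le_of_card_ge (zpowers_le.2 hx.2) (by
      rw [card_zpowers_of_pow H.prime hfp hf1,
        card_zpowers_of_pow H.prime ((elem_zpowers hvp).2 x hx.1) hx1])
    obtain ⟨i, hi⟩ := mem_zpowers_iff.1 ((e1.symm.trans e2).ge (mem_zpowers f))
    have h1 : v⁻¹ = v ^ (i * i) := by
      calc v⁻¹ = z * v * z⁻¹ := hvz.symm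
        _ = r * (r * v * r⁻¹) * r⁻¹ := by rw [← hr2, pow_two]; group
        _ = r * v ^ i * r⁻¹ := by rw [← hf, hi]
        _ = (r * v * r⁻¹) ^ i := by rw [conj_zpow]
        _ = _ := by rw [← hf, ← hi, zpow_mul]
    have h2 : (3 : ℤ) ∣ i * i + 1 := by
      have ho : orderOf v = 3 := orderOf_eq_prime hvp hv1
      rw [← Nat.cast_ofNat, ← ho, orderOf_dvd_iff_zpow_eq_one, zpow_add_one, ← h1,
        inv_mul_cancel]
    obtain ⟨k, hk⟩ := h2
    have hc3 := congrArg (fun m : ℤ => (m : ZMod 3)) hk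
    push_cast at hc3
    rw [show (3 : ZMod 3) = 0 from rfl, zero_mul] at hc3
    generalize (i : ZMod 3) = j at hc3
    revert hc3 j
    decide
  have hvfc : ∀ x ∈ zpowers v, ∀ u ∈ zpowers f, x * u = u * x := fun x hx u hu => by
    obtain ⟨i, rfl⟩ := mem_zpowers_iff.1 hx
    obtain ⟨j, rfl⟩ := mem_zpowers_iff.1 hu
    exact ((show Commute v f from hvf).zpow_zpow i j).eq
  have habc : ∀ x ∈ zpowers a, ∀ u ∈ zpowers b, x * u = u * x := fun x hx u hu =>
    P.elem.1 x (zpowers_le.2 T.mem hx) u (zpowers_le.2 hbA hu)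
  have hab : zpowers a ⊓ zpowers b = ⊥ := by
    rw [eq_bot_iff_forall]
    intro x hx
    by_contra hx1
    have hb1 : b ≠ 1 := fun e => hba (e ▸ one_mem _)
    exact hba (zpowers_le.2 hx.1 ((eq_of_le_of_card_ge (zpowers_le.2 hx.2) (by
      rw [card_zpowers_of_pow H.prime hbp hb1,
        card_zpowers_of_pow H.prime ((elem_zpowers hbp).2 x hx.2) hx1])).ge (mem_zpowers b)))
  have hF : Block 3 z D (zpowers a ⊔ zpowers b) (zpowers v ⊔ zpowers f) :=
    ⟨(elem_zpowers hvp).sup (elem_zpowers hfp) hvfc,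
      sup_le (zpowers_le.2 hvD) (zpowers_le.2 hfD),
      Inv.sup ((elem_zpowers hvp).sup (elem_zpowers hfp) hvfc) (inv_zpowers_iff.2 hvz)
        (inv_zpowers_iff.2 hfz),
      fun k hk x hx => by
        have h1 : zpowers v ⊔ zpowers f ≤ centralizer ({a} : Set G) ⊓ centralizer ({b} : Set G) :=
          sup_le (zpowers_le.2 ⟨mem_centralizer_singleton.2 (Good.comm_a H T hD hvD),
              mem_centralizer_singleton.2 (hvb b (mem_zpowers b)).symm⟩)
            (zpowers_le.2 ⟨mem_centralizer_singleton.2 (Good.comm_a H T hD hfD),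
              mem_centralizer_singleton.2 hfb.symm⟩)
        have h2 : zpowers a ⊔ zpowers b ≤ centralizer ({x} : Set G) := sup_le
          (zpowers_le.2 (mem_centralizer_singleton.2 (mem_centralizer_singleton.1 (h1 hx).1).symm))
          (zpowers_le.2 (mem_centralizer_singleton.2 (mem_centralizer_singleton.1 (h1 hx).2).symm))
        exact mem_centralizer_singleton.1 (h2 hk)⟩
  have hbound := hF.bound H T hD ((elem_zpowers T.a_pow).sup (elem_zpowers hbp) habc)
    (sup_le (zpowers_le.2 (mem_centralizer_singleton.2 T.az))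
      (zpowers_le.2 (mem_centralizer_singleton.2 hbz))) hw2 hw1
    (sup_le (zpowers_le.2 (mem_centralizer_singleton.2 hwa.symm))
      (zpowers_le.2 (mem_centralizer_singleton.2 hbw)))
    ((fix_zpowers_iff.2 hvw).sup (fix_zpowers_iff.2 hfw))
  rw [card_sup_of_commute habc hab, card_sup_of_commute hvfc hd,
    card_zpowers_of_pow H.prime T.a_pow T.ne_one,
    card_zpowers_of_pow H.prime hbp (fun e => hba (e ▸ one_mem _)),
    card_zpowers_of_pow H.prime hvp hv1, card_zpowers_of_pow H.prime hfp hf1, hn] at hbound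
  norm_num at hbound

/-- `C_R(A) = ⟨z⟩`. -/
theorem cR_inf_centralizer : cR z ⊓ centralizer (A : Set G) ≤ zpowers z := by
  intro x hx
  by_contra hxz
  have P := T.pair
  obtain ⟨j, hj⟩ := isPGroup_cR z ⟨x, hx.1⟩
  have hj' : x ^ 2 ^ j = 1 := congrArg Subtype.val hj
  classical
  have hex : ∃ k, x ^ 2 ^ k ∈ zpowers z := ⟨j, hj' ▸ one_mem _⟩
  have hk := Nat.find_spec hex
  have hk0 : Nat.find hex ≠ 0 := fun h => hxz (by simpa [h] using hk)
  obtain ⟨m, hm⟩ := Nat.exists_eq_succ_of_ne_zero hk0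
  set r := x ^ 2 ^ m with hr
  have hrz : r ∉ zpowers z := Nat.find_min hex (by omega)
  have hr2 : r ^ 2 ∈ zpowers z := by
    rw [hr, ← pow_mul, ← pow_succ]
    rwa [hm] at hk
  have hrR : r ∈ cR z := pow_mem hx.1 _
  have hrA : r ∈ centralizer (A : Set G) := pow_mem hx.2 _
  have hr2' : r ^ 2 = z := by
    refine (P.mem_zpowers hr2).resolve_left fun h => hrz ?_
    rw [eq_z_of_sq H P hrA (P.cR_comm hrR) h fun e => hrz (e ▸ one_mem _)]
    exact mem_zpowers z
  obtain ⟨K, L, hK, hL, haK, haL, hne⟩ := exists_two_live H T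
  by_cases h3 : ∃ M, Live 3 z A M ∧ a ∈ M ∧ M ≠ K ∧ M ≠ L
  · obtain ⟨M, hM, haM, hMK, hML⟩ := h3
    exact no_extra_three H T hD hK hL hM haK haL haM hne hMK.symm hML.symm hrR hrA hr2'
  · refine no_extra_two H T hD ?_ hK haK hrR hrA hr2'
    by_contra hn
    have hn4 : 4 ≤ n := by have := H.three_le; omega
    have hbig : 3 < Nat.card ↥(K ⊓ L) := by
      have h1 := kernel_card H T hK.1
      have h2 := card_le_inf_mul P hK.1.1 hL.1
      have h4 : 3 ^ 4 ≤ 3 ^ n := Nat.pow_le_pow_right (by norm_num) hn4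
      norm_num at h4
      omega
    obtain ⟨M, hM, haM, hnle⟩ := exists_live_not_le H T
      ((inf_le_left : K ⊓ L ≤ K).trans hK.1.1) hbig
    exact h3 ⟨M, hM, haM, fun e => hnle (e ▸ inf_le_left), fun e => hnle (e ▸ inf_le_right)⟩

end

end CfsgLib.KlingerMason
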