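import Cfsg.Agent.Lib.KlingerMason.Eigen

/-!
The theorem of Klinger and Mason: pairs `(z, A)` of an involution and an elementary group of
order `p ^ n` centralising it.
-/

set_option autoImplicit false
set_option linter.style.haveILetI false
set_option linter.unusedSectionVars false

namespace CfsgLib.KlingerMason

open Cfsg Subgroup
open scoped commutatorElement

variable {G : Type*} [Group G] [Finite G] {p n : ℕ}

/-- An involution with an elementary group of order `p ^ n` in its centraliser. -/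
structure IsPair (p n : ℕ) (z : G) (A : Subgroup G) : Prop where
  order_z : orderOf z = 2
  elem : Elem p A
  card : Nat.card A = p ^ n
  le : A ≤ centralizer ({z} : Set G)

namespace IsPair

variable {z : G} {A : Subgroup G}

theorem z_sq (P : IsPair p n z A) : z ^ 2 = 1 := P.order_z ▸ pow_orderOf_eq_one z

theorem z_ne_one (P : IsPair p n z A) : z ≠ 1 := fun h => by
  have := P.order_z; rw [h, orderOf_one] at this; omega

theorem z_inv (P : IsPair p n z A) : z⁻¹ = z :=
  inv_eq_of_mul_eq_one_left (by rw [← pow_two]; exact P.z_sq)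

theorem z_comm (P : IsPair p n z A) {a : G} (ha : a ∈ A) : a * z = z * a :=
  mem_centralizer_singleton.1 (P.le ha)

theorem le_normalizer_cR (P : IsPair p n z A) : A ≤ normalizer (cR z : Set G) :=
  P.le.trans (centralizer_le_normalizer_cR z)

theorem z_mem_cR (P : IsPair p n z A) : z ∈ cR z := self_mem_cR P.z_sq

theorem cR_comm (P : IsPair p n z A) {r : G} (hr : r ∈ cR z) : r * z = z * r :=
  mem_centralizer_singleton.1 (cR_le_centralizer z hr)

end IsPair

theorem card_mul_of_sup_zpowers (hp : p.Prime) {E B : Subgroup G} {a : G} (hE : Elem p E)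
    (hB : B ≤ E) (ha : a ∈ E) (hsup : B ⊔ zpowers a = E) (hne : B ≠ E) :
    Nat.card B * p = Nat.card E := by
  haveI := Fact.mk hp
  obtain ⟨i, hi⟩ := IsPGroup.iff_card.1 (hE.mono hB).isPGroup
  obtain ⟨j, hj⟩ := IsPGroup.iff_card.1 hE.isPGroup
  have h1 : Nat.card E ∣ Nat.card B * Nat.card (zpowers a) := hsup ▸
    Coprime.card_sup_dvd (le_normalizer_of_commute fun x hx y hy =>
      hE.1 x (hB hx) y (zpowers_le.2 ha hy))
  have h2 : Nat.card (zpowers a) ∣ p := by
    rw [Nat.card_zpowers]; exact orderOf_dvd_of_pow_eq_one (hE.2 a ha)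
  have h3 : Nat.card B < Nat.card E :=
    lt_of_not_ge fun h => hne (eq_of_le_of_card_ge hB h)
  rw [hi, hj] at h3
  have h4 := (Nat.pow_lt_pow_iff_right hp.one_lt).1 h3
  have h5 : p ^ j ∣ p ^ (i + 1) := by
    rw [pow_succ, ← hi, ← hj]; exact h1.trans (mul_dvd_mul_left _ h2)
  have h6 := (Nat.pow_dvd_pow_iff_le_right hp.one_lt).1 h5
  rw [hi, hj, ← pow_succ, show i + 1 = j by omega]

theorem coprime_two_group (hp : p.Prime) (hp2 : p ≠ 2) {A X : Subgroup G} (hA : IsPGroup p A)
    (hX : IsPGroup 2 X) : (Nat.card A).Coprime (Nat.card X) := by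
  haveI := Fact.mk hp
  haveI := Fact.mk Nat.prime_two
  obtain ⟨i, hi⟩ := IsPGroup.iff_card.1 hA
  obtain ⟨j, hj⟩ := IsPGroup.iff_card.1 hX
  rw [hi, hj]
  exact (((Nat.coprime_primes hp Nat.prime_two).2 hp2).pow_left i).pow_right j

/-- If `A` is elementary of order `p ^ n` and acts on an elementary 2-group nontrivially, some
element moves a point fixed by a hyperplane. -/
theorem exists_hyperplane (hp : p.Prime) (hp2 : p ≠ 2) {A W R : Subgroup G} (hA : Elem p A)
    (hW : IsPGroup 2 W) (hAW : A ≤ normalizer (W : Set G))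
    (hfix : W ⊓ centralizer (A : Set G) ≤ R) (hne : ¬ W ≤ R) :
    ∃ B : Subgroup G, ∃ a ∈ A, B ≤ A ∧ Nat.card B * p = Nat.card A ∧ B ⊔ zpowers a = A ∧
      ∃ w ∈ W, w ∈ centralizer (B : Set G) ∧ w ∉ R := by
  haveI := Fact.mk hp
  haveI := hA.isMulCommutative
  by_contra hcon
  refine hne (Coprime.le_of_cyclic_quotient hAW (coprime_two_group hp hp2 hA.isPGroup hW)
    fun B hB ⟨a, ha, hBa⟩ x hx => ?_)
  by_contra hxR
  by_cases hBA : B = A
  · exact hxR (hfix (hBA ▸ hx))
  · exact hcon ⟨B, a, ha, hB, card_mul_of_sup_zpowers hp hA hB ha hBa hBA, hBa, x, hx.1, hx.2,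
      hxR⟩

/-- An element centralised by `B` and by `a` is centralised by `B ⊔ ⟨a⟩`. -/
theorem mem_centralizer_sup {B : Subgroup G} {a w : G} (hB : w ∈ centralizer (B : Set G))
    (ha : a * w * a⁻¹ = w) : w ∈ centralizer ((B ⊔ zpowers a : Subgroup G) : Set G) := by
  have h : B ⊔ zpowers a ≤ centralizer ({w} : Set G) :=
    sup_le (fun b hb => mem_centralizer_singleton.2 (mem_centralizer_iff.1 hB b hb))
      (zpowers_le.2 (mem_centralizer_singleton.2 (conj_eq_iff.1 ha)))
  exact mem_centralizer_iff.2 fun x hx => mem_centralizer_singleton.1 (h hx)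

/-- A pair exists as soon as a group of order `p ^ n` lies in a 2-local. -/
theorem exists_pair (H : Hyp p n G) {E X : Subgroup G} (hE : Elem p E) (hcard : Nat.card E = p ^ n)
    (hX : IsPGroup 2 X) (hX1 : X ≠ ⊥) (hEX : E ≤ normalizer (X : Set G)) :
    ∃ z A, IsPair p n z (A : Subgroup G) := by
  haveI := Fact.mk Nat.prime_two
  haveI := Fact.mk H.prime
  set N := normalizer (X : Set G) with hN
  set R := (pCore 2 N).map N.subtype with hR
  have hXR : X ≤ R := Base.le_map_pCore le_normalizer le_rfl hX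
  have hR2 : IsPGroup 2 R := Base.isPGroup_map_pCore 2 N
  have hNR : N ≤ normalizer (R : Set G) := Base.le_normalizer_map_pCore N
  set Z := R ⊓ centralizer (R : Set G) with hZ
  have hNZ : N ≤ normalizer (Z : Set G) :=
    Coprime.le_normalizer_inf_inf hNR (Coprime.le_normalizer_centralizer hNR)
  let V : Subgroup G :=
    { carrier := {x | x ∈ Z ∧ x ^ 2 = 1}
      one_mem' := ⟨one_mem _, one_pow _⟩
      mul_mem' := fun {x y} hx hy => ⟨mul_mem hx.1 hy.1, by
        rw [(show Commute x y from mem_centralizer_iff.1 hy.1.2 x hx.1.1).mul_pow, hx.2, hy.2,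
          one_mul]⟩
      inv_mem' := fun {x} hx => ⟨inv_mem hx.1, by rw [inv_pow, hx.2, inv_one]⟩ }
  have hV : Elem 2 V :=
    ⟨fun x hx y hy => mem_centralizer_iff.1 hy.1.2 x hx.1.1, fun x hx => hx.2⟩
  have hEV : E ≤ normalizer (V : Set G) := fun g hg => mem_normalizer_iff.2 fun x => by
    change (x ∈ Z ∧ x ^ 2 = 1) ↔ (g * x * g⁻¹ ∈ Z ∧ (g * x * g⁻¹) ^ 2 = 1)
    rw [← mem_normalizer_iff.1 (hNZ (hEX hg)) x, conj_pow, conj_eq_one_iff]
  have hV1 : ¬ V ≤ ⊥ := by
    haveI : Nontrivial R := nontrivial_iff_ne_bot R |>.2 fun h => hX1 (le_bot_iff.1 (h ▸ hXR))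
    haveI := hR2.center_nontrivial
    obtain ⟨x, hx⟩ := exists_prime_orderOf_dvd_card' (G := center R) 2 (by
      obtain ⟨k, hk⟩ := IsPGroup.iff_card.1 (hR2.to_subgroup (center R))
      have hk0 : k ≠ 0 := fun h => by
        have := Finite.one_lt_card (α := center R)
        rw [hk, h] at this; simp at this
      rw [hk]; exact dvd_pow_self 2 hk0)
    intro h
    have hxV : ((x : R) : G) ∈ V := by
      refine ⟨⟨(x : R).2, mem_centralizer_iff.2 fun y hy =>
        congrArg Subtype.val (mem_center_iff.1 x.2 ⟨y, hy⟩)⟩, ?_⟩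
      rw [← hx]
      exact_mod_cast congrArg (fun t : center R => ((t : R) : G)) (pow_orderOf_eq_one x)
    have h2 : x = 1 := Subtype.ext (Subtype.ext (mem_bot.1 (h hxV)))
    rw [h2, orderOf_one] at hx
    omega
  by_cases hfix : V ⊓ centralizer (E : Set G) ≤ ⊥
  · obtain ⟨B, a, ha, hBE, hBc, hBa, w, hw, hwB, hw1⟩ :=
      exists_hyperplane H.prime H.ne_two hE hV.isPGroup hEV hfix hV1
    have hB1 : B ≠ ⊥ := fun h => by
      rw [h, card_bot, one_mul, hcard] at hBc
      have := (Nat.pow_eq_self_iff H.prime.one_lt).1 hBc.symm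
      have := H.three_le
      omega
    obtain ⟨⟨b, hb⟩, hb1⟩ := (ne_bot_iff_exists_ne_one).1 hB1
    have hmove : a * w * a⁻¹ ≠ w := fun h => hw1 (hfix ⟨hw, hBa ▸ mem_centralizer_sup hwB h⟩)
    obtain ⟨⟨v, hv, hv1, F, hF, hFc, hFv⟩, -⟩ := moved_two_group H
      (W := V ⊓ centralizer (B : Set G)) (hE.mono hBE) (hBc.trans hcard) hb
      (fun h => hb1 (Subtype.ext h)) (hV.mono inf_le_left) inf_le_right
      (mem_centralizer_singleton.2 (hE.1 a ha b (hBE hb)))
      (le_normalizer_of_commute (fun x hx y hy => hE.1 x hx y (hBE hy)) ha)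
      (Coprime.le_normalizer_inf_inf hEV (Coprime.le_normalizer_centralizer
        (le_normalizer_of_commute fun x hx y hy => hE.1 x hx y (hBE hy))) ha)
      ⟨hw, hwB⟩ hmove
    exact ⟨v, F, orderOf_eq_prime (hv.1.2) hv1, hF, hFc, hFv⟩
  · obtain ⟨v, ⟨hv, hvE⟩, hv1⟩ := SetLike.not_le_iff_exists.1 hfix
    exact ⟨v, E, orderOf_eq_prime hv.2 (fun h => hv1 (mem_bot.2 h)), hE, hcard,
      fun x hx => mem_centralizer_singleton.2 (mem_centralizer_iff.1 hvE x hx)⟩

variable {z : G} {A : Subgroup G}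

/-- `A` centralises every invariant elementary subgroup of `O_2(C(z))`. -/
theorem centralizes_elementary (H : Hyp p n G) (P : IsPair p n z A) {W : Subgroup G}
    (hW : Elem 2 W) (hWR : W ≤ cR z) (hAW : A ≤ normalizer (W : Set G)) :
    W ≤ centralizer (A : Set G) := by
  haveI := Fact.mk Nat.prime_two
  by_contra hne
  set W' := W ⊔ zpowers z with hW'
  have hWz : ∀ x ∈ W, ∀ y ∈ zpowers z, x * y = y * x := fun x hx y hy => by
    obtain ⟨i, rfl⟩ := mem_zpowers_iff.1 hy
    exact ((show Commute x z from P.cR_comm (hWR hx)).zpow_right i).eq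
  have hW'e : Elem 2 W' := hW.sup (elem_zpowers P.z_sq) hWz
  have hAW' : A ≤ normalizer (W' : Set G) := Coprime.le_normalizer_sup_sup hAW
    (le_trans P.le (centralizer_le_normalizer_zpowers z))
  obtain ⟨B, a, ha, hBA, hBc, hBa, w, hw, hwB, hwA⟩ := exists_hyperplane H.prime H.ne_two P.elem
    hW'e.isPGroup hAW' (R := centralizer (A : Set G)) inf_le_right
    fun h => hne (le_sup_left.trans h)
  rw [P.card] at hBc
  have hB1 : B ≠ ⊥ := fun h => by
    rw [h, card_bot, one_mul] at hBc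
    have := (Nat.pow_eq_self_iff H.prime.one_lt).1 hBc.symm
    have := H.three_le
    omega
  obtain ⟨⟨b, hb⟩, hb1⟩ := (ne_bot_iff_exists_ne_one).1 hB1
  have hcommA : ∀ x ∈ A, ∀ y ∈ B, x * y = y * x := fun x hx y hy => P.elem.1 x hx y (hBA hy)
  set W₁ := W' ⊓ centralizer (B : Set G) with hW₁
  have hAW₁ : A ≤ normalizer (W₁ : Set G) := Coprime.le_normalizer_inf_inf hAW'
    (Coprime.le_normalizer_centralizer (le_normalizer_of_commute hcommA))
  have hmove : a * w * a⁻¹ ≠ w := fun h => hwA (hBa ▸ mem_centralizer_sup hwB h)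
  obtain ⟨-, h8⟩ := moved_two_group H (W := W₁) (P.elem.mono hBA) hBc hb
    (fun h => hb1 (Subtype.ext h)) (hW'e.mono inf_le_left) inf_le_right
    (mem_centralizer_singleton.2 (hcommA a ha b hb)) (le_normalizer_of_commute hcommA ha)
    (hAW₁ ha) ⟨hw, hwB⟩ hmove
  obtain ⟨k, hk⟩ := IsPGroup.iff_card.1 (hW'e.mono (inf_le_left : W₁ ≤ W')).isPGroup
  -- five elements: `1`, `z` and three conjugates of `w`
  have hzW₁ : z ∈ W₁ := ⟨mem_sup_right (mem_zpowers z), mem_centralizer_iff.2 fun x hx =>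
    P.z_comm (hBA hx)⟩
  have hw₁W : a * w * a⁻¹ ∈ W₁ := conj_mem_of_mem_normalizer (hAW₁ ha) ⟨hw, hwB⟩
  have hw₂W : a * (a * w * a⁻¹) * a⁻¹ ∈ W₁ := conj_mem_of_mem_normalizer (hAW₁ ha) hw₁W
  have hz : ∀ x : G, a * x * a⁻¹ = z → x = z := fun x h => by
    have hza : a⁻¹ * z * a = z := by
      rw [mul_assoc, ← P.z_comm ha, inv_mul_cancel_left]
    rw [show x = a⁻¹ * (a * x * a⁻¹) * a by group, h, hza]
  have hw1 : w ≠ 1 := fun h => hmove (by subst h; simp)
  have hwz : w ≠ z := fun h => hmove (by subst h; rw [P.z_comm ha, mul_inv_cancel_right])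
  have hw21 : a * (a * w * a⁻¹) * a⁻¹ ≠ w := by
    intro h
    obtain ⟨j, hj⟩ := H.prime.odd_of_ne_two H.ne_two
    have h2 : Commute (a ^ 2) w := by
      show a ^ 2 * w = w * a ^ 2
      rw [← conj_eq_iff]
      calc a ^ 2 * w * (a ^ 2)⁻¹ = a * (a * w * a⁻¹) * a⁻¹ := by rw [pow_two]; group
        _ = w := h
    have h3 : a = ((a ^ 2) ^ j)⁻¹ := by
      rw [← pow_mul, eq_inv_iff_mul_eq_one, ← pow_succ', ← hj]
      exact P.elem.2 a ha
    have h4 : Commute a w := by rw [h3]; exact (h2.pow_left j).inv_left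
    exact hmove (conj_eq_iff.2 h4.eq)
  have h5 : 4 < Nat.card W₁ := by
    classical
    haveI := Fintype.ofFinite W₁
    rw [Nat.card_eq_fintype_card]
    let s : Finset W₁ := {1, ⟨z, hzW₁⟩, ⟨w, hw, hwB⟩, ⟨_, hw₁W⟩, ⟨_, hw₂W⟩}
    have hs : s.card = 5 := by
      have e0 := P.z_ne_one
      have e1 : a * w * a⁻¹ ≠ 1 := fun h => hw1 (conj_eq_one_iff.1 h)
      have e2 : a * (a * w * a⁻¹) * a⁻¹ ≠ 1 := fun h => e1 (conj_eq_one_iff.1 h)
      have e3 : a * w * a⁻¹ ≠ z := fun h => hwz (hz w h)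
      have e4 : a * (a * w * a⁻¹) * a⁻¹ ≠ z := fun h => e3 (hz _ h)
      have e5 : a * (a * w * a⁻¹) * a⁻¹ ≠ a * w * a⁻¹ := fun h =>
        hmove (mul_left_cancel (mul_right_cancel h))
      simp only [s]
      rw [Finset.card_insert_of_notMem, Finset.card_insert_of_notMem, Finset.card_insert_of_notMem,
        Finset.card_insert_of_notMem, Finset.card_singleton] <;>
        simp only [Finset.mem_insert, Finset.mem_singleton, Subtype.ext_iff, OneMemClass.coe_one,
          not_or] <;>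
        refine ?_
      · exact e5.symm
      · exact ⟨hmove.symm, hw21.symm⟩
      · exact ⟨hwz.symm, e3.symm, e4.symm⟩
      · exact ⟨e0.symm, hw1.symm, e1.symm, e2.symm⟩
    have := Finset.card_le_univ s
    omega
  rw [hk] at h5 h8
  have : 2 < k := (Nat.pow_lt_pow_iff_right one_lt_two).1 (by simpa using h5)
  have : k < 3 := (Nat.pow_lt_pow_iff_right one_lt_two).1 (by simpa using h8)
  omega

/-- `A` centralises every invariant abelian subgroup of `O_2(C(z))`. -/
theorem centralizes_abelian (H : Hyp p n G) (P : IsPair p n z A) {K : Subgroup G}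
    (hK : ∀ x ∈ K, ∀ y ∈ K, x * y = y * x) (hKR : K ≤ cR z)
    (hAK : A ≤ normalizer (K : Set G)) : K ≤ centralizer (A : Set G) := by
  haveI := Fact.mk Nat.prime_two
  let W : Subgroup G :=
    { carrier := {x | x ∈ K ∧ x ^ 2 = 1}
      one_mem' := ⟨one_mem _, one_pow _⟩
      mul_mem' := fun {x y} hx hy => ⟨mul_mem hx.1 hy.1, by
        rw [(show Commute x y from hK x hx.1 y hy.1).mul_pow, hx.2, hy.2, one_mul]⟩
      inv_mem' := fun {x} hx => ⟨inv_mem hx.1, by rw [inv_pow, hx.2, inv_one]⟩ }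
  have hW : W ≤ centralizer (A : Set G) := centralizes_elementary H P
    ⟨fun x hx y hy => hK x hx.1 y hy.1, fun x hx => hx.2⟩ (fun x hx => hKR hx.1)
    fun g hg => mem_normalizer_iff.2 fun x => by
      change (x ∈ K ∧ x ^ 2 = 1) ↔ (g * x * g⁻¹ ∈ K ∧ (g * x * g⁻¹) ^ 2 = 1)
      rw [← mem_normalizer_iff.1 (hAK hg) x, conj_pow, conj_eq_one_iff]
  have key : ∀ k : ℕ, ∀ x ∈ K, x ^ 2 ^ k = 1 → x ∈ centralizer (A : Set G) := by
    intro k
    induction k with
    | zero => intro x _ hx; simp only [pow_zero, pow_one] at hx; subst hx; exact one_mem _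
    | succ k ih =>
      intro x hx hxk
      have hx2 := ih (x ^ 2) (pow_mem hx 2) (by rw [← pow_mul, ← pow_succ']; exact hxk)
      refine mem_centralizer_iff.2 fun a ha => conj_eq_iff.1 ?_
      set d := a * x * a⁻¹ * x⁻¹ with hd
      have hdK : d ∈ K := mul_mem (conj_mem_of_mem_normalizer (hAK ha) hx) (inv_mem hx)
      have hdx : Commute (a * x * a⁻¹) x⁻¹ :=
        hK _ (conj_mem_of_mem_normalizer (hAK ha) hx) _ (inv_mem hx)
      have hd2 : d ^ 2 = 1 := by
        rw [hd, hdx.mul_pow, conj_pow, conj_eq_iff.2 (mem_centralizer_iff.1 hx2 a ha), inv_pow,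
          mul_inv_cancel]
      have hda : a * d * a⁻¹ = d := conj_eq_iff.2 (mem_centralizer_iff.1 (hW ⟨hdK, hd2⟩) a ha)
      have hpow : ∀ i : ℕ, a ^ i * x * (a ^ i)⁻¹ = d ^ i * x := by
        intro i
        induction i with
        | zero => simp
        | succ i ih =>
          calc a ^ (i + 1) * x * (a ^ (i + 1))⁻¹ = a * (a ^ i * x * (a ^ i)⁻¹) * a⁻¹ := by
                rw [pow_succ']; group
            _ = (a * d * a⁻¹) ^ i * (a * x * a⁻¹) := by rw [ih, conj_pow]; group
            _ = d ^ i * (d * x) := by rw [hda, hd]; group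
            _ = d ^ (i + 1) * x := by rw [pow_succ]; group
      have hdp : d ^ p = 1 := by
        have h := hpow p
        rw [P.elem.2 a ha, one_mul, inv_one, mul_one] at h
        exact mul_eq_right.mp h.symm
      have hd1 : d = 1 := eq_one_of_pow_eq_one_of_coprime hdp hd2
        ((Nat.coprime_primes H.prime Nat.prime_two).2 H.ne_two)
      rwa [hd, mul_inv_eq_one] at hd1
  intro x hx
  obtain ⟨k, hk⟩ := ((isPGroup_cR z).to_le hKR) ⟨x, hx⟩
  exact key k x hx (congrArg Subtype.val hk)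

/-- `C(A) ∩ C(z)` has only the involution `z`. -/
theorem eq_z_of_sq (H : Hyp p n G) (P : IsPair p n z A) {t : G}
    (htA : t ∈ centralizer (A : Set G)) (htz : t * z = z * t) (ht : t ^ 2 = 1) (ht1 : t ≠ 1) :
    t = z := by
  by_contra htne
  have hp := H.prime
  have hp2 := H.ne_two
  obtain ⟨a, ha, ha1⟩ : ∃ a ∈ A, a ≠ 1 := by
    refine (bot_or_exists_ne_one A).resolve_left fun h => ?_
    have h2 := P.card
    rw [h, card_bot] at h2
    exact absurd h2.symm (Nat.one_lt_pow (by have := H.three_le; omega) hp.one_lt).ne'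
  obtain ⟨D, hDU, hDe, -, hDn, hDd⟩ := exists_detecting_inf H P.elem.isPGroup (P.elem.2 a ha)
    ha1 ha fun x hx => mem_centralizer_singleton.2 (P.elem.1 x hx a ha)
  have hzA : z ∈ centralizer (A : Set G) := mem_centralizer_iff.2 fun x hx => P.z_comm hx
  set W := zpowers z ⊔ zpowers t with hW
  have hzt : ∀ x ∈ zpowers z, ∀ y ∈ zpowers t, x * y = y * x := fun x hx y hy => by
    obtain ⟨i, rfl⟩ := mem_zpowers_iff.1 hx
    obtain ⟨j, rfl⟩ := mem_zpowers_iff.1 hy
    exact ((show Commute z t from htz.symm).zpow_zpow i j).eq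
  have hWe : Elem 2 W := (elem_zpowers P.z_sq).sup (elem_zpowers ht) hzt
  have hWA : W ≤ centralizer (A : Set G) := sup_le (zpowers_le.2 hzA) (zpowers_le.2 htA)
  obtain ⟨u, huD, hu1, hinv, hsgn⟩ := exists_eigen hp hp2 hWe
    ((isPGroup_cP a).to_le (hDU.trans inf_le_left))
    (fun w hw => hDn w (centralizer_le (Set.singleton_subset_iff.2 ha) (hWA hw))
      (centralizer_le_normalizer _ (hWA hw)))
    (mem_sup_right (mem_zpowers t)) fun h => ht1 (hDd t htA (orderOf_coprime_of_sq hp hp2 ht) h)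
  obtain ⟨w, hwW, hw1, hwu⟩ : ∃ w ∈ W, w ≠ 1 ∧ w * u * w⁻¹ = u := by
    rcases hsgn z (mem_sup_left (mem_zpowers z)) with h | h
    · exact ⟨z, mem_sup_left (mem_zpowers z), P.z_ne_one, h⟩
    · exact ⟨z * t, mul_mem (mem_sup_left (mem_zpowers z)) (mem_sup_right (mem_zpowers t)),
        fun e => htne ((mul_eq_one_iff_inv_eq.1 e).symm.trans P.z_inv), fix_of_mul (.inr ⟨h, hinv⟩)⟩
  have hAu : ∀ x ∈ A, ∀ y ∈ zpowers u, x * y = y * x := fun x hx y hy =>
    mem_centralizer_iff.1 (zpowers_le.2 (hDU huD).2 hy) x hx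
  have hAw : A ≤ centralizer ({w} : Set G) := fun x hx =>
    mem_centralizer_singleton.2 (mem_centralizer_iff.1 (hWA hwW) x hx)
  have htmem : A ≤ centralizer ({t} : Set G) := fun x hx =>
    mem_centralizer_singleton.2 (mem_centralizer_iff.1 htA x hx)
  have hb := H.bound (A ⊔ zpowers u) (zpowers w) (P.elem.sup (elem_zpowers (hDe u huD)) hAu)
    (elem_zpowers (hWe.2 w hwW)).isPGroup (by simpa using hw1) (by
      refine le_trans ?_ (centralizer_le_normalizer _)
      rw [zpowers_eq_closure w, centralizer_closure]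
      exact fix_sup hAw (fix_zpowers hwu))
  rw [card_sup_of_commute hAu (disjoint_of_fix_inv hp hp2 htmem P.elem.2 (inv_zpowers hinv)),
    card_zpowers_of_pow hp (hDe u huD) hu1, P.card] at hb
  have hpos : 0 < p ^ n := pow_pos hp.pos n
  nlinarith [hp.two_le]

end CfsgLib.KlingerMason
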