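import Cfsg.Agent.Lib.KlingerMason.Toggle

/-!
The theorem of Klinger and Mason: quaternion pairs inside the centralisers of hyperplanes.
-/

set_option autoImplicit false
set_option linter.style.haveILetI false
set_option linter.unusedSectionVars false

namespace CfsgLib.KlingerMason

open Cfsg Subgroup
open scoped commutatorElement

variable {G : Type*} [Group G] [Finite G] {p n : ℕ}

/-- Equal up to a factor `z`. -/
def Cls (z x y : G) : Prop := y = x ∨ y = z * x

/-- A quaternion pair in `TH z A K`. -/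
structure QPair (z : G) (A K : Subgroup G) (s s' : G) : Prop where
  mem : s ∈ TH z A K
  mem' : s' ∈ TH z A K
  sq : s ^ 2 = z
  sq' : s' ^ 2 = z
  comm : ⁅s, s'⁆ = z

/-- `TH z A K` is the quaternion group of a pair. -/
def Small (z : G) (A K : Subgroup G) (s s' : G) : Prop :=
  ∀ x ∈ TH z A K, Cls z 1 x ∨ Cls z s x ∨ Cls z s' x ∨ Cls z (s * s') x

theorem Cls.symm {z x y : G} (hz : z * z = 1) (h : Cls z x y) : Cls z y x := by
  rcases h with rfl | rfl
  · exact Or.inl rfl
  · exact Or.inr (by rw [← mul_assoc, hz, one_mul])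

theorem Cls.trans {z x y w : G} (hz : z * z = 1) (h : Cls z x y) (h' : Cls z y w) :
    Cls z x w := by
  rcases h with rfl | rfl
  · exact h'
  · rcases h' with rfl | rfl
    · exact Or.inr rfl
    · exact Or.inl (by rw [← mul_assoc, hz, one_mul])

theorem Cls.conj {z x y g : G} (hg : g * z = z * g) (h : Cls z x y) :
    Cls z (g * x * g⁻¹) (g * y * g⁻¹) := by
  rcases h with rfl | rfl
  · exact Or.inl rfl
  · refine Or.inr ?_
    calc g * (z * x) * g⁻¹ = (g * z) * x * g⁻¹ := by group
      _ = _ := by rw [hg]; group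

theorem Elem.adjoin {W : Subgroup G} (hW : Elem 2 W) {w : G} (hw : w ^ 2 = 1)
    (hc : W ≤ centralizer ({w} : Set G)) : Elem 2 (W ⊔ zpowers w) :=
  hW.sup (elem_zpowers hw) fun _ hx _ hy => by
    obtain ⟨i, rfl⟩ := mem_zpowers_iff.1 hy
    exact ((show Commute _ w from mem_centralizer_singleton.1 (hc hx)).zpow_right i).eq

theorem two_mul_card_le {W : Subgroup G} {w : G} (hw : w ^ 2 = 1)
    (hc : W ≤ centralizer ({w} : Set G)) (hne : w ∉ W) :
    2 * Nat.card W ≤ Nat.card ↥(W ⊔ zpowers w) := by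
  have hcomm : ∀ x ∈ W, ∀ y ∈ zpowers w, x * y = y * x := fun x hx y hy => by
    obtain ⟨i, rfl⟩ := mem_zpowers_iff.1 hy
    exact ((show Commute x w from mem_centralizer_singleton.1 (hc hx)).zpow_right i).eq
  have hw1 : w ≠ 1 := fun e => hne (e ▸ one_mem W)
  have hd : W ⊓ zpowers w = ⊥ := by
    rw [eq_bot_iff_forall]
    intro x hx
    by_contra hx1
    have he : zpowers x = zpowers w := eq_of_le_of_card_ge (zpowers_le.2 hx.2) (by
      rw [card_zpowers_of_pow Nat.prime_two hw hw1,
        card_zpowers_of_pow Nat.prime_two ((elem_zpowers hw).2 x hx.2) hx1])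
    exact hne (zpowers_le.2 hx.1 (he.ge (mem_zpowers w)))
  rw [card_sup_of_commute hcomm hd, card_zpowers_of_pow Nat.prime_two hw hw1, mul_comm]

theorem commute_of_pow_coprime {c s : G} {m q : ℕ} (hc : c ^ q = 1) (h : Commute (c ^ m) s)
    (hmq : m.Coprime q) : Commute c s := by
  obtain ⟨j, hj⟩ := exists_pow_eq_self_of_coprime
    (x := c) (hmq.coprime_dvd_right (orderOf_dvd_of_pow_eq_one hc))
  rw [← hj]
  exact h.pow_left j

variable {z : G} {A : Subgroup G}

section

variable (H : Hyp p n G) (P : IsPair p n z A)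
include H P

theorem zz : z * z = 1 := by rw [← pow_two]; exact P.z_sq

theorem cls_iff {x y : G} : Cls z x y ↔ y * x⁻¹ ∈ zpowers z := by
  constructor
  · rintro (rfl | rfl)
    · rw [mul_inv_cancel]; exact one_mem _
    · rw [mul_inv_cancel_right]; exact mem_zpowers z
  · intro h
    rcases P.mem_zpowers h with e | e
    · exact Or.inl (mul_inv_eq_one.1 e)
    · exact Or.inr (eq_mul_of_mul_inv_eq e)

theorem anti_of_comm {t x : G} (h : ⁅t, x⁆ = z) : Anti z t x := by
  show t * x * t⁻¹ = z * x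
  rw [← h, commutatorElement_def]; group

theorem conj_mem_of_le_R1 {W : Subgroup G} (hW : W ≤ R1 z A) (hz : z ∈ W) {t : G}
    (ht : t ∈ R1 z A) : ∀ v ∈ W, t * v * t⁻¹ ∈ W := by
  intro v hv
  have e : t * v * t⁻¹ = ⁅t, v⁆ * v := by rw [commutatorElement_def]; group
  rw [e]
  rcases commutator_cases H P ht (hW hv) with h | h <;> rw [h]
  · rwa [one_mul]
  · exact mul_mem hz hv

theorem QPair.not_cls {K : Subgroup G} {s s' : G} (q : QPair z A K s s') : ¬ Cls z s s' := by
  intro h
  apply P.z_ne_one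
  rw [← q.comm, commutatorElement_eq_one_iff_mul_comm]
  rcases h with rfl | rfl
  · rfl
  · have hc : Commute s z := P.cR_comm (R1_le P q.mem.1)
    exact (hc.mul_right (Commute.refl s)).eq

theorem QPair.symm {K : Subgroup G} {s s' : G} (q : QPair z A K s s') : QPair z A K s' s :=
  ⟨q.mem', q.mem, q.sq', q.sq,
    (commutator_symm H P q.mem.1 q.mem'.1).trans q.comm⟩

/-- A quaternion pair from an element and its conjugate. -/
theorem exists_qpair {K : Subgroup G} (hK : Live p z A K) :
    ∃ s c, c ∈ A ∧ QPair z A K s (c * s * c⁻¹) := by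
  obtain ⟨s, hs, c, hc, h2, hcm⟩ := exists_quaternion_pair H P hK
  exact ⟨s, c, hc, hs, conj_mem_of_mem_normalizer (le_normalizer_TH H P hK.1.1 hc) hs, h2,
    by rw [conj_pow, h2, P.z_comm hc, mul_inv_cancel_right], hcm⟩

/-- Every element is a pair element times something centralising the pair. -/
theorem adjust {K : Subgroup G} {s s' : G} (q : QPair z A K s s') {x : G}
    (hx : x ∈ TH z A K) :
    ∃ y ∈ TH z A K, s * y = y * s ∧ s' * y = y * s' ∧
      (y = x ∨ y = x * s ∨ y = x * s' ∨ y = x * s' * s) := by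
  have hzz := zz H P
  have cxs : x * z = z * x := P.cR_comm (R1_le P hx.1)
  have hcm := fun {u v : G} => @commutatorElement_eq_one_iff_mul_comm G _ u v
  have a12 : Anti z s s' := anti_of_comm H P q.comm
  have a21 : Anti z s' s := anti_of_comm H P (q.symm H P).comm
  rcases commutator_cases H P q.mem.1 hx.1 with h | h <;>
    rcases commutator_cases H P q.mem'.1 hx.1 with h' | h'
  · exact ⟨x, hx, hcm.1 h, hcm.1 h', Or.inl rfl⟩
  · exact ⟨x * s, mul_mem hx q.mem,
      ((show Commute s x from hcm.1 h).mul_right (Commute.refl s)).eq,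
      Anti.commute_mul hzz (anti_of_comm H P h') a21 cxs, Or.inr (Or.inl rfl)⟩
  · exact ⟨x * s', mul_mem hx q.mem',
      Anti.commute_mul hzz (anti_of_comm H P h) a12 cxs,
      ((show Commute s' x from hcm.1 h').mul_right (Commute.refl s')).eq,
      Or.inr (Or.inr (Or.inl rfl))⟩
  · have h1 : Commute s (x * s') := Anti.commute_mul hzz (anti_of_comm H P h) a12 cxs
    have h2 : Anti z s' (x * s') := (anti_of_comm H P h').mul_right rfl
    exact ⟨x * s' * s, mul_mem (mul_mem hx q.mem') q.mem, (h1.mul_right (Commute.refl s)).eq,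
      Anti.commute_mul hzz h2 a21 (P.cR_comm (R1_le P (mul_mem hx.1 q.mem'.1))),
      Or.inr (Or.inr (Or.inr rfl))⟩

/-- If only `⟨z⟩` centralises the pair, `TH` is small. -/
theorem small_of_forall {K : Subgroup G} {s s' : G} (q : QPair z A K s s')
    (h : ∀ y ∈ TH z A K, s * y = y * s → s' * y = y * s' → y ∈ zpowers z) :
    Small z A K s s' := by
  intro x hx
  obtain ⟨y, hy, h1, h2, he⟩ := adjust H P q hx
  have hy' := P.mem_zpowers (h y hy h1 h2)
  have hzs : ∀ t ∈ TH z A K, t ^ 2 = z → t⁻¹ = z * t := fun t ht h2t => by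
    refine inv_eq_of_mul_eq_one_left ?_
    rw [mul_assoc, ← pow_two, h2t]
    exact zz H P
  have hz1 : z * z = 1 := zz H P
  have hcl : ∀ e, x = y * e → Cls z e x := fun e he => by
    rcases hy' with rfl | rfl
    · exact Or.inl (by rw [he, one_mul])
    · exact Or.inr he
  rcases he with he | he | he | he
  · exact Or.inl (hcl 1 (by rw [he, mul_one]))
  · refine Or.inr (Or.inl ((Cls.trans hz1 ?_ (hcl s⁻¹ (by rw [he, mul_inv_cancel_right])))))
    exact Or.inr (hzs s q.mem q.sq)
  · refine Or.inr (Or.inr (Or.inl (Cls.trans hz1 ?_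
      (hcl s'⁻¹ (by rw [he, mul_inv_cancel_right])))))
    exact Or.inr (hzs s' q.mem' q.sq')
  · refine Or.inr (Or.inr (Or.inr (Cls.trans hz1 ?_
      (hcl (s⁻¹ * s'⁻¹) (by rw [he]; group)))))
    refine Or.inl ?_
    rw [hzs s q.mem q.sq, hzs s' q.mem' q.sq']
    calc z * s * (z * s') = z * (s * z) * s' := by group
      _ = s * s' := by rw [P.cR_comm (R1_le P q.mem.1), ← mul_assoc z z, hz1, one_mul]

/-- Two commuting quaternion pairs cannot share a hyperplane. -/
theorem two_qpairs_false {K : Subgroup G} (hK : Kernel p A K) {s s' u u' : G}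
    (q : QPair z A K s s') (q' : QPair z A K u u') (h₁ : s * u = u * s) (h₂ : s * u' = u' * s)
    (h₃ : s' * u = u * s') (h₄ : s' * u' = u' * s') : False := by
  have hzz := zz H P
  have hR : ∀ {x}, x ∈ TH z A K → x * z = z * x := fun hx => P.cR_comm (R1_le P hx.1)
  have a21 : Anti z s' s := anti_of_comm H P (q.symm H P).comm
  have a12 : Anti z s s' := anti_of_comm H P q.comm
  have b12 : Anti z u u' := anti_of_comm H P q'.comm
  set w₁ := s * u with hw₁
  set w₂ := s' * u' with hw₂
  have e₁ : w₁ ^ 2 = 1 := by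
    rw [hw₁, (show Commute s u from h₁).mul_pow, q.sq, q'.sq, hzz]
  have e₂ : w₂ ^ 2 = 1 := by
    rw [hw₂, (show Commute s' u' from h₄).mul_pow, q.sq', q'.sq', hzz]
  have c₁ : Anti z s' w₁ := a21.mul_right h₃
  have c₁₂ : w₁ * w₂ = w₂ * w₁ :=
    Anti.mul_commute hzz (a12.mul_right h₂) (b12.mul_left h₃.symm (hR q.mem')) (hR q.mem)
  have hzw : ∀ {x}, x ∈ TH z A K → zpowers z ≤ centralizer ({x} : Set G) := fun hx =>
    zpowers_le.2 (mem_centralizer_singleton.2 (hR hx).symm)
  have m₁ : w₁ ∈ TH z A K := mul_mem q.mem q'.mem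
  have m₂ : w₂ ∈ TH z A K := mul_mem q.mem' q'.mem'
  set W₁ := zpowers z ⊔ zpowers w₁ with hW₁
  have hW₁w : W₁ ≤ centralizer ({w₂} : Set G) :=
    sup_le (hzw m₂) (zpowers_le.2 (mem_centralizer_singleton.2 c₁₂))
  have hW : Elem 2 (W₁ ⊔ zpowers w₂) :=
    ((elem_zpowers P.z_sq).adjoin e₁ (hzw m₁)).adjoin e₂ hW₁w
  have hWT : W₁ ⊔ zpowers w₂ ≤ TH z A K := sup_le
    (sup_le (zpowers_le.2 (z_mem_TH H P hK.1)) (zpowers_le.2 m₁)) (zpowers_le.2 m₂)
  have hzW : z ∈ W₁ ⊔ zpowers w₂ := mem_sup_left (mem_sup_left (mem_zpowers z))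
  have hwz : w₁ ∉ zpowers z := fun h => by
    have e : s' * w₁ = w₁ * s' :=
      (mem_centralizer_singleton.1 (hzw q.mem' h)).symm
    rw [← conj_eq_iff, c₁] at e
    exact P.z_ne_one (mul_eq_right.1 e)
  have hw2 : w₂ ∉ W₁ := fun h => by
    have hu : W₁ ≤ centralizer ({u} : Set G) := sup_le (hzw q'.mem)
      (zpowers_le.2 (mem_centralizer_singleton.2
        ((show Commute s u from h₁).mul_left (Commute.refl u)).eq))
    have e : u * w₂ = w₂ * u := (mem_centralizer_singleton.1 (hu h)).symm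
    rw [← conj_eq_iff, (show Anti z u w₂ from b12.mul_left h₃.symm (hR q.mem'))] at e
    exact P.z_ne_one (mul_eq_right.1 e)
  have h8 : 8 ≤ Nat.card ↥(W₁ ⊔ zpowers w₂) := by
    have k1 := two_mul_card_le e₁ (hzw m₁) hwz
    have k2 := two_mul_card_le e₂ hW₁w hw2
    rw [card_zpowers_of_pow Nat.prime_two P.z_sq P.z_ne_one] at k1
    rw [← hW₁] at k1
    omega
  have hKb : K ≠ ⊥ := fun h => by
    have := hK.2
    rw [h, card_bot, one_mul, P.card] at this
    have := (Nat.pow_eq_self_iff H.prime.one_lt).1 this.symm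
    have := H.three_le
    omega
  obtain ⟨⟨b, hb⟩, hb1⟩ := ne_bot_iff_exists_ne_one.1 hKb
  have hs' : s' ∈ centralizer (K : Set G) := q.mem'.2
  obtain ⟨-, h⟩ := moved_two_group H (W := W₁ ⊔ zpowers w₂) (c := s') (w₀ := w₁)
    (P.elem.mono hK.1) (hK.2.trans P.card) hb (fun h => hb1 (Subtype.ext h)) hW
    (hWT.trans inf_le_right) (centralizer_le (Set.singleton_subset_iff.2 hb) hs')
    (centralizer_le_normalizer _ hs')
    (mem_normalizer_iff.2 fun v => ⟨fun hv =>
      conj_mem_of_le_R1 H P (hWT.trans inf_le_left) hzW q.mem'.1 v hv, fun hv => by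
      have := conj_mem_of_le_R1 H P (hWT.trans inf_le_left) hzW (inv_mem q.mem'.1) _ hv
      simpa [mul_assoc] using this⟩)
    (mem_sup_left (mem_sup_right (mem_zpowers w₁)))
    (fun e => P.z_ne_one (mul_eq_right.1 (c₁.symm.trans e)))
  omega

/-- The element outside the kernel moving a pair generates `A` with it. -/
theorem QPair.not_mem {K : Subgroup G} {s c : G} (q : QPair z A K s (c * s * c⁻¹)) : c ∉ K := by
  intro hc
  refine q.not_cls H P (Or.inl ?_)
  exact conj_eq_iff.2 (mem_centralizer_iff.1 q.mem.2 c hc)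

end

end CfsgLib.KlingerMason
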