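import Cfsg.Agent.Lib.KlingerMason.Structure

/-!
The theorem of Klinger and Mason for `p = 3`: every live hyperplane of every pair carries a
quaternion group permuted transitively, and `C_R(A)` commutes with it.
-/

set_option autoImplicit false
set_option linter.style.haveILetI false
set_option linter.unusedSectionVars false

namespace CfsgLib.KlingerMason

open Cfsg Subgroup
open scoped commutatorElement

variable {G : Type*} [Group G] [Finite G] {n : ℕ} {z : G} {A : Subgroup G}

section

variable (H : Hyp 3 n G) (P : IsPair 3 n z A)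
include H P

theorem conj_three {c x : G} (hc : c ∈ A) : c * (c * (c * x * c⁻¹) * c⁻¹) * c⁻¹ = x := by
  have h3 : c ^ 3 = 1 := P.elem.2 c hc
  calc c * (c * (c * x * c⁻¹) * c⁻¹) * c⁻¹ = c ^ 3 * x * (c ^ 3)⁻¹ := by
        rw [pow_succ, pow_two]; group
    _ = x := by rw [h3]; group

theorem orbit_cls {K : Subgroup G} (hK : Kernel 3 A K) {s c : G} (hc : c ∈ A)
    (q : QPair z A K s (c * s * c⁻¹)) :
    Cls z (s * (c * s * c⁻¹)) (c * (c * s * c⁻¹) * c⁻¹) := by
  have hzz := zz H P
  set s' := c * s * c⁻¹ with hs'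
  set s'' := c * s' * c⁻¹ with hs''
  have h'' : s'' ∈ TH z A K := conj_mem_of_mem_normalizer (le_normalizer_TH H P hK.1 hc) q.mem'
  set e := s * s' * s'' with he
  have heT : e ∈ TH z A K := mul_mem (mul_mem q.mem q.mem') h''
  have hce : c * e * c⁻¹ = ⁅s⁻¹, e⁆ * e := by
    calc c * e * c⁻¹ = s' * s'' * (c * s'' * c⁻¹) := by rw [he, hs'', hs']; group
      _ = s' * s'' * s := by rw [hs'', hs', conj_three H P hc]
      _ = _ := by rw [he, commutatorElement_def]; group
  set ζ := ⁅s⁻¹, e⁆ with hζe
  have hζ := commutator_cases H P (inv_mem q.mem.1) heT.1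
  have hcζ : c * ζ * c⁻¹ = ζ := by
    rcases hζ with h | h <;> rw [hζe, h]
    · simp
    · rw [P.z_comm hc, mul_inv_cancel_right]
  have h3 : ζ ^ 3 = 1 := by
    have h := conj_three H P (x := e) hc
    rw [hce] at h
    have e1 : c * (c * (ζ * e) * c⁻¹) * c⁻¹ = ζ * ζ * ζ * e := by
      calc c * (c * (ζ * e) * c⁻¹) * c⁻¹
          = (c * (c * ζ * c⁻¹) * c⁻¹) * (c * (c * e * c⁻¹) * c⁻¹) := by group
        _ = ζ * (c * (ζ * e) * c⁻¹) := by rw [hcζ, hcζ, hce]
        _ = ζ * ((c * ζ * c⁻¹) * (c * e * c⁻¹)) := by group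
        _ = _ := by rw [hcζ, hce]; group
    rw [e1] at h
    rw [pow_succ, pow_two]
    exact mul_eq_right.1 h
  have hζ1 : ζ = 1 := by
    rcases hζ with h | h
    · exact h
    · exfalso
      rw [hζe, h, pow_succ, P.z_sq, one_mul] at h3
      exact P.z_ne_one h3
  have hee : e ∈ zpowers z := (sympl_core H P).2.2.1 e heT.1 (by
    rw [← sup_zpowers_eq H P hK hc (q.not_mem H P)]
    exact mem_centralizer_sup heT.2 (by rw [hce, hζ1, one_mul]))
  have hs : s'' = (s * s')⁻¹ * e := by rw [he]; group
  have hinv : Cls z (s * s') (s * s')⁻¹ := by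
    refine Or.inr (inv_eq_of_mul_eq_one_left ?_)
    have ha : Anti z s' s := anti_of_comm H P (q.symm H P).comm
    calc z * (s * s') * (s * s') = z * s * (s' * s * s'⁻¹) * s' ^ 2 := by group
      _ = z * s * (z * s) * z := by rw [ha, q.sq']
      _ = z * (s * z) * s * z := by group
      _ = (z * z) * s ^ 2 * z := by rw [P.cR_comm (R1_le P q.mem.1), pow_two]; group
      _ = 1 := by rw [q.sq, hzz, one_mul, hzz]
  refine hinv.trans hzz ?_
  rcases P.mem_zpowers hee with h | h
  · exact Or.inl (by rw [hs, h, mul_one])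
  · exact Or.inr (by rw [hs, h]; exact P.cR_comm (R1_le P (inv_mem (mul_mem q.mem q.mem').1)))

/-- Every live hyperplane carries a quaternion group. -/
theorem small_all {K : Subgroup G} (hK : Live 3 z A K) :
    ∃ s c, c ∈ A ∧ QPair z A K s (c * s * c⁻¹) ∧ Small z A K s (c * s * c⁻¹) ∧
      Cls z (s * (c * s * c⁻¹)) (c * (c * s * c⁻¹) * c⁻¹) := by
  obtain ⟨s, c, hc, q⟩ := exists_qpair H P hK
  have hor := orbit_cls H P hK.1 hc q
  refine ⟨s, c, hc, q, ?_, hor⟩
  set s' := c * s * c⁻¹ with hs'
  have hzz := zz H P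
  let C : Subgroup G := TH z A K ⊓ (centralizer ({s} : Set G) ⊓ centralizer ({s'} : Set G))
  have hC : ∀ {x}, x ∈ C → x ∈ TH z A K ∧ s * x = x * s ∧ s' * x = x * s' := fun {x} hx =>
    ⟨hx.1, (mem_centralizer_singleton.1 hx.2.1).symm, (mem_centralizer_singleton.1 hx.2.2).symm⟩
  refine small_of_forall H P q fun y hy h1 h2 => ?_
  by_contra hyz
  have hstep : ∀ x ∈ C, c * x * c⁻¹ ∈ C := by
    intro x hx
    obtain ⟨hxT, hxs, hxs'⟩ := hC hx
    have hT := conj_mem_of_mem_normalizer (le_normalizer_TH H P hK.1.1 hc) hxT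
    have c1 : Commute s' (c * x * c⁻¹) := by
      have := (show Commute s x from hxs).map (MulAut.conj c)
      simp only [MulAut.conj_apply] at this
      exact this
    have c2 : Commute (c * s' * c⁻¹) (c * x * c⁻¹) := by
      have := (show Commute s' x from hxs').map (MulAut.conj c)
      simp only [MulAut.conj_apply] at this
      exact this
    have cz : Commute z (c * x * c⁻¹) := (P.cR_comm (R1_le P hT.1)).symm
    have c3 : Commute (s * s') (c * x * c⁻¹) := by
      rcases hor with h | h <;> rw [h] at c2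
      · exact c2
      · have := cz.mul_left c2
        rwa [← mul_assoc z, hzz, one_mul] at this
    have c4 : Commute s (c * x * c⁻¹) := by
      have := c3.mul_left c1.inv_left
      rwa [mul_inv_cancel_right] at this
    exact ⟨hT, mem_centralizer_singleton.2 c4.eq.symm, mem_centralizer_singleton.2 c1.eq.symm⟩
  have hAC : A ≤ normalizer (C : Set G) := by
    rw [← sup_zpowers_eq H P hK.1 hc (q.not_mem H P)]
    refine sup_le (fun k hk => mem_normalizer_iff.2 fun x => ?_)
      (zpowers_le.2 (mem_normalizer_iff.2 fun x => ⟨hstep x, fun h => ?_⟩))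
    · have fix : ∀ y ∈ C, k * y * k⁻¹ = y := fun y hy =>
        conj_eq_iff.2 (mem_centralizer_iff.1 hy.1.2 k hk)
      refine ⟨fun h => by rwa [fix x h], fun h => ?_⟩
      have : k * x * k⁻¹ = x := by
        have h' := mem_centralizer_iff.1 h.1.2 k hk
        have e : x = k⁻¹ * ((k * x * k⁻¹) * k) := by group
        rw [← h', inv_mul_cancel_left] at e
        exact e.symm
      rwa [this] at h
    · have := hstep _ (hstep _ h)
      rwa [conj_three H P hc] at this
  have hnd : ∀ x ∈ C, (∀ v ∈ C, x * v = v * x) → x ∈ zpowers z := by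
    intro x hx hcx
    obtain ⟨hxT, hxs, hxs'⟩ := hC hx
    refine TH_nondeg H P hK.1 hxT fun v hv => ?_
    obtain ⟨w, hw, k1, k2, he⟩ := adjust H P q hv
    have cw : Commute x w := hcx w ⟨hw, mem_centralizer_singleton.2 k1.symm,
      mem_centralizer_singleton.2 k2.symm⟩
    have cs : Commute x s := (show Commute s x from hxs).symm
    have cs' : Commute x s' := (show Commute s' x from hxs').symm
    rcases he with e | e | e | e
    · rw [← e]; exact cw.eq
    · rw [show v = w * s⁻¹ by rw [e]; group]; exact (cw.mul_right cs.inv_right).eq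
    · rw [show v = w * s'⁻¹ by rw [e]; group]; exact (cw.mul_right cs'.inv_right).eq
    · rw [show v = w * s⁻¹ * s'⁻¹ by rw [e]; group]
      exact ((cw.mul_right cs.inv_right).mul_right cs'.inv_right).eq
  obtain ⟨u, hu, d, hd, hu2, hcomm⟩ := exists_quaternion_pair_in H P (T := C)
    ((inf_le_left : C ≤ TH z A K).trans inf_le_left)
    (fun h => hyz (h ⟨hy, mem_centralizer_singleton.2 h1.symm,
      mem_centralizer_singleton.2 h2.symm⟩)) hnd
  have hu' : d * u * d⁻¹ ∈ C := conj_mem_of_mem_normalizer (hAC hd) hu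
  obtain ⟨huT, k1, k2⟩ := hC hu
  obtain ⟨huT', k1', k2'⟩ := hC hu'
  exact two_qpairs_false H P hK.1 q
    ⟨huT, huT', hu2, by rw [conj_pow, hu2, P.z_comm hd, mul_inv_cancel_right], hcomm⟩ k1 k1' k2 k2'

/-- Elements of `C_R(A)` of order dividing 4 commute with the quaternion groups. -/
theorem commute_TH {K : Subgroup G} (hK : Live 3 z A K) {r : G} (hrR : r ∈ cR z)
    (hrA : r ∈ centralizer (A : Set G)) (hr2 : r * r ∈ zpowers z) :
    ∀ x ∈ TH z A K, r * x = x * r := by
  obtain ⟨s, c, hc, q, hsm, hor⟩ := small_all H P hK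
  have hzz := zz H P
  set s' := c * s * c⁻¹ with hs'
  set s'' := c * s' * c⁻¹ with hs''
  have hrz : r * z = z * r := P.cR_comm hrR
  have hrc : Commute c r := mem_centralizer_iff.1 hrA c hc
  have hrN : r ∈ normalizer (TH z A K : Set G) := by
    have hrA' : r ∈ normalizer (A : Set G) := centralizer_le_normalizer _ hrA
    have hrR' : r ∈ normalizer (cR z : Set G) := le_normalizer hrR
    refine Coprime.le_normalizer_inf_inf (A := zpowers r) ?_ ?_ (mem_zpowers r)
    · rw [zpowers_le]
      show r ∈ normalizer ((⁅cR z, A⁆ : Subgroup G) : Set G)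
      rw [mem_normalizer_iff_map_conj_eq, map_commutator,
        mem_normalizer_iff_map_conj_eq.1 hrR', mem_normalizer_iff_map_conj_eq.1 hrA']
    · exact Coprime.le_normalizer_centralizer (zpowers_le.2
        (centralizer_le_normalizer _ (centralizer_le (SetLike.coe_subset_coe.2 hK.1.1) hrA)))
  have cc : ∀ y, c * (r * y * r⁻¹) * c⁻¹ = r * (c * y * c⁻¹) * r⁻¹ := fun y => by
    calc c * (r * y * r⁻¹) * c⁻¹ = (c * r) * y * (c * r)⁻¹ := by group
      _ = (r * c) * y * (r * c)⁻¹ := by rw [hrc.eq]
      _ = _ := by group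
  have hrr : ∀ y ∈ TH z A K, r * (r * y * r⁻¹) * r⁻¹ = y := fun y hy => by
    calc r * (r * y * r⁻¹) * r⁻¹ = (r * r) * y * (r * r)⁻¹ := by group
      _ = y := by
        rcases P.mem_zpowers hr2 with h | h <;> rw [h]
        · group
        · rw [← P.cR_comm (R1_le P hy.1), mul_inv_cancel_right]
  have n1 : ¬ Cls z 1 s := fun h => by
    apply P.z_ne_one
    rw [← q.comm, commutatorElement_eq_one_iff_mul_comm]
    rcases h with e | e <;> rw [e]
    · simp
    · rw [mul_one]; exact (P.cR_comm (R1_le P q.mem'.1)).symm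
  have n1' : ¬ Cls z 1 s' := fun h => by
    apply P.z_ne_one
    rw [← q.comm, commutatorElement_eq_one_iff_mul_comm]
    rcases h with e | e <;> rw [e]
    · simp
    · rw [mul_one]; exact P.cR_comm (R1_le P q.mem.1)
  -- `r` fixes the class of `s`
  have hfix : Cls z s (r * s * r⁻¹) := by
    rcases hsm _ (conj_mem_of_mem_normalizer hrN q.mem) with h | h | h | h
    · exfalso
      have h1 := h.conj hrz
      rw [hrr s q.mem] at h1
      exact n1 (by simpa using h1)
    · exact h
    · exfalso
      have h1 := h.conj hrz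
      rw [hrr s q.mem] at h1
      have h2 := h.conj (P.z_comm hc)
      rw [cc] at h2
      have h3 : Cls z (s * s') s := (hor.trans hzz h2).trans hzz h1
      refine n1' ?_
      rcases h3 with e | e
      · exact Or.inl (mul_eq_left.1 e.symm)
      · refine Or.inr ?_
        rw [mul_one]
        rw [← mul_assoc, ← P.cR_comm (R1_le P q.mem.1), mul_assoc, eq_comm, mul_eq_left] at e
        calc s' = z * (z * s') := by rw [← mul_assoc, hzz, one_mul]
          _ = z := by rw [e, mul_one]
    · exfalso
      have h0 : Cls z s'' (r * s * r⁻¹) := (hor.symm hzz).trans hzz h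
      have h1 := h0.conj (P.z_comm hc)
      rw [cc, hs'', hs', conj_three H P hc, ← hs'] at h1
      have h2 := h1.conj hrz
      rw [hrr s' q.mem'] at h2
      have h3 : Cls z (s * s') s' := h.trans hzz h2
      refine n1 ?_
      rcases h3 with e | e
      · exact Or.inl (mul_eq_right.1 e.symm)
      · refine Or.inr ?_
        rw [mul_one]
        rw [← mul_assoc, eq_comm, mul_eq_right] at e
        calc s = z * (z * s) := by rw [← mul_assoc, hzz, one_mul]
          _ = z := by rw [e, mul_one]
  have hrs : Commute r s ∧ Commute r s' := by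
    rcases hfix with e | e
    · exact ⟨conj_eq_iff.1 e, conj_eq_iff.1 (by rw [hs', ← cc, e])⟩
    · exfalso
      have hA : Anti z r s := e
      have e' : Anti z r s' := by
        show r * s' * r⁻¹ = z * s'
        rw [hs', ← cc, e]
        calc c * (z * s) * c⁻¹ = (c * z) * s * c⁻¹ := by group
          _ = z * (c * s * c⁻¹) := by rw [P.z_comm hc]; group
      have e'' : Anti z r s'' := by
        show r * s'' * r⁻¹ = z * s''
        rw [hs'', ← cc, e']
        calc c * (z * s') * c⁻¹ = (c * z) * s' * c⁻¹ := by group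
          _ = z * (c * s' * c⁻¹) := by rw [P.z_comm hc]; group
      have hcomm : Commute r s'' := by
        have h1 : Commute r (s * s') := hA.commute_mul hzz e' (P.cR_comm (R1_le P q.mem.1))
        rcases hor with h | h <;> rw [h]
        · exact h1
        · exact (show Commute r z from hrz).mul_right h1
      exact P.z_ne_one (mul_eq_right.1 (e''.symm.trans (conj_eq_iff.2 hcomm.eq)))
  intro x hx
  have hz' : Commute r z := hrz
  rcases hsm x hx with h | h | h | h <;> rcases h with e | e <;> rw [e]
  · exact (Commute.one_right r).eq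
  · exact (hz'.mul_right (Commute.one_right r)).eq
  · exact hrs.1.eq
  · exact (hz'.mul_right hrs.1).eq
  · exact hrs.2.eq
  · exact (hz'.mul_right hrs.2).eq
  · exact (hrs.1.mul_right hrs.2).eq
  · exact (hz'.mul_right (hrs.1.mul_right hrs.2)).eq

end

end CfsgLib.KlingerMason
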