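import Cfsg.Agent.Lib.KlingerMason.Frame

/-!
The theorem of Klinger and Mason: the weight spaces are abelian.
-/

set_option autoImplicit false
set_option linter.style.haveILetI false
set_option linter.unusedSectionVars false

namespace CfsgLib.KlingerMason

open Cfsg Subgroup
open scoped commutatorElement

variable {G : Type*} [Group G] [Finite G] {n : ℕ} {z a : G} {A D K L : Subgroup G}
  {s₁ t₁ s₂ t₂ : G}

theorem keep_fix {g w x : G} (hg : g * w = w * g) (hx : w * x * w⁻¹ = x) :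
    w * (g * x * g⁻¹) * w⁻¹ = g * x * g⁻¹ := by
  calc w * (g * x * g⁻¹) * w⁻¹ = (w * g) * x * (w * g)⁻¹ := by group
    _ = g * (w * x * w⁻¹) * g⁻¹ := by rw [← hg]; group
    _ = _ := by rw [hx]

theorem keep_inv {g w x : G} (hg : g * w = w * g) (hx : w * x * w⁻¹ = x⁻¹) :
    w * (g * x * g⁻¹) * w⁻¹ = (g * x * g⁻¹)⁻¹ := by
  calc w * (g * x * g⁻¹) * w⁻¹ = (w * g) * x * (w * g)⁻¹ := by group
    _ = g * (w * x * w⁻¹) * g⁻¹ := by rw [← hg]; group
    _ = _ := by rw [hx]; group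

theorem flip_fix {z g w x : G} (hz : z⁻¹ = z) (hgz : g * z = z * g) (hg : Anti z g w)
    (hzx : z * x * z⁻¹ = x⁻¹) (hx : w * x * w⁻¹ = x) :
    w * (g * x * g⁻¹) * w⁻¹ = (g * x * g⁻¹)⁻¹ := by
  calc w * (g * x * g⁻¹) * w⁻¹ = g * ((g⁻¹ * w * g) * x * (g⁻¹ * w * g)⁻¹) * g⁻¹ := by group
    _ = g * (z * (w * x * w⁻¹) * z⁻¹) * g⁻¹ := by
      rw [conj_of_anticommute hz hgz hg]; group
    _ = _ := by rw [hx, hzx]; group

theorem mem_normalizer_of_forall {E : Subgroup G} {g : G} (h : ∀ y ∈ E, g * y * g⁻¹ ∈ E) :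
    g ∈ normalizer (E : Set G) := by
  rw [mem_normalizer_iff_map_conj_eq]
  refine eq_of_le_of_card_ge ?_ (le_of_eq ?_)
  · rintro _ ⟨y, hy, rfl⟩
    exact h y hy
  · exact (Nat.card_congr (E.equivMapOfInjective _ (MulAut.conj g).injective).toEquiv)

theorem normalizer_R1_of {g : G} (hgz : g * z = z * g) (hgA : g ∈ normalizer (A : Set G)) :
    g ∈ normalizer (R1 z A : Set G) := by
  have hgR : g ∈ normalizer (cR z : Set G) :=
    centralizer_le_normalizer_cR z (mem_centralizer_singleton.2 hgz)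
  show g ∈ normalizer ((⁅cR z, A⁆ : Subgroup G) : Set G)
  rw [mem_normalizer_iff_map_conj_eq, map_commutator,
    mem_normalizer_iff_map_conj_eq.1 hgR, mem_normalizer_iff_map_conj_eq.1 hgA]

/-- Conjugation by `N(A) ∩ C(z)` preserves live hyperplanes. -/
theorem live_conjG {g : G} (hgz : g * z = z * g) (hgA : g ∈ normalizer (A : Set G))
    (hK : Live 3 z A K) : Live 3 z A (conjG g K) := by
  refine ⟨⟨?_, by rw [card_conjG]; exact hK.1.2⟩, fun hle => hK.2 fun x hx => ?_⟩
  · rintro _ ⟨k, hk, rfl⟩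
    exact conj_mem_of_mem_normalizer hgA (hK.1.1 hk)
  · have h1 : g * x * g⁻¹ ∈ TH z A (conjG g K) := by
      refine ⟨conj_mem_of_mem_normalizer (normalizer_R1_of hgz hgA) hx.1,
        mem_centralizer_iff.2 ?_⟩
      intro y hy
      obtain ⟨k, hk, rfl⟩ := mem_conjG.1 hy
      rw [conj_mul, conj_mul, mem_centralizer_iff.1 hx.2 k hk]
    obtain ⟨i, hi⟩ := mem_zpowers_iff.1 (hle h1)
    refine mem_zpowers_iff.2 ⟨i, ?_⟩
    calc z ^ i = g⁻¹ * (g * z ^ i) := by group
      _ = g⁻¹ * (z ^ i * g) := by rw [((show Commute g z from hgz).zpow_right i).eq]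
      _ = x := by rw [hi]; group

section

variable (H : Hyp 3 n G) (T : MaxTriple 3 n z a A) (hD : Good 3 z a D)
include H T hD

theorem card_inf_frame (f : Frame z a A K L s₁ t₁ s₂ t₂) :
    Nat.card ↥(K ⊓ L) * 9 = 3 ^ n := by
  have P := T.pair
  have h1 := kernel_card H T f.liveK.1
  have h2 := card_le_inf_mul P f.liveK.1.1 f.liveL.1
  have hlt : Nat.card ↥(K ⊓ L) < Nat.card K := lt_of_not_ge fun hge => f.ne
    (kernel_eq_of_le H P f.liveK.1 f.liveL.1 ((eq_of_le_of_card_ge inf_le_left hge).ge.trans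
      inf_le_right))
  haveI := Fact.mk (Nat.prime_three)
  obtain ⟨i, hi⟩ := IsPGroup.iff_card.1
    (P.elem.mono ((inf_le_left : K ⊓ L ≤ K).trans f.liveK.1.1)).isPGroup
  obtain ⟨j, hj⟩ := IsPGroup.iff_card.1 (P.elem.mono f.liveK.1.1).isPGroup
  rw [hi, hj] at hlt
  have h3 : Nat.card ↥(K ⊓ L) * 3 ≤ Nat.card K := by
    rw [hi, hj, ← pow_succ]
    exact Nat.pow_le_pow_right (by norm_num) ((Nat.pow_lt_pow_iff_right (by norm_num)).1 hlt)
  omega

/-- The weight space is abelian. -/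
theorem wt_commute (f : Frame z a A K L s₁ t₁ s₂ t₂) {x y : G}
    (hx₀ : Wt z D (s₁ * s₂) (t₁ * t₂) x) (hy₀ : Wt z D (s₁ * s₂) (t₁ * t₂) y) :
    x * y = y * x := by
  by_contra hxy
  have P := T.pair
  have F := f.facts H P
  set w := s₁ * s₂ with hw
  set w' := t₁ * t₂ with hw'
  have hKA := f.liveK.1.1
  obtain ⟨u, hu, hu1, huK⟩ := exists_wt H T hD F hKA ⟨f.aK, f.aL⟩
  -- a weight element not commuting with `u`
  obtain ⟨v, hv, hvu⟩ : ∃ v, Wt z D w w' v ∧ v * u ≠ u * v := by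
    by_contra hcon
    simp only [not_exists, not_and, not_not] at hcon
    have h1 := wt_dependent H T hD F hu hu1 hx₀ (hcon x hx₀).symm
    have h2 := wt_dependent H T hD F hu hu1 hy₀ (hcon y hy₀).symm
    exact hxy ((elem_zpowers (hD.pow u hu.mem)).1 x h1 y h2)
  have hzz := zz H P
  have hN : ∀ {g : G}, g * a = a * g → ∀ {x}, x ∈ D → g * x * g⁻¹ ∈ D := fun {g} hg {x} hx =>
    conj_mem_of_mem_normalizer (Good.le_normalizer_a H T hD hg) hx
  have hca : ∀ {g c : G}, g * a = a * g → c ∈ zpowers a → g * c * g⁻¹ = c := fun {g c} hg hc =>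
    conj_eq_iff.2 (Good.comm_of_mem_zpowers H T hD hc hg)
  -- the conjugates in the other weight spaces
  set u' := s₁ * u * s₁⁻¹ with hu'
  set v' := s₁ * v * s₁⁻¹ with hv'
  set ν := t₁ * u * t₁⁻¹ with hν
  set ξ := t₁ * v * t₁⁻¹ with hξ
  have hu'D := hN F.tog_s.ta hu.mem
  have hv'D := hN F.tog_s.ta hv.mem
  have hνD := hN F.tog_t.ta hu.mem
  have hξD := hN F.tog_t.ta hv.mem
  have hu'z := keep_inv F.tog_s.tz hu.inv
  have hu'w : w * u' * w⁻¹ = u' := keep_fix F.s_comm hu.fix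
  have hu'w' : w' * u' * w'⁻¹ = u'⁻¹ := flip_fix P.z_inv F.tog_s.tz F.s_anti hu.inv hu.fix'
  have hνw : w * ν * w⁻¹ = ν⁻¹ := flip_fix P.z_inv F.tog_t.tz F.t_anti hu.inv hu.fix
  have hξw : w * ξ * w⁻¹ = ξ⁻¹ := flip_fix P.z_inv F.tog_t.tz F.t_anti hv.inv hv.fix
  have hup := hD.pow u hu.mem
  have hu'p := hD.pow u' hu'D
  have hu'1 : u' ≠ 1 := fun e => hu1 (conj_eq_one_iff.1 e)
  have c_uu' : u * u' = u' * u :=
    Good.commute_of_fix_inv H T hD hu.mem hu'D F.aw' hu.fix' hu'w'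
  have c_vu' : v * u' = u' * v :=
    Good.commute_of_fix_inv H T hD hv.mem hu'D F.aw' hv.fix' hu'w'
  have hu'K : ∀ k ∈ K ⊓ L, k * u' = u' * k := fun k hk =>
    (((show Commute k s₁ from F.tog_s.tK k hk).mul_right (huK k hk)).mul_right
      (show Commute k s₁ from F.tog_s.tK k hk).inv_right).eq
  -- the new pair
  set U := zpowers u ⊔ zpowers u' with hU
  have hUc : ∀ x ∈ zpowers u, ∀ y ∈ zpowers u', x * y = y * x := fun x hx y hy => by
    obtain ⟨i, rfl⟩ := mem_zpowers_iff.1 hx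
    obtain ⟨j, rfl⟩ := mem_zpowers_iff.1 hy
    exact ((show Commute u u' from c_uu').zpow_zpow i j).eq
  have hUe : Elem 3 U := (elem_zpowers hup).sup (elem_zpowers hu'p) hUc
  have hKU : ∀ k ∈ K ⊓ L, ∀ y ∈ U, k * y = y * k := fun k hk y hy =>
    (mem_centralizer_singleton.1 ((sup_le
      (zpowers_le.2 (mem_centralizer_singleton.2 (huK k hk).symm))
      (zpowers_le.2 (mem_centralizer_singleton.2 (hu'K k hk).symm)) :
        U ≤ centralizer ({k} : Set G)) hy)).symm
  set A₂ := (K ⊓ L) ⊔ U with hA₂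
  have hKLe : Elem 3 (K ⊓ L) := P.elem.mono ((inf_le_left : K ⊓ L ≤ K).trans hKA)
  have hA₂e : Elem 3 A₂ := hKLe.sup hUe hKU
  have hUcard : Nat.card U = 9 := by
    rw [hU, card_sup_of_commute hUc (disjoint_of_fix_inv H.prime H.ne_two
      (fix_zpowers hu.fix') (elem_zpowers hup).2 (inv_zpowers hu'w')),
      card_zpowers_of_pow H.prime hup hu1, card_zpowers_of_pow H.prime hu'p hu'1]
  have hA₂c : Nat.card A₂ = 3 ^ n := by
    rw [hA₂, card_sup_of_commute hKU (disjoint_of_fix_inv H.prime H.ne_two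
      (((inf_le_left : K ⊓ L ≤ K).trans hKA).trans P.le) hKLe.2
      (Inv.sup hUe (inv_zpowers_iff.2 hu.inv) (inv_zpowers_iff.2 hu'z))), hUcard]
    exact card_inf_frame H T hD f
  have hA₂w : A₂ ≤ centralizer ({w} : Set G) := sup_le
    (fun k hk => mem_centralizer_singleton.2 (mem_centralizer_iff.1 F.cent k hk))
    (fix_sup (fix_zpowers hu.fix) (fix_zpowers hu'w))
  have P₂ : IsPair 3 n w A₂ := ⟨orderOf_eq_prime F.sq F.ne_one, hA₂e, hA₂c, hA₂w⟩
  have haA₂ : a ∈ A₂ := mem_sup_left ⟨f.aK, f.aL⟩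
  have haU : zpowers a ≤ A₂ := zpowers_le.2 haA₂
  have huA₂ : u ∈ A₂ := mem_sup_right (mem_sup_left (mem_zpowers u))
  have hu'A₂ : u' ∈ A₂ := mem_sup_right (mem_sup_right (mem_zpowers u'))
  -- `v` normalises it
  have hvN : v ∈ normalizer (A₂ : Set G) := by
    refine mem_normalizer_of_forall fun y hy => ?_
    have hle : A₂ ≤ A₂.comap (MulAut.conj v).toMonoidHom := by
      refine sup_le (fun h hh => ?_) (sup_le (zpowers_le.2 ?_) (zpowers_le.2 ?_)) <;>
        simp only [mem_comap, MulEquiv.coe_toMonoidHom, MulAut.conj_apply]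
      · have hha : h * a = a * h := P.elem.1 h (hKA hh.1) a T.mem
        have hhz : h * z = z * h := P.z_comm (hKA hh.1)
        set g := v * (h * v⁻¹ * h⁻¹) with hg
        have hgD : g ∈ D := mul_mem hv.mem (hN hha (inv_mem hv.mem))
        have hvuc := Good.commutator_mem H T hD hv.mem hu.mem
        have hgu : g * u = u * g := by
          rw [← commutatorElement_eq_one_iff_mul_comm]
          have e1 : ⁅h * v⁻¹ * h⁻¹, u⁆ = ⁅v, u⁆⁻¹ := by
            conv_lhs => rw [← conj_eq_iff.2 (huK h hh), ← conj_commutator,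
              commutator_inv_left_eq
                (Good.comm_of_mem_zpowers H T hD hvuc (Good.comm_a H T hD hv.mem)).symm]
            exact hca hha (inv_mem hvuc)
          have e2 : ⁅g, u⁆ = v * ⁅h * v⁻¹ * h⁻¹, u⁆ * v⁻¹ * ⁅v, u⁆ := by
            rw [hg]; simp only [commutatorElement_def]; group
          rw [e2, e1, hca (Good.comm_a H T hD hv.mem) (inv_mem hvuc), inv_mul_cancel]
        obtain ⟨k, hk, hkz, hkg⟩ := Good.exists_inv H T hD hgD
        have hwh : h * w = w * h := mem_centralizer_iff.1 F.cent h hh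
        have hwh' : h * w' = w' * h := mem_centralizer_iff.1 F.cent' h hh
        have gfix : ∀ {c : G}, c * a = a * c → h * c = c * h → c * v * c⁻¹ = v →
            c * g * c⁻¹ = g := fun {c} _ hch hcv => by
          have e : c * v⁻¹ * c⁻¹ = v⁻¹ := by rw [← conj_inv, hcv]
          calc c * g * c⁻¹ = (c * v * c⁻¹) * (c * (h * v⁻¹ * h⁻¹) * c⁻¹) := by rw [hg]; group
            _ = g := by rw [hcv, keep_fix hch e]
        have kfix : ∀ {c : G}, c * a = a * c → c * g * c⁻¹ = g → c * k * c⁻¹ = k :=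
          fun {c} hc hcg => by
            calc c * k * c⁻¹ = (c * g * c⁻¹) * (c * (k⁻¹ * g)⁻¹ * c⁻¹) := by group
              _ = k := by rw [hcg, hca hc (inv_mem hkg)]; group
        have hku : u * k = k * u := by
          have h2 : Commute u (k⁻¹ * g) :=
            Good.comm_of_mem_zpowers H T hD hkg (Good.comm_a H T hD hu.mem)
          have h3 := (show Commute u g from hgu.symm).mul_right h2.inv_right
          rw [mul_inv_rev, inv_inv, mul_inv_cancel_left] at h3
          exact h3.eq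
        have hkU := wt_dependent H T hD F hu hu1
          ⟨hk, hkz, kfix F.aw (gfix F.aw hwh hv.fix), kfix F.aw' (gfix F.aw' hwh' hv.fix')⟩ hku
        have hgA : g ∈ A₂ := by
          have := mul_mem (zpowers_le.2 huA₂ hkU) (haU hkg)
          rwa [mul_inv_cancel_left] at this
        have hhA : h ∈ A₂ := mem_sup_left hh
        have := mul_mem hgA hhA
        rwa [show g * h = v * h * v⁻¹ by rw [hg]; group] at this
      · have := mul_mem (haU (Good.commutator_mem H T hD hv.mem hu.mem)) huA₂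
        rwa [commutatorElement_def, inv_mul_cancel_right] at this
      · rw [conj_eq_iff.2 c_vu']; exact hu'A₂
    exact hle hy
  have hsN : s₁ ∈ normalizer (A₂ : Set G) := by
    refine mem_normalizer_of_forall fun y hy => ?_
    have hle : A₂ ≤ A₂.comap (MulAut.conj s₁).toMonoidHom := by
      refine sup_le (fun h hh => ?_) (sup_le (zpowers_le.2 ?_) (zpowers_le.2 ?_)) <;>
        simp only [mem_comap, MulEquiv.coe_toMonoidHom, MulAut.conj_apply]
      · rw [conj_eq_iff.2 (F.tog_s.tK h hh).symm]; exact mem_sup_left hh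
      · exact hu'A₂
      · have e : s₁ * u' * s₁⁻¹ = u⁻¹ := by
          calc s₁ * u' * s₁⁻¹ = s₁ ^ 2 * u * (s₁ ^ 2)⁻¹ := by rw [hu', pow_two]; group
            _ = u⁻¹ := by rw [f.q₁.sq, hu.inv]
        rw [e]; exact inv_mem huA₂
    exact hle hy
  have hv'N : v' ∈ normalizer (A₂ : Set G) := mul_mem (mul_mem hsN hvN) (inv_mem hsN)
  have hvw : v * w = w * v := (conj_eq_iff.1 hv.fix).symm
  have hv'w : v' * w = w * v' := (conj_eq_iff.1 (keep_fix F.s_comm hv.fix)).symm
  -- commutator constants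
  set γ := ⁅v, u⁆ with hγ
  have hγa : γ ∈ zpowers a := Good.commutator_mem H T hD hv.mem hu.mem
  have hγ1 : γ ≠ 1 := fun e => hvu (commutatorElement_eq_one_iff_mul_comm.1 e)
  have hvconj : v * u * v⁻¹ = γ * u := by rw [hγ, commutatorElement_def, inv_mul_cancel_right]
  have hγ' : ⁅v', u'⁆ = γ := by
    rw [hv', hu', ← conj_commutator]
    exact hca F.tog_s.ta hγa
  have hv'conj : v' * u' * v'⁻¹ = γ * u' := by
    rw [← hγ', commutatorElement_def, inv_mul_cancel_right]
  have hgen : zpowers γ = zpowers a := eq_of_le_of_card_ge (zpowers_le.2 hγa) (by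
    rw [card_zpowers_of_pow H.prime T.a_pow T.ne_one,
      card_zpowers_of_pow H.prime ((elem_zpowers T.a_pow).2 γ hγa) hγ1])
  -- a live hyperplane missing `a`, moved to contain `u'`
  obtain ⟨M₀, hM₀, haM₀⟩ := exists_live_notMem H P₂ haA₂ T.ne_one
  have haC : ∀ {g : G}, g * a = a * g → ∀ {M : Subgroup G}, a ∉ M → a ∉ conjG g M :=
    fun {g} hg {M} hM hmem => by
      obtain ⟨k, hk, hka⟩ := mem_conjG.1 hmem
      refine hM ?_
      have : k = a := by
        calc k = g⁻¹ * (g * k * g⁻¹) * g := by group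
          _ = a := by rw [hka, conj_eq_of_commute hg]
      exact this ▸ hk
  obtain ⟨M, hM, haM, hu'M⟩ : ∃ M, Live 3 w A₂ M ∧ a ∉ M ∧ u' ∈ M := by
    set E := zpowers a ⊔ zpowers u' with hE
    have hac : ∀ x ∈ zpowers a, ∀ y ∈ zpowers u', x * y = y * x := fun x hx y hy =>
      hA₂e.1 x (haU hx) y (zpowers_le.2 hu'A₂ hy)
    have hEcard : Nat.card E = 9 := by
      rw [hE, card_sup_of_commute hac (disjoint_of_fix_inv H.prime H.ne_two
        (zpowers_le.2 (mem_centralizer_singleton.2 T.az)) (elem_zpowers T.a_pow).2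
        (inv_zpowers hu'z)), card_zpowers_of_pow H.prime T.a_pow T.ne_one,
        card_zpowers_of_pow H.prime hu'p hu'1]
    have h3 := card_le_inf_mul P₂ (sup_le haU (zpowers_le.2 hu'A₂) : E ≤ A₂) hM₀.1
    rw [hEcard] at h3
    obtain ⟨e, he, he1⟩ := (bot_or_exists_ne_one (E ⊓ M₀)).resolve_left fun h => by
      rw [h, card_bot] at h3; omega
    obtain ⟨b, hb, c, hc, rfl⟩ := (mem_sup_of_commute hac).1 he.1
    obtain ⟨j, rfl⟩ := mem_zpowers_iff.1 hc
    have hj : ¬ (3 : ℤ) ∣ j := by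
      rintro ⟨l, rfl⟩
      have h1 : u' ^ (3 * l : ℤ) = 1 := by
        rw [zpow_mul, zpow_ofNat, hu'p, one_zpow]
      rw [h1, mul_one] at he he1
      exact haM₀ (zpowers_le.2 he.2 ((eq_of_le_of_card_ge (zpowers_le.2 hb) (by
        rw [card_zpowers_of_pow H.prime T.a_pow T.ne_one,
          card_zpowers_of_pow H.prime ((elem_zpowers T.a_pow).2 b hb) he1])).ge (mem_zpowers a)))
    -- `(b u'^j)^j` is `u'` times a power of `γ`
    obtain ⟨m, hm⟩ : ∃ m : ℕ, γ ^ m * u' ∈ M₀ := by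
      have h1 : (b * u' ^ j) ^ j ∈ M₀ := Subgroup.zpow_mem M₀ (mem_inf.1 he).2 j
      have hbc : Commute b (u' ^ j) := hac b hb _ (zpow_mem (mem_zpowers u') j)
      rw [hbc.mul_zpow, ← zpow_mul] at h1
      have h2 : u' ^ (j * j) = u' := by
        have hd : (3 : ℤ) ∣ j * j - 1 := by
          rcases (by omega : j % 3 = 1 ∨ j % 3 = 2) with h | h <;>
            rw [Int.dvd_iff_emod_eq_zero, Int.sub_emod, Int.mul_emod, h] <;> norm_num
        obtain ⟨l, hl⟩ := hd
        rw [show j * j = 3 * l + 1 by omega, zpow_add_one, zpow_mul, zpow_ofNat, hu'p, one_zpow,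
          one_mul]
      rw [h2] at h1
      have hγpow : b ^ j ∈ zpowers γ := hgen.ge (zpow_mem hb j)
      obtain ⟨m, hm⟩ := (isOfFinOrder_of_finite γ).mem_powers_iff_mem_zpowers.2 hγpow
      exact ⟨m, by rw [show γ ^ m = b ^ j from hm]; exact h1⟩
    have hg : ∀ i : ℕ, (v' ^ i) * u' * (v' ^ i)⁻¹ = γ ^ i * u' := by
      intro i
      induction i with
      | zero => simp
      | succ i ih =>
        calc v' ^ (i + 1) * u' * (v' ^ (i + 1))⁻¹ = v' * (v' ^ i * u' * (v' ^ i)⁻¹) * v'⁻¹ := by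
              rw [pow_succ']; group
          _ = (v' * γ ^ i * v'⁻¹) * (v' * u' * v'⁻¹) := by rw [ih]; group
          _ = _ := by
            rw [hca (Good.comm_a H T hD hv'D) (pow_mem hγa i), hv'conj, ← mul_assoc, ← pow_succ]
    set g := (v' ^ m)⁻¹ with hgdef
    have hgN : g ∈ normalizer (A₂ : Set G) := inv_mem (pow_mem hv'N m)
    have hgw : g * w = w * g := ((show Commute v' w from hv'w).pow_left m).inv_left.eq
    have hga : g * a = a * g :=
      ((show Commute v' a from Good.comm_a H T hD hv'D).pow_left m).inv_left.eq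
    refine ⟨conjG g M₀, live_conjG hgw hgN hM₀, haC hga haM₀,
      mem_conjG.2 ⟨_, hm, ?_⟩⟩
    rw [← hg m, hgdef]; group
  -- three hyperplanes through `u'`
  set M₁ := conjG v M with hM₁
  set M₂ := conjG v M₁ with hM₂
  have hva := Good.comm_a H T hD hv.mem
  have hLive₁ : Live 3 w A₂ M₁ := live_conjG hvw hvN hM
  have hLive₂ : Live 3 w A₂ M₂ := live_conjG hvw hvN hLive₁
  have hu'M₁ : u' ∈ M₁ := mem_conjG.2 ⟨u', hu'M, conj_eq_iff.2 c_vu'⟩
  have hu'M₂ : u' ∈ M₂ := mem_conjG.2 ⟨u', hu'M₁, conj_eq_iff.2 c_vu'⟩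
  have key : ∀ N : Subgroup G, Live 3 w A₂ N → a ∉ N → conjG v N ≠ N ∧
      conjG v (conjG v N) ≠ N := by
    intro N hN' haN
    set E := zpowers a ⊔ zpowers u with hE
    have hac : ∀ x ∈ zpowers a, ∀ y ∈ zpowers u, x * y = y * x := fun x hx y hy =>
      hA₂e.1 x (haU hx) y (zpowers_le.2 huA₂ hy)
    have hEcard : Nat.card E = 9 := by
      rw [hE, card_sup_of_commute hac (disjoint_of_fix_inv H.prime H.ne_two
        (zpowers_le.2 (mem_centralizer_singleton.2 T.az)) (elem_zpowers T.a_pow).2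
        (inv_zpowers hu.inv)), card_zpowers_of_pow H.prime T.a_pow T.ne_one,
        card_zpowers_of_pow H.prime hup hu1]
    have h3 := card_le_inf_mul P₂ (sup_le haU (zpowers_le.2 huA₂) : E ≤ A₂) hN'.1
    rw [hEcard] at h3
    obtain ⟨e, he, he1⟩ := (bot_or_exists_ne_one (E ⊓ N)).resolve_left fun h => by
      rw [h, card_bot] at h3; omega
    obtain ⟨b, hb, c, hc, rfl⟩ := (mem_sup_of_commute hac).1 he.1
    obtain ⟨j, rfl⟩ := mem_zpowers_iff.1 hc
    -- `v` moves `b u ^ j` by `γ ^ j`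
    have hmove : v * (b * u ^ j) * v⁻¹ = γ ^ j * (b * u ^ j) := by
      calc v * (b * u ^ j) * v⁻¹ = (v * b * v⁻¹) * (v * u ^ j * v⁻¹) := by group
        _ = b * (γ * u) ^ j := by rw [hca hva hb, ← conj_zpow, hvconj]
        _ = b * γ ^ j * u ^ j := by
          rw [(show Commute γ u from
            (Good.comm_of_mem_zpowers H T hD hγa (Good.comm_a H T hD hu.mem)).symm).mul_zpow,
            mul_assoc]
        _ = _ := by rw [(elem_zpowers T.a_pow).1 b hb _ (zpow_mem hγa j), mul_assoc]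
    have hγj : γ ^ j ∉ N := by
      intro hmem
      have h1 : γ ^ j = 1 := by
        by_contra h1
        exact haN (zpowers_le.2 hmem ((eq_of_le_of_card_ge (zpowers_le.2 (zpow_mem hγa j)) (by
          rw [card_zpowers_of_pow H.prime T.a_pow T.ne_one,
            card_zpowers_of_pow H.prime ((elem_zpowers T.a_pow).2 _ (zpow_mem hγa j)) h1])).ge
          (mem_zpowers a)))
      have hdvd : (3 : ℤ) ∣ j := by
        have ho : orderOf γ = 3 := orderOf_eq_prime ((elem_zpowers T.a_pow).2 γ hγa) hγ1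
        have := orderOf_dvd_iff_zpow_eq_one.2 h1
        rw [ho] at this
        exact_mod_cast this
      obtain ⟨l, rfl⟩ := hdvd
      have h2 : u ^ (3 * l : ℤ) = 1 := by rw [zpow_mul, zpow_ofNat, hup, one_zpow]
      rw [h2, mul_one] at he he1
      exact haN (zpowers_le.2 he.2 ((eq_of_le_of_card_ge (zpowers_le.2 hb) (by
        rw [card_zpowers_of_pow H.prime T.a_pow T.ne_one,
          card_zpowers_of_pow H.prime ((elem_zpowers T.a_pow).2 b hb) he1])).ge (mem_zpowers a)))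
    refine ⟨fun heq => hγj ?_, fun heq => hγj ?_⟩
    · have h1 : γ ^ j * (b * u ^ j) ∈ N := heq.le (mem_conjG.2 ⟨_, he.2, hmove⟩)
      have := mul_mem h1 (inv_mem he.2)
      rwa [mul_inv_cancel_right] at this
    · have h1 : γ ^ j * (γ ^ j * (b * u ^ j)) ∈ N := by
        refine heq.le (mem_conjG.2 ⟨_, mem_conjG.2 ⟨_, he.2, hmove⟩, ?_⟩)
        calc v * (γ ^ j * (b * u ^ j)) * v⁻¹
            = (v * γ ^ j * v⁻¹) * (v * (b * u ^ j) * v⁻¹) := by group
          _ = _ := by rw [hca hva (zpow_mem hγa j), hmove]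
      have h2 := mul_mem h1 (inv_mem he.2)
      rw [← mul_assoc, mul_inv_cancel_right, ← zpow_add] at h2
      have h3 : γ ^ j = (γ ^ (j + j)) ^ (2 : ℤ) := by
        rw [← zpow_mul, show (j + j) * 2 = 3 * j + j by ring, zpow_add, zpow_mul γ 3 j, zpow_ofNat,
          (elem_zpowers T.a_pow).2 γ hγa, one_zpow, one_mul]
      rw [h3]
      exact zpow_mem h2 2
  have h01 := (key M hM haM).1
  have h02 := (key M hM haM).2
  have h12 := (key M₁ hLive₁ (haC hva haM)).1
  have hge : Nat.card (cB z a) ≤ Nat.card (cB w u') := by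
    refine (card_cB_le H T hD).trans
      ((one_twenty_eight_le H P₂ hM hLive₁ hLive₂ h01.symm h02.symm h12.symm).trans
        (card_le_of_le ?_))
    exact sup_le (sup_le (TH_le_cB P₂ hu'M) (TH_le_cB P₂ hu'M₁)) (TH_le_cB P₂ hu'M₂)
  have T₂ : MaxTriple 3 n w u' A₂ :=
    ⟨P₂, hu'A₂, hu'1, fun z' a' A' h h' h'' => (T.max z' a' A' h h' h'').trans hge⟩
  obtain ⟨D₂, hD₂⟩ := exists_good H T₂
  -- two elements inverted by `w` whose commutator is `γ`
  have c_u'ν : u' * ν = ν * u' := Good.commute_of_fix_inv H T hD hu'D hνD F.aw hu'w hνw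
  have c_u'ξ : u' * ξ = ξ * u' := Good.commute_of_fix_inv H T hD hu'D hξD F.aw hu'w hξw
  have hνP := Good.mem_cP_of_inv H T₂ hD₂ (k := 1) c_u'ν.symm
    (by rw [pow_one]; exact hD.pow ν hνD) hνw
  have hξP := Good.mem_cP_of_inv H T₂ hD₂ (k := 1) c_u'ξ.symm
    (by rw [pow_one]; exact hD.pow ξ hξD) hξw
  have hγP : γ ∈ cP 3 u' := by
    have e : γ = ⁅ξ, ν⁆ := by
      rw [hξ, hν, ← conj_commutator]
      exact (hca F.tog_t.ta hγa).symm
    rw [e, commutatorElement_def]
    exact mul_mem (mul_mem (mul_mem hξP hνP) (inv_mem hξP)) (inv_mem hνP)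
  have hγw : γ * w = w * γ := (Good.comm_of_mem_zpowers H T hD hγa F.aw).symm
  have hγu' := MaxTriple.mem_zpowers_a H T₂ hγP hγw ((elem_zpowers T.a_pow).2 γ hγa)
  exact hγ1 (eq_one_of_fix_inv H.prime H.ne_two ((elem_zpowers T.a_pow).2 γ hγa)
    (hca T.az.symm hγa) (inv_zpowers hu'z γ hγu'))

end

end CfsgLib.KlingerMason
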