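import Cfsg.Agent.Lib.KlingerMason.Step1

/-!
The theorem of Klinger and Mason: one-dimensional weight spaces.
-/

set_option autoImplicit false
set_option linter.style.haveILetI false
set_option linter.unusedSectionVars false

namespace CfsgLib.KlingerMason

open Cfsg Subgroup
open scoped commutatorElement

variable {G : Type*} [Group G] [Finite G] {n : ℕ} {z a : G} {A D K L : Subgroup G}
  {s₁ t₁ s₂ t₂ : G}

section

variable (H : Hyp 3 n G) (T : MaxTriple 3 n z a A)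
include H T

/-- No third live hyperplane passes through `a`. -/
theorem no_third (hD : Good 3 z a D) (f : Frame z a A K L s₁ t₁ s₂ t₂) {M : Subgroup G}
    (hM : Live 3 z A M) (haM : a ∈ M) : M = K ∨ M = L := by
  by_contra hcon
  rw [not_or] at hcon
  obtain ⟨hMK, hML⟩ := hcon
  have P := T.pair
  have F := f.facts H P
  obtain ⟨u, hu, hu1, -⟩ := exists_wt H T hD F f.liveK.1.1 ⟨f.aK, f.aL⟩
  obtain ⟨s₃, c₃, -, q₃⟩ := exists_qpair H P hM
  set t₃ := c₃ * s₃ * c₃⁻¹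
  have xK := TH_commute H P hM.1 f.liveK.1 hMK
  have xL := TH_commute H P hM.1 f.liveL.1 hML
  have key : ∀ g ∈ TH z A M, g * u * g⁻¹ ∈ zpowers u := by
    intro g hg
    have hga : g * a = a * g := (mem_centralizer_iff.1 hg.2 a haM).symm
    have hgu : Wt z D (s₁ * s₂) (t₁ * t₂) (g * u * g⁻¹) :=
      ⟨conj_mem_of_mem_normalizer (Good.le_normalizer_a H T hD hga) hu.mem,
        keep_inv (P.cR_comm (R1_le P hg.1)) hu.inv,
        keep_fix ((show Commute g s₁ from xK g hg _ f.q₁.mem).mul_right (xL g hg _ f.q₂.mem)).eq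
          hu.fix,
        keep_fix ((show Commute g t₁ from xK g hg _ f.q₁.mem').mul_right (xL g hg _ f.q₂.mem')).eq
          hu.fix'⟩
    exact wt_dependent H T hD F hu hu1 hgu (wt_commute H T hD f hu hgu)
  obtain ⟨i, hi⟩ := mem_zpowers_iff.1 (key _ q₃.mem)
  obtain ⟨j, hj⟩ := mem_zpowers_iff.1 (key _ q₃.mem')
  have hst : (s₃ * t₃) * u * (s₃ * t₃)⁻¹ = (t₃ * s₃) * u * (t₃ * s₃)⁻¹ := by
    calc (s₃ * t₃) * u * (s₃ * t₃)⁻¹ = s₃ * (t₃ * u * t₃⁻¹) * s₃⁻¹ := by group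
      _ = u ^ (i * j) := by rw [← hj, ← conj_zpow, ← hi, zpow_mul]
      _ = t₃ * (s₃ * u * s₃⁻¹) * t₃⁻¹ := by rw [← hi, ← conj_zpow, ← hj, ← zpow_mul, mul_comm]
      _ = _ := by group
  have hstz : z * (t₃ * s₃) = s₃ * t₃ := by
    rw [← q₃.comm, commutatorElement_def]; group
  have hvz : (t₃ * s₃) * z = z * (t₃ * s₃) :=
    P.cR_comm (mul_mem (R1_le P q₃.mem'.1) (R1_le P q₃.mem.1))
  have hv1 : (t₃ * s₃) * u * (t₃ * s₃)⁻¹ = 1 := by
    refine eq_one_of_fix_inv H.prime H.ne_two (w := z) ?_ ?_ (keep_inv hvz hu.inv)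
    · rw [conj_pow, hD.pow u hu.mem, mul_one, mul_inv_cancel]
    · conv_rhs => rw [← hst, ← hstz]
      group
  exact hu1 (conj_eq_one_iff.1 hv1)

/-- Two live hyperplanes through `a`, and `n = 3`. -/
theorem n_eq_three (hD : Good 3 z a D) (f : Frame z a A K L s₁ t₁ s₂ t₂) : n = 3 := by
  have P := T.pair
  by_contra hn
  have h1 := card_inf_frame H T hD f
  have hn4 : 4 ≤ n := by have := H.three_le; omega
  have h4 : 3 ^ 4 ≤ 3 ^ n := Nat.pow_le_pow_right (by norm_num) hn4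
  norm_num at h4
  obtain ⟨M, hM, haM, hnle⟩ := exists_live_not_le H T
    ((inf_le_left : K ⊓ L ≤ K).trans f.liveK.1.1) (show 3 < Nat.card ↥(K ⊓ L) by omega)
  rcases no_third H T hD f hM haM with rfl | rfl
  · exact hnle inf_le_left
  · exact hnle inf_le_right

theorem card_cB_le_32 (hD : Good 3 z a D) (f : Frame z a A K L s₁ t₁ s₂ t₂) :
    Nat.card (cB z a) ≤ 32 :=
  card_cB_le_two H T hD f.liveK f.liveL f.ne fun _ hM haM => no_third H T hD f hM haM

/-- `C_P(z) = ⟨a⟩`. -/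
theorem cPz_le : cP 3 a ⊓ centralizer ({z} : Set G) ≤ zpowers a := by
  intro x₀ hx₀
  by_contra hne
  obtain ⟨D, hD⟩ := exists_good H T
  obtain ⟨K, L, s₁, t₁, s₂, t₂, f⟩ := exists_frame H T
  have P := T.pair
  set Z := cP 3 a ⊓ centralizer ({z} : Set G) with hZ
  -- an element of order 9
  obtain ⟨k, hk⟩ := isPGroup_cP (p := 3) a ⟨x₀, hx₀.1⟩
  have hk' : x₀ ^ 3 ^ k = 1 := congrArg Subtype.val hk
  classical
  have hex : ∃ j, x₀ ^ 3 ^ j ∈ zpowers a := ⟨k, hk' ▸ one_mem _⟩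
  have hj := Nat.find_spec hex
  have hj0 : Nat.find hex ≠ 0 := fun h => hne (by simpa [h] using hj)
  obtain ⟨m, hm⟩ := Nat.exists_eq_succ_of_ne_zero hj0
  set x := x₀ ^ 3 ^ m with hx
  have hxa : x ∉ zpowers a := Nat.find_min hex (by omega)
  have hx3 : x ^ 3 ∈ zpowers a := by
    rw [hx, ← pow_mul, ← pow_succ]
    rwa [hm] at hj
  have hxZ : x ∈ Z := pow_mem hx₀ _
  have hxz : x * z = z * x := mem_centralizer_singleton.1 hxZ.2
  have hxca : x * a = a * x := mem_centralizer_singleton.1 (cP_le_centralizer H T.a_pow hxZ.1)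
  have hx31 : x ^ 3 ≠ 1 := fun e => hxa (MaxTriple.mem_zpowers_a H T hxZ.1 hxz e)
  -- `x` normalises `A`
  haveI := MaxTriple.isCyclic_cPz H T
  have hcomm : ∀ h ∈ A, x * h * x⁻¹ * h⁻¹ ∈ zpowers a := by
    intro h hh
    have hhA : h * a = a * h := P.elem.1 h hh a T.mem
    have hhz : h * z = z * h := P.z_comm hh
    have hy : h * x * h⁻¹ ∈ Z := by
      refine ⟨conj_mem_of_mem_normalizer
        (centralizer_le_normalizer_cP a (mem_centralizer_singleton.2 hhA)) hxZ.1,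
        mem_centralizer_singleton.2 ?_⟩
      exact (((show Commute h z from hhz).mul_left hxz).mul_left
        (show Commute h z from hhz).inv_left).eq
    have hxy : Commute x (h * x * h⁻¹) := congrArg Subtype.val
      (letI := IsCyclic.commGroup (α := Z); mul_comm (⟨x, hxZ⟩ : Z) ⟨_, hy⟩)
    have e3 : (h * x * h⁻¹) ^ 3 = x ^ 3 := by
      rw [conj_pow, conj_eq_iff.2 (Good.comm_of_mem_zpowers H T hD hx3 hhA)]
    have e : x * h * x⁻¹ * h⁻¹ = x * (h * x * h⁻¹)⁻¹ := by group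
    rw [e]
    refine MaxTriple.mem_zpowers_a H T (mul_mem hxZ.1 (inv_mem hy.1))
      ((show Commute x z from hxz).mul_left
        (show Commute (h * x * h⁻¹) z from mem_centralizer_singleton.1 hy.2).inv_left).eq ?_
    rw [hxy.inv_right.mul_pow, inv_pow, e3, mul_inv_cancel]
  have hxN : x ∈ normalizer (A : Set G) := mem_normalizer_of_forall fun h hh => by
    have := mul_mem (zpowers_le.2 T.mem (hcomm h hh)) hh
    rwa [inv_mul_cancel_right] at this
  -- a live hyperplane missing `a`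
  obtain ⟨M, hM, haM⟩ := exists_live_notMem H P T.mem T.ne_one
  by_cases hfix : conjG x M = M
  · -- then `x` centralises `A`
    have hxA : ∀ h ∈ A, x * h = h * x := by
      intro h hh
      have hle : A ≤ centralizer ({x} : Set G) := by
        rw [← sup_zpowers_eq H P hM.1 T.mem haM]
        refine sup_le (fun g hg => mem_centralizer_singleton.2 ?_)
          (zpowers_le.2 (mem_centralizer_singleton.2 hxca.symm))
        have h1 : x * g * x⁻¹ * g⁻¹ ∈ M :=
          mul_mem (hfix.le (mem_conjG.2 ⟨g, hg, rfl⟩)) (inv_mem hg)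
        have h2 := hcomm g (hM.1.1 hg)
        by_contra hgx
        refine haM (zpowers_le.2 h1 ((eq_of_le_of_card_ge (zpowers_le.2 h2) ?_).ge
          (mem_zpowers a)))
        rw [card_zpowers_of_pow H.prime T.a_pow T.ne_one,
          card_zpowers_of_pow H.prime ((elem_zpowers T.a_pow).2 _ h2) fun e =>
            hgx (conj_eq_iff.1 (mul_inv_eq_one.1 e)).symm]
      exact (mem_centralizer_singleton.1 (hle hh)).symm
    obtain ⟨s, c, hc, q, hsm, hor⟩ := small_all H P hM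
    set s' := c * s * c⁻¹ with hs'
    set s'' := c * s' * c⁻¹ with hs''
    have hzz := zz H P
    have hxT : x ∈ normalizer (TH z A M : Set G) := by
      refine Coprime.le_normalizer_inf_inf (A := zpowers x) ?_ ?_ (mem_zpowers x)
      · exact zpowers_le.2 (normalizer_R1_of hxz hxN)
      · exact Coprime.le_normalizer_centralizer (zpowers_le.2 (centralizer_le_normalizer _
          (mem_centralizer_iff.2 fun g hg => (hxA g (hM.1.1 hg)).symm)))
    have cc : ∀ y, c * (x * y * x⁻¹) * c⁻¹ = x * (c * y * c⁻¹) * x⁻¹ := fun y => by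
      calc c * (x * y * x⁻¹) * c⁻¹ = (c * x) * y * (c * x)⁻¹ := by group
        _ = (x * c) * y * (x * c)⁻¹ := by rw [hxA c hc]
        _ = _ := by group
    have hcz := P.z_comm hc
    have n1 : ¬ Cls z 1 s := fun h => by
      apply P.z_ne_one
      rw [← q.comm, commutatorElement_eq_one_iff_mul_comm]
      rcases h with e | e <;> rw [e]
      · simp
      · rw [mul_one]; exact (P.cR_comm (R1_le P q.mem'.1)).symm
    -- `x³` fixes the class of `s`
    have hcls : Cls z s (x * (x * (x * s * x⁻¹) * x⁻¹) * x⁻¹) := by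
      have hcor : Cls z (s * s') s'' := hor
      rcases hsm _ (conj_mem_of_mem_normalizer hxT q.mem) with h | h | h | h
      · exfalso
        have h1 := h.conj (show x⁻¹ * z = z * x⁻¹ from ((show Commute x z from hxz).inv_left).eq)
        exact n1 (by simpa [mul_assoc] using h1)
      · exact h.trans hzz ((h.conj hxz).trans hzz ((h.conj hxz).conj hxz))
      · have h1 : Cls z s'' (x * s' * x⁻¹) := by
          have := h.conj hcz
          rwa [cc] at this
        have h2 : Cls z s (x * s'' * x⁻¹) := by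
          have := h1.conj hcz
          rwa [cc, hs'', hs', conj_three H P hc] at this
        exact h2.trans hzz ((h1.conj hxz).trans hzz ((h.conj hxz).conj hxz))
      · have h0 : Cls z s'' (x * s * x⁻¹) := (hcor.symm hzz).trans hzz h
        have h1 : Cls z s (x * s' * x⁻¹) := by
          have := h0.conj hcz
          rwa [cc, hs'', hs', conj_three H P hc] at this
        have h2 : Cls z s' (x * s'' * x⁻¹) := by
          have := h1.conj hcz
          rwa [cc] at this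
        exact h1.trans hzz ((h2.conj hxz).trans hzz ((h0.conj hxz).conj hxz))
    have hx3s : Commute (x ^ 3) s := by
      have e : x * (x * (x * s * x⁻¹) * x⁻¹) * x⁻¹ = x ^ 3 * s * (x ^ 3)⁻¹ := by
        rw [pow_succ, pow_two]; group
      rw [e] at hcls
      refine commute_of_pow_coprime ((elem_zpowers T.a_pow).2 _ hx3) (m := 2) ?_ (by norm_num)
      show (x ^ 3) ^ 2 * s = s * (x ^ 3) ^ 2
      have hxz3 : x ^ 3 * z = z * x ^ 3 := ((show Commute x z from hxz).pow_left 3).eq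
      rw [← conj_eq_iff, pow_two]
      rcases hcls with h | h
      · calc x ^ 3 * x ^ 3 * s * (x ^ 3 * x ^ 3)⁻¹
            = x ^ 3 * (x ^ 3 * s * (x ^ 3)⁻¹) * (x ^ 3)⁻¹ := by group
          _ = s := by rw [h, h]
      · calc x ^ 3 * x ^ 3 * s * (x ^ 3 * x ^ 3)⁻¹
            = x ^ 3 * (x ^ 3 * s * (x ^ 3)⁻¹) * (x ^ 3)⁻¹ := by group
          _ = x ^ 3 * (z * s) * (x ^ 3)⁻¹ := by rw [h]
          _ = (x ^ 3 * z * (x ^ 3)⁻¹) * (x ^ 3 * s * (x ^ 3)⁻¹) := by group
          _ = s := by rw [conj_eq_iff.2 hxz3, h, ← mul_assoc, hzz, one_mul]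
    -- so `a` centralises `s`, hence `A` does
    have hxA3 : x ^ 3 ∉ M := fun hmem => haM (zpowers_le.2 hmem ((eq_of_le_of_card_ge
      (zpowers_le.2 hx3) (by rw [card_zpowers_of_pow H.prime T.a_pow T.ne_one,
        card_zpowers_of_pow H.prime ((elem_zpowers T.a_pow).2 _ hx3) hx31])).ge (mem_zpowers a)))
    have hsA : s ∈ centralizer (A : Set G) := by
      rw [← sup_zpowers_eq H P hM.1 (zpowers_le.2 T.mem hx3) hxA3]
      exact mem_centralizer_sup q.mem.2 (conj_eq_iff.2 hx3s.eq)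
    refine n1 ?_
    rcases P.mem_zpowers ((sympl_core H P).2.2.1 s q.mem.1 hsA) with e | e
    · exact Or.inl e
    · exact Or.inr (by rw [e, mul_one])
  · -- three hyperplanes with a common element fixed by `x`
    have hMc : Nat.card M = 9 := by
      have := kernel_card H T hM.1
      rw [n_eq_three H T hD f] at this
      omega
    obtain ⟨y, hyM, hy1, hyx⟩ : ∃ y ∈ M, y ≠ 1 ∧ x * y = y * x := by
      haveI := Fintype.ofFinite M
      haveI := Fintype.ofFinite (zpowers a)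
      have hlt : Fintype.card (zpowers a) < Fintype.card M := by
        rw [← Nat.card_eq_fintype_card, ← Nat.card_eq_fintype_card, hMc,
          card_zpowers_of_pow H.prime T.a_pow T.ne_one]
        norm_num
      obtain ⟨⟨g, hg⟩, ⟨g', hg'⟩, hne', he⟩ := Fintype.exists_ne_map_eq_of_card_lt
        (fun h : M => (⟨x * (h : G) * x⁻¹ * (h : G)⁻¹, hcomm h (hM.1.1 h.2)⟩ : zpowers a)) hlt
      have he' : x * g * x⁻¹ * g⁻¹ = x * g' * x⁻¹ * g'⁻¹ := congrArg Subtype.val he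
      refine ⟨g⁻¹ * g', mul_mem (inv_mem hg) hg', fun e => hne' (Subtype.ext
        (inv_mul_eq_one.1 e)), conj_eq_iff.1 ?_⟩
      have hgg : Commute g g' := P.elem.1 g (hM.1.1 hg) g' (hM.1.1 hg')
      calc x * (g⁻¹ * g') * x⁻¹
          = g⁻¹ * (x * g * x⁻¹ * g⁻¹)⁻¹ * (x * g' * x⁻¹ * g'⁻¹) * g' := by group
        _ = g⁻¹ * g' := by rw [he']; group
    set M₁ := conjG x M with hM₁
    set M₂ := conjG x M₁ with hM₂
    have hL1 : Live 3 z A M₁ := live_conjG hxz hxN hM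
    have hL2 : Live 3 z A M₂ := live_conjG hxz hxN hL1
    have hy₁ : y ∈ M₁ := mem_conjG.2 ⟨y, hyM, conj_eq_iff.2 hyx⟩
    have hy₂ : y ∈ M₂ := mem_conjG.2 ⟨y, hy₁, conj_eq_iff.2 hyx⟩
    have hfix3 : conjG x M₂ = M := by
      refine eq_of_le_of_card_ge ?_ (le_of_eq (by rw [card_conjG, card_conjG, card_conjG]))
      intro g hg
      obtain ⟨g₂, hg₂, rfl⟩ := mem_conjG.1 hg
      obtain ⟨g₁, hg₁, rfl⟩ := mem_conjG.1 hg₂
      obtain ⟨g₀, hg₀, rfl⟩ := mem_conjG.1 hg₁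
      have hc : Commute (x ^ 3) g₀ := P.elem.1 _ (zpowers_le.2 T.mem hx3) _ (hM.1.1 hg₀)
      have e : x * (x * (x * g₀ * x⁻¹) * x⁻¹) * x⁻¹ = g₀ := by
        calc x * (x * (x * g₀ * x⁻¹) * x⁻¹) * x⁻¹ = x ^ 3 * g₀ * (x ^ 3)⁻¹ := by
              rw [pow_succ, pow_two]; group
          _ = g₀ := conj_eq_iff.2 hc.eq
      rwa [e]
    have hinj : ∀ {X Y : Subgroup G}, conjG x X = conjG x Y → X = Y := fun {X Y} h =>
      Subgroup.map_injective (MulAut.conj x).injective h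
    have h01 : M ≠ M₁ := fun e => hfix e.symm
    have h12 : M₁ ≠ M₂ := fun e => h01 (hinj e)
    have h02 : M ≠ M₂ := fun e => h01 (by rw [← hfix3, ← e])
    have hbig := (one_twenty_eight_le H P hM hL1 hL2 h01 h02 h12).trans
      ((card_le_of_le (sup_le (sup_le (TH_le_cB P hyM) (TH_le_cB P hy₁)) (TH_le_cB P hy₂))).trans
        (T.max z y A P (hM.1.1 hyM) hy1))
    have := card_cB_le_32 H T hD f
    omega

/-- `Ω₁(P)` is a detecting subgroup. -/
theorem exists_omega : ∃ D, Good 3 z a D ∧ ∀ x ∈ cP 3 a, x ^ 3 = 1 → x ∈ D := by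
  obtain ⟨D₀, hD₀⟩ := exists_good H T
  set P₀ := cP 3 a with hP₀
  have haP : a ∈ P₀ := self_mem_cP T.a_pow
  have hcen : ∀ x ∈ P₀, x * a = a * x := fun x hx =>
    mem_centralizer_singleton.1 (cP_le_centralizer H T.a_pow hx)
  set N := (zpowers a).subgroupOf P₀ with hN
  haveI hNn : N.Normal := ⟨fun m hm g => by
    rw [hN, mem_subgroupOf] at hm ⊢
    have e : ((g * m * g⁻¹ : P₀) : G) = (m : G) := by
      simp only [Subgroup.coe_mul, InvMemClass.coe_inv]
      exact conj_eq_iff.2 (Good.comm_of_mem_zpowers H T hD₀ hm (hcen g g.2))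
    rwa [e]⟩
  have hzP : ∀ x ∈ P₀, z * x * z⁻¹ ∈ P₀ := fun x hx =>
    conj_mem_of_mem_normalizer (centralizer_le_normalizer_cP a T.z_mem_centralizer_a) hx
  let ψ : P₀ →* P₀ :=
    { toFun := fun x => ⟨z * x * z⁻¹, hzP x x.2⟩
      map_one' := Subtype.ext (by simp)
      map_mul' := fun x y => Subtype.ext (by simp [mul_assoc]) }
  have hψN : N ≤ N.comap ψ := fun m hm => by
    rw [hN, mem_subgroupOf] at hm
    rw [mem_comap, hN, mem_subgroupOf]
    show z * (m : G) * z⁻¹ ∈ zpowers a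
    rwa [conj_eq_iff.2 (Good.comm_of_mem_zpowers H T hD₀ hm T.az.symm)]
  let φ : P₀ ⧸ N →* P₀ ⧸ N := QuotientGroup.map N N ψ hψN
  have hinv : Function.Involutive φ := by
    intro q
    induction q using QuotientGroup.induction_on with | _ x => ?_
    show ((ψ (ψ x) : P₀) : P₀ ⧸ N) = x
    congr 1
    refine Subtype.ext ?_
    show z * (z * (x : G) * z⁻¹) * z⁻¹ = x
    calc z * (z * (x : G) * z⁻¹) * z⁻¹ = z ^ 2 * (x : G) * (z ^ 2)⁻¹ := by rw [pow_two]; group
      _ = x := by rw [T.pair.z_sq]; group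
  have hfpf : MonoidHom.FixedPointFree φ := by
    intro q
    induction q using QuotientGroup.induction_on with | _ x => ?_
    intro h
    have h1 : ((ψ x : P₀) : P₀ ⧸ N) = x := h
    rw [QuotientGroup.eq, hN, mem_subgroupOf] at h1
    have h1' : (z * (x : G) * z⁻¹)⁻¹ * x ∈ zpowers a := h1
    set α := (z * (x : G) * z⁻¹)⁻¹ * x with hα
    have hza : z * α * z⁻¹ = α :=
      conj_eq_iff.2 (Good.comm_of_mem_zpowers H T hD₀ h1' T.az.symm)
    have hα2 : α * α = 1 := by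
      calc α * α = (z * α * z⁻¹) * α := by rw [hza]
        _ = ((z * z) * (x : G) * (z * z)⁻¹)⁻¹ * x := by rw [hα]; simp [mul_assoc]
        _ = 1 := by rw [← pow_two, T.pair.z_sq]; group
    have hα1 : α = 1 := eq_one_of_pow_eq_one_of_coprime (m := 2) (k := 3) (by rw [pow_two, hα2])
      ((elem_zpowers T.a_pow).2 α h1') (by norm_num)
    rw [hα, inv_mul_eq_one] at hα1
    rw [QuotientGroup.eq_one_iff, hN, mem_subgroupOf]
    exact cPz_le H T ⟨x.2, mem_centralizer_singleton.2 (conj_eq_iff.1 hα1).symm⟩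
  have hcomm : ∀ x y : P₀, ⁅x, y⁆ ∈ center P₀ := by
    intro x y
    have h1 : Commute (x : P₀ ⧸ N) y := hfpf.commute_all_of_involutive hinv _ _
    have h2 : ((⁅x, y⁆ : P₀) : P₀ ⧸ N) = 1 := by
      have h3 : ⁅(x : P₀ ⧸ N), (y : P₀ ⧸ N)⁆ = 1 := commutatorElement_eq_one_iff_commute.2 h1
      rw [← h3]
      exact map_commutatorElement (QuotientGroup.mk' N) x y
    rw [QuotientGroup.eq_one_iff, hN, mem_subgroupOf] at h2
    exact mem_center_iff.2 fun g => Subtype.ext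
      (Good.comm_of_mem_zpowers H T hD₀ h2 (hcen g g.2))
  let D : Subgroup G :=
    { carrier := {x | x ∈ P₀ ∧ x ^ 3 = 1}
      one_mem' := ⟨one_mem _, one_pow _⟩
      mul_mem' := fun {x y} hx hy => ⟨mul_mem hx.1 hy.1, congrArg Subtype.val
        (CfsgLib.PGroups.mul_pow_eq_one_of_odd (a := (⟨x, hx.1⟩ : P₀)) (b := ⟨y, hy.1⟩)
          (hcomm _ _) (by decide : Odd 3) (Subtype.ext hx.2) (Subtype.ext hy.2))⟩
      inv_mem' := fun {x} hx => ⟨inv_mem hx.1, by rw [inv_pow, hx.2, inv_one]⟩ }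
  refine ⟨D, ⟨fun x hx => hx.1, fun x hx => hx.2, fun g hg => mem_normalizer_iff.2 fun x => ?_,
    fun g hg ho hgD => hD₀.detect g hg ho (centralizer_le
      (show (D₀ : Set G) ⊆ D from fun x hx => ⟨hD₀.le hx, hD₀.pow x hx⟩) hgD),
    ⟨haP, T.a_pow⟩, fun x hx hxz => MaxTriple.mem_zpowers_a H T hx.1 hxz hx.2⟩,
    fun x hx h => ⟨hx, h⟩⟩
  change (x ∈ P₀ ∧ x ^ 3 = 1) ↔ (g * x * g⁻¹ ∈ P₀ ∧ (g * x * g⁻¹) ^ 3 = 1)
  rw [← mem_normalizer_iff.1 (centralizer_le_normalizer_cP a hg) x, conj_pow, conj_eq_one_iff]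

/-- The weight spaces span `D`, which is elementary of order at most `3 ^ 5`. -/
theorem elem_D (hD : Good 3 z a D) (f : Frame z a A K L s₁ t₁ s₂ t₂) :
    Elem 3 D ∧ Nat.card D ≤ 243 := by
  have P := T.pair
  have F := f.facts H P
  set w := s₁ * s₂
  set w' := t₁ * t₂
  obtain ⟨u, hu, hu1, -⟩ := exists_wt H T hD F f.liveK.1.1 ⟨f.aK, f.aL⟩
  set u' := s₁ * u * s₁⁻¹ with hu'
  set ν := t₁ * u * t₁⁻¹ with hν
  set ρ := t₁ * u' * t₁⁻¹ with hρ
  have hN : ∀ {g : G}, g * a = a * g → ∀ {x}, x ∈ D → g * x * g⁻¹ ∈ D := fun {g} hg {x} hx =>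
    conj_mem_of_mem_normalizer (Good.le_normalizer_a H T hD hg) hx
  have h1D := hN F.tog_s.ta hu.mem
  have h2D := hN F.tog_t.ta hu.mem
  have h3D := hN F.tog_t.ta h1D
  have h1w : w * u' * w⁻¹ = u' := keep_fix F.s_comm hu.fix
  have h1w' : w' * u' * w'⁻¹ = u'⁻¹ := flip_fix P.z_inv F.tog_s.tz F.s_anti hu.inv hu.fix'
  have h1z := keep_inv F.tog_s.tz hu.inv
  have h2w : w * ν * w⁻¹ = ν⁻¹ := flip_fix P.z_inv F.tog_t.tz F.t_anti hu.inv hu.fix
  have h2w' : w' * ν * w'⁻¹ = ν := keep_fix F.t_comm hu.fix'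
  have h3w : w * ρ * w⁻¹ = ρ⁻¹ := flip_fix P.z_inv F.tog_t.tz F.t_anti h1z h1w
  have h3w' : w' * ρ * w'⁻¹ = ρ⁻¹ := keep_inv F.t_comm h1w'
  have ca : ∀ {x}, x ∈ D → Commute x a := fun hx => Good.comm_a H T hD hx
  have c01 : Commute u u' := Good.commute_of_fix_inv H T hD hu.mem h1D F.aw' hu.fix' h1w'
  have c02 : Commute u ν := Good.commute_of_fix_inv H T hD hu.mem h2D F.aw hu.fix h2w
  have c03 : Commute u ρ := Good.commute_of_fix_inv H T hD hu.mem h3D F.aw hu.fix h3w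
  have c12 : Commute u' ν := Good.commute_of_fix_inv H T hD h1D h2D F.aw h1w h2w
  have c13 : Commute u' ρ := Good.commute_of_fix_inv H T hD h1D h3D F.aw h1w h3w
  have c23 : Commute ν ρ := Good.commute_of_fix_inv H T hD h2D h3D F.aw' h2w' h3w'
  have hz : ∀ {x y : G}, Commute x y → zpowers x ≤ centralizer ({y} : Set G) := fun h =>
    zpowers_le.2 (mem_centralizer_singleton.2 h.eq)
  have adj : ∀ {E : Subgroup G}, Elem 3 E → ∀ {y : G}, y ^ 3 = 1 →
      E ≤ centralizer ({y} : Set G) → Elem 3 (E ⊔ zpowers y) ∧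
      Nat.card ↥(E ⊔ zpowers y) ≤ Nat.card E * 3 := by
    intro E hE y hy hc
    have hcomm : ∀ x ∈ E, ∀ v ∈ zpowers y, x * v = v * x := fun x hx v hv => by
      obtain ⟨i, rfl⟩ := mem_zpowers_iff.1 hv
      exact ((show Commute x y from mem_centralizer_singleton.1 (hc hx)).zpow_right i).eq
    refine ⟨hE.sup (elem_zpowers hy) hcomm, ?_⟩
    refine (Nat.le_of_dvd (mul_pos Nat.card_pos Nat.card_pos)
      (Coprime.card_sup_dvd (le_normalizer_of_commute hcomm))).trans (Nat.mul_le_mul_left _ ?_)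
    rw [Nat.card_zpowers]
    exact Nat.le_of_dvd (by norm_num) (orderOf_dvd_of_pow_eq_one hy)
  obtain ⟨e1, k1⟩ := adj (elem_zpowers T.a_pow) (hD.pow u hu.mem) (hz (ca hu.mem).symm)
  obtain ⟨e2, k2⟩ := adj e1 (hD.pow u' h1D) (sup_le (hz (ca h1D).symm) (hz c01))
  obtain ⟨e3, k3⟩ := adj e2 (hD.pow ν h2D)
    (sup_le (sup_le (hz (ca h2D).symm) (hz c02)) (hz c12))
  obtain ⟨e4, k4⟩ := adj e3 (hD.pow ρ h3D)
    (sup_le (sup_le (sup_le (hz (ca h3D).symm) (hz c03)) (hz c13)) (hz c23))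
  set E := zpowers a ⊔ zpowers u ⊔ zpowers u' ⊔ zpowers ν ⊔ zpowers ρ with hE
  have haE : a ∈ E :=
    mem_sup_left (mem_sup_left (mem_sup_left (mem_sup_left (mem_zpowers a))))
  have hdep : ∀ {y}, Wt z D w w' y → y ∈ zpowers u := fun hy =>
    wt_dependent H T hD F hu hu1 hy (wt_commute H T hD f hu hy)
  have hzc : ∀ {x}, x ∈ cR z → zpowers z ≤ centralizer ({x} : Set G) := fun hx =>
    zpowers_le.2 (mem_centralizer_singleton.2 (P.cR_comm hx).symm)
  set W := zpowers z ⊔ zpowers w ⊔ zpowers w' with hW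
  have hWe : Elem 2 W := ((elem_zpowers P.z_sq).adjoin F.sq (hzc F.cR_mem)).adjoin F.sq'
    (sup_le (hzc F.cR_mem') (zpowers_le.2 (mem_centralizer_singleton.2 F.comm)))
  have hzW : z ∈ W := mem_sup_left (mem_sup_left (mem_zpowers z))
  have hwW : w ∈ W := mem_sup_left (mem_sup_right (mem_zpowers w))
  have hw'W : w' ∈ W := mem_sup_right (mem_zpowers w')
  have hWa : W ≤ centralizer ({a} : Set G) := sup_le (sup_le
    (zpowers_le.2 T.z_mem_centralizer_a) (zpowers_le.2 (mem_centralizer_singleton.2 F.aw)))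
    (zpowers_le.2 (mem_centralizer_singleton.2 F.aw'))
  haveI := hWe.isMulCommutative
  have hDE : D ≤ E := by
    refine Coprime.le_of_cyclic_quotient (hWa.trans hD.norm)
      (coprime_two_group H.prime H.ne_two ((isPGroup_cP a).to_le hD.le) hWe.isPGroup).symm
      fun B hB ⟨b, hb, hBb⟩ x hx => ?_
    by_cases hzB : z ∈ B
    · exact zpowers_le.2 haE (hD.fixed x hx.1 (mem_centralizer_iff.1 hx.2 z hzB).symm)
    have hdec : ∀ g ∈ W, g ∈ B ∨ z * g ∈ B := by
      have hd : ∀ g ∈ W, g ∈ B ∨ ∃ c ∈ B, g = c * b := by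
        intro g hg
        rw [← hBb, mem_sup_of_commute fun c hc y hy => hWe.1 c (hB hc) y (zpowers_le.2 hb hy)] at hg
        obtain ⟨c, hc, y, hy, rfl⟩ := hg
        obtain ⟨i, rfl⟩ := mem_zpowers_iff.1 hy
        have hb2 : b ^ (2 : ℤ) = 1 := by exact_mod_cast hWe.2 b hb
        rcases Int.even_or_odd i with ⟨j, rfl⟩ | ⟨j, rfl⟩
        · left; rw [← two_mul, zpow_mul, hb2, one_zpow, mul_one]; exact hc
        · right; exact ⟨c, hc, by rw [zpow_add_one, zpow_mul, hb2, one_zpow, one_mul]⟩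
      intro g hg
      rcases hd z hzW with h | ⟨c, hc, hzc'⟩
      · exact absurd h hzB
      rcases hd g hg with h | ⟨c', hc', rfl⟩
      · exact Or.inl h
      · refine Or.inr ?_
        have e : z * (c' * b) = c * c' * (b * b) := by
          have hcb : Commute b c' := hWe.1 b hb c' (hB hc')
          calc z * (c' * b) = c * (b * c') * b := by rw [hzc']; group
            _ = c * (c' * b) * b := by rw [hcb.eq]
            _ = _ := by group
        rw [e, ← pow_two, hWe.2 b hb, mul_one]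
        exact mul_mem hc hc'
    obtain ⟨d, hd, hdz, hdx⟩ := Good.exists_inv H T hD hx.1
    have hBd : ∀ g ∈ B, g * d * g⁻¹ = d := by
      intro g hg
      have h1 : Commute g x := mem_centralizer_iff.1 hx.2 g hg
      have h2 : Commute g (d⁻¹ * x) :=
        Good.comm_of_mem_zpowers H T hD hdx (mem_centralizer_singleton.1 (hWa (hB hg)))
      have h3 := h1.mul_right h2.inv_right
      rw [mul_inv_rev, inv_inv, mul_inv_cancel_left] at h3
      exact conj_eq_iff.2 h3.eq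
    have hsgn : ∀ g ∈ W, g * d * g⁻¹ = d ∨ g * d * g⁻¹ = d⁻¹ := by
      intro g hg
      rcases hdec g hg with h | h
      · exact Or.inl (hBd g h)
      · refine Or.inr ?_
        calc g * d * g⁻¹ = z⁻¹ * ((z * g) * d * (z * g)⁻¹) * z := by group
          _ = z * d * z⁻¹ := by rw [hBd _ h, P.z_inv]
          _ = d⁻¹ := hdz
    have hdE : d ∈ E := by
      have mw : ∀ {g : G}, g * a = a * g → g * z = z * g → z * (g⁻¹ * d * g) * z⁻¹ =
          (g⁻¹ * d * g)⁻¹ ∧ g⁻¹ * d * g ∈ D := fun {g} hga hgz => by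
        have h1 := keep_inv (g := g⁻¹) ((show Commute g z from hgz).inv_left).eq hdz
        have h2 := hN (g := g⁻¹) ((show Commute g a from hga).inv_left).eq hd
        rw [inv_inv] at h1 h2
        exact ⟨h1, h2⟩
      have back : ∀ {g x₀ : G}, g⁻¹ * d * g ∈ zpowers x₀ → d ∈ zpowers (g * x₀ * g⁻¹) :=
        fun {g x₀} h => by
          obtain ⟨i, hi⟩ := mem_zpowers_iff.1 h
          exact mem_zpowers_iff.2 ⟨i, by rw [conj_zpow, hi]; group⟩
      rcases hsgn w hwW with h | h <;> rcases hsgn w' hw'W with h' | h'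
      · exact mem_sup_left (mem_sup_left (mem_sup_left (mem_sup_right
          (hdep ⟨hd, hdz, h, h'⟩))))
      · obtain ⟨k1, k2⟩ := mw F.tog_s.ta F.tog_s.tz
        refine mem_sup_left (mem_sup_left (mem_sup_right (back (hdep ⟨k2, k1, ?_, ?_⟩))))
        · have := keep_fix (g := s₁⁻¹) ((show Commute s₁ w from F.s_comm).inv_left).eq h
          rwa [inv_inv] at this
        · calc w' * (s₁⁻¹ * d * s₁) * w'⁻¹
              = s₁⁻¹ * ((s₁ * w' * s₁⁻¹) * d * (s₁ * w' * s₁⁻¹)⁻¹) * s₁ := by group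
            _ = s₁⁻¹ * (z * (w' * d * w'⁻¹) * z⁻¹) * s₁ := by
              rw [(show s₁ * w' * s₁⁻¹ = z * w' from F.s_anti)]; group
            _ = _ := by rw [h', ← conj_inv, hdz, inv_inv]
      · obtain ⟨k1, k2⟩ := mw F.tog_t.ta F.tog_t.tz
        refine mem_sup_left (mem_sup_right (back (hdep ⟨k2, k1, ?_, ?_⟩)))
        · calc w * (t₁⁻¹ * d * t₁) * w⁻¹
              = t₁⁻¹ * ((t₁ * w * t₁⁻¹) * d * (t₁ * w * t₁⁻¹)⁻¹) * t₁ := by group
            _ = t₁⁻¹ * (z * (w * d * w⁻¹) * z⁻¹) * t₁ := by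
              rw [(show t₁ * w * t₁⁻¹ = z * w from F.t_anti)]; group
            _ = _ := by rw [h, ← conj_inv, hdz, inv_inv]
        · have := keep_fix (g := t₁⁻¹) ((show Commute t₁ w' from F.t_comm).inv_left).eq h'
          rwa [inv_inv] at this
      · -- inverted by both
        have hts : ∀ {g : G}, g = t₁ * s₁ → g * a = a * g ∧ g * z = z * g := fun e => e ▸
          ⟨((show Commute t₁ a from F.tog_t.ta).mul_left F.tog_s.ta).eq,
            ((show Commute t₁ z from F.tog_t.tz).mul_left F.tog_s.tz).eq⟩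
        obtain ⟨k1, k2⟩ := mw (hts rfl).1 (hts rfl).2
        have e : ρ = (t₁ * s₁) * u * (t₁ * s₁)⁻¹ := by rw [hρ, hu']; group
        refine mem_sup_right ?_
        rw [e]
        have hg1 : (t₁ * s₁) * w * (t₁ * s₁)⁻¹ = z * w := by
          calc (t₁ * s₁) * w * (t₁ * s₁)⁻¹ = t₁ * (s₁ * w * s₁⁻¹) * t₁⁻¹ := by group
            _ = _ := by rw [conj_eq_iff.2 F.s_comm, (show t₁ * w * t₁⁻¹ = z * w from F.t_anti)]
        have hg2 : (t₁ * s₁) * w' * (t₁ * s₁)⁻¹ = z * w' := by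
          calc (t₁ * s₁) * w' * (t₁ * s₁)⁻¹ = t₁ * (s₁ * w' * s₁⁻¹) * t₁⁻¹ := by group
            _ = (t₁ * z * t₁⁻¹) * (t₁ * w' * t₁⁻¹) := by
              rw [(show s₁ * w' * s₁⁻¹ = z * w' from F.s_anti)]; group
            _ = _ := by rw [conj_eq_iff.2 F.tog_t.tz, conj_eq_iff.2 F.t_comm]
        refine back (hdep ⟨k2, k1, ?_, ?_⟩)
        · calc w * ((t₁ * s₁)⁻¹ * d * (t₁ * s₁)) * w⁻¹
              = (t₁ * s₁)⁻¹ * (((t₁ * s₁) * w * (t₁ * s₁)⁻¹) * d *
                  ((t₁ * s₁) * w * (t₁ * s₁)⁻¹)⁻¹) * (t₁ * s₁) := by group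
            _ = (t₁ * s₁)⁻¹ * (z * (w * d * w⁻¹) * z⁻¹) * (t₁ * s₁) := by rw [hg1]; group
            _ = _ := by rw [h, ← conj_inv, hdz, inv_inv]
        · calc w' * ((t₁ * s₁)⁻¹ * d * (t₁ * s₁)) * w'⁻¹
              = (t₁ * s₁)⁻¹ * (((t₁ * s₁) * w' * (t₁ * s₁)⁻¹) * d *
                  ((t₁ * s₁) * w' * (t₁ * s₁)⁻¹)⁻¹) * (t₁ * s₁) := by group
            _ = (t₁ * s₁)⁻¹ * (z * (w' * d * w'⁻¹) * z⁻¹) * (t₁ * s₁) := by rw [hg2]; group
            _ = _ := by rw [h', ← conj_inv, hdz, inv_inv]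
    have := mul_mem hdE (zpowers_le.2 haE hdx)
    rwa [mul_inv_cancel_left] at this
  refine ⟨e4.mono hDE, (card_le_of_le hDE).trans ?_⟩
  have k0 := card_zpowers_of_pow H.prime T.a_pow T.ne_one
  rw [k0] at k1
  omega

/-- `A` fixes at most a cyclic group of elements of `P` inverted by `z`. -/
theorem y_lemma {v v' : G} (hv : v ∈ cP 3 a) (hv' : v' ∈ cP 3 a) (hv3 : v ^ 3 = 1)
    (hv3' : v' ^ 3 = 1) (hz : z * v * z⁻¹ = v⁻¹) (hz' : z * v' * z⁻¹ = v'⁻¹)
    (hA : ∀ h ∈ A, h * v = v * h) (hA' : ∀ h ∈ A, h * v' = v' * h) (hv1 : v ≠ 1)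
    (hind : v' ∉ zpowers v) : False := by
  have P := T.pair
  obtain ⟨D, hD, hDall⟩ := exists_omega H T
  obtain ⟨K, L, s₁, t₁, s₂, t₂, f⟩ := exists_frame H T
  obtain ⟨hDe, hDc⟩ := elem_D H T hD f
  have hn := n_eq_three H T hD f
  set X := zpowers v ⊔ zpowers v' with hX
  have hvD := hDall v hv hv3
  have hv'D := hDall v' hv' hv3'
  have hXD : X ≤ D := sup_le (zpowers_le.2 hvD) (zpowers_le.2 hv'D)
  have hXe : Elem 3 X := hDe.mono hXD
  have hXinv : Inv z X := Inv.sup hXe (inv_zpowers_iff.2 hz) (inv_zpowers_iff.2 hz')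
  have hXA : ∀ h ∈ A, ∀ y ∈ X, h * y = y * h := fun h hh y hy =>
    (mem_centralizer_singleton.1 ((sup_le
      (zpowers_le.2 (mem_centralizer_singleton.2 (hA h hh).symm))
      (zpowers_le.2 (mem_centralizer_singleton.2 (hA' h hh).symm)) :
        X ≤ centralizer ({h} : Set G)) hy)).symm
  have hXc : Nat.card X = 9 := by
    have hd : zpowers v ⊓ zpowers v' = ⊥ := by
      rw [eq_bot_iff_forall]
      intro y hy
      by_contra hy1
      have hv'1 : v' ≠ 1 := fun e => hind (e ▸ one_mem _)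
      exact hind (zpowers_le.2 hy.1 ((eq_of_le_of_card_ge (zpowers_le.2 hy.2) (by
        rw [card_zpowers_of_pow H.prime hv3' hv'1,
          card_zpowers_of_pow H.prime ((elem_zpowers hv3').2 y hy.2) hy1])).ge (mem_zpowers v')))
    rw [hX, card_sup_of_commute (fun x hx y hy => hDe.1 x (zpowers_le.2 hvD hx) y
      (zpowers_le.2 hv'D hy)) hd, card_zpowers_of_pow H.prime hv3 hv1,
      card_zpowers_of_pow H.prime hv3' fun e => hind (e ▸ one_mem _)]
  have hKLa : ∀ h, h ∈ K → h ∈ L → h ∈ zpowers a := by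
    have h1 := card_inf_frame H T hD f
    rw [hn] at h1
    have h2 : zpowers a = K ⊓ L := eq_of_le_of_card_ge (zpowers_le.2 ⟨f.aK, f.aL⟩) (by
      rw [card_zpowers_of_pow H.prime T.a_pow T.ne_one]; omega)
    exact fun h hK hL => h2.ge ⟨hK, hL⟩
  have hout : ∀ M, Live 3 z A M → ∃ b ∈ M, b ∉ zpowers a := fun M hM => by
    refine SetLike.not_le_iff_exists.1 fun hle => ?_
    have h1 := card_le_of_le hle
    have h2 := kernel_card H T hM.1
    rw [card_zpowers_of_pow H.prime T.a_pow T.ne_one] at h1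
    rw [hn] at h2
    omega
  obtain ⟨b₁, hb₁, hb₁a⟩ := hout K f.liveK
  obtain ⟨b₂, hb₂, hb₂a⟩ := hout L f.liveL
  have hb₁A := f.liveK.1.1 hb₁
  have hb₂A := f.liveL.1.1 hb₂
  set t := s₂ with ht
  have hta : t * a = a * t := (mem_centralizer_iff.1 f.q₂.mem.2 a f.aL).symm
  have htz : t * z = z * t := P.cR_comm (R1_le P f.q₂.mem.1)
  have htb : Commute b₂ t := mem_centralizer_iff.1 f.q₂.mem.2 b₂ hb₂
  set Y := conjG t X with hY
  have hYD : Y ≤ D := by
    rintro _ ⟨y, hy, rfl⟩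
    exact conj_mem_of_mem_normalizer (Good.le_normalizer_a H T hD hta) (hXD hy)
  have hYinv : Inv z Y := inv_conjG (by rw [conj_eq_of_commute htz]; exact hXinv)
  -- `X` meets its conjugate
  obtain ⟨y, hy, hy1⟩ := (bot_or_exists_ne_one (X ⊓ Y)).resolve_left fun hd => by
    have hXY : ∀ x ∈ X, ∀ y ∈ Y, x * y = y * x := fun x hx y hy =>
      hDe.1 x (hXD hx) y (hYD hy)
    have haXY : ∀ x ∈ zpowers a, ∀ y ∈ X ⊔ Y, x * y = y * x := fun x hx y hy =>
      (Good.comm_of_mem_zpowers H T hD hx (Good.comm_a H T hD (sup_le hXD hYD hy))).symm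
    have hinvXY : Inv z (X ⊔ Y) := Inv.sup (hDe.mono (sup_le hXD hYD)) hXinv hYinv
    have h243 : Nat.card ↥(zpowers a ⊔ (X ⊔ Y)) = 243 := by
      rw [card_sup_of_commute haXY (disjoint_of_fix_inv H.prime H.ne_two
        (zpowers_le.2 (mem_centralizer_singleton.2 T.az)) (elem_zpowers T.a_pow).2 hinvXY),
        card_sup_of_commute hXY hd, hY, card_conjG, hXc,
        card_zpowers_of_pow H.prime T.a_pow T.ne_one]
    have hall : zpowers a ⊔ (X ⊔ Y) = D := eq_of_le_of_card_ge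
      (sup_le (zpowers_le.2 hD.mem_a) (sup_le hXD hYD)) (by rw [h243]; exact hDc)
    have hDb : D ≤ centralizer ({b₂} : Set G) := by
      rw [← hall]
      refine sup_le (zpowers_le.2 (mem_centralizer_singleton.2 (P.elem.1 a T.mem b₂ hb₂A)))
        (sup_le (fun x hx => mem_centralizer_singleton.2 (hXA b₂ hb₂A x hx).symm) ?_)
      intro x hx
      obtain ⟨x₀, hx₀, rfl⟩ := mem_conjG.1 hx
      exact mem_centralizer_singleton.2
        (((htb.mul_right (hXA b₂ hb₂A x₀ hx₀)).mul_right htb.inv_right).eq).symm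
    refine hb₂a (MaxTriple.mem_zpowers_a H T
      (Good.mem_cP_of_trivial H T hD (P.elem.1 b₂ hb₂A a T.mem) fun x hx => ?_)
      (P.z_comm hb₂A) (P.elem.2 b₂ hb₂A))
    rw [conj_eq_iff.2 (mem_centralizer_singleton.1 (hDb hx)).symm, mul_inv_cancel]
    exact one_mem _
  obtain ⟨x, hx, hxy⟩ := mem_conjG.1 hy.2
  -- `[b₁, t]` fixes `y` but squares to `z`
  set e := b₁ * t * b₁⁻¹ * t⁻¹ with he
  have heT : e ∈ TH z A L := mul_mem
    (conj_mem_of_mem_normalizer (le_normalizer_TH H P f.liveL.1.1 hb₁A) f.q₂.mem)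
    (inv_mem f.q₂.mem)
  have hfix : e * y * e⁻¹ = y := by
    have hb1x : b₁⁻¹ * x * b₁ = x := conj_eq_of_commute (hXA b₁ hb₁A x hx)
    have hb1y : b₁ * y * b₁⁻¹ = y := conj_eq_iff.2 (hXA b₁ hb₁A y hy.1)
    calc e * y * e⁻¹ = b₁ * (t * (b₁⁻¹ * (t⁻¹ * y * t) * b₁) * t⁻¹) * b₁⁻¹ := by
          rw [he]; group
      _ = y := by
        rw [show t⁻¹ * y * t = x by rw [← hxy]; group, hb1x, hxy, hb1y]
  have hb₁L : b₁ ∉ L := fun h => hb₁a (hKLa b₁ hb₁ h)
  have hzz := zz H P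
  have hez : e ∉ zpowers z := by
    intro hez
    refine f.q₂.not_cls H P (K := L) ?_
    have h1 : b₁ * t * b₁⁻¹ = e * t := by rw [he, inv_mul_cancel_right]
    have h2 : Commute b₁ t := by
      refine commute_of_pow_coprime (P.elem.2 b₁ hb₁A) (m := 2) ?_ (by norm_num)
      show b₁ ^ 2 * t = t * b₁ ^ 2
      rw [← conj_eq_iff]
      calc b₁ ^ 2 * t * (b₁ ^ 2)⁻¹ = b₁ * (b₁ * t * b₁⁻¹) * b₁⁻¹ := by rw [pow_two]; group
        _ = b₁ * (e * t) * b₁⁻¹ := by rw [h1]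
        _ = (b₁ * e * b₁⁻¹) * (b₁ * t * b₁⁻¹) := by group
        _ = (b₁ * e * b₁⁻¹) * (e * t) := by rw [h1]
        _ = t := by
          rcases P.mem_zpowers hez with h | h <;> rw [h]
          · group
          · rw [P.z_comm hb₁A, mul_inv_cancel_right, ← mul_assoc, hzz, one_mul]
    have hc : s₂ ∈ zpowers z := (sympl_core H P).2.2.1 t f.q₂.mem.1 (by
      rw [← sup_zpowers_eq H P f.liveL.1 hb₁A hb₁L]
      exact mem_centralizer_sup f.q₂.mem.2 (conj_eq_iff.2 h2.eq))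
    exfalso
    exact P.z_ne_one (f.q₂.sq ▸ P.sq_eq_one hc)
  have he2 : e ^ 2 = z := by
    refine (P.mem_zpowers ((sympl_core H P).2.1 e heT.1)).resolve_left fun h1 => ?_
    obtain ⟨s, c, hc, q, hsm, -⟩ := small_all H P f.liveL
    have ha21 : Anti z (c * s * c⁻¹) s := anti_of_comm H P (q.symm H P).comm
    have hq : ∀ {g}, g ∈ TH z A L → g * z = z * g := fun hg => P.cR_comm (R1_le P hg.1)
    have hsq : ∀ {g : G}, g ^ 2 = z → g * z = z * g → (z * g) ^ 2 = z := fun {g} hg hc => by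
      rw [(show Commute z g from hc.symm).mul_pow, P.z_sq, hg, one_mul]
    have hss : (s * (c * s * c⁻¹)) ^ 2 = z := by
      calc (s * (c * s * c⁻¹)) ^ 2
          = s * ((c * s * c⁻¹) * s * (c * s * c⁻¹)⁻¹) * (c * s * c⁻¹) ^ 2 := by
            rw [pow_two, pow_two]; group
        _ = s * (z * s) * z := by rw [ha21, q.sq']
        _ = (s * z) * s * z := by group
        _ = z * s ^ 2 * z := by rw [hq q.mem, pow_two]; group
        _ = z := by rw [q.sq, hzz, one_mul]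
    rcases hsm e heT with h | h | h | h <;> rcases h with h | h
    · exact hez (h ▸ one_mem _)
    · exact hez (by rw [h, mul_one]; exact mem_zpowers z)
    · exact P.z_ne_one (by rw [← q.sq, ← h]; exact h1)
    · exact P.z_ne_one (by rw [← hsq q.sq (hq q.mem), ← h]; exact h1)
    · exact P.z_ne_one (by rw [← q.sq', ← h]; exact h1)
    · exact P.z_ne_one (by rw [← hsq q.sq' (hq q.mem'), ← h]; exact h1)
    · exact P.z_ne_one (by rw [← hss, ← h]; exact h1)
    · exact P.z_ne_one (by rw [← hsq hss (hq (mul_mem q.mem q.mem')), ← h]; exact h1)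
  refine hy1 (eq_one_of_fix_inv H.prime H.ne_two ((hXe).2 y hy.1) ?_ (hXinv y hy.1))
  calc z * y * z⁻¹ = e * (e * y * e⁻¹) * e⁻¹ := by rw [← he2, pow_two]; group
    _ = y := by rw [hfix, hfix]

end

/-- No maximal triple exists. -/
theorem no_maxTriple (H : Hyp 3 n G) (T : MaxTriple 3 n z a A) : False := by
  obtain ⟨D, hD, -⟩ := exists_omega H T
  obtain ⟨K, L, s₁, t₁, s₂, t₂, f⟩ := exists_frame H T
  obtain ⟨hDe, -⟩ := elem_D H T hD f
  have P := T.pair
  have F := f.facts H P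
  have hn := n_eq_three H T hD f
  set w := s₁ * s₂
  set w' := t₁ * t₂
  obtain ⟨u, hu, hu1, -⟩ := exists_wt H T hD F f.liveK.1.1 ⟨f.aK, f.aL⟩
  set u' := s₁ * u * s₁⁻¹ with hu'
  set ν := t₁ * u * t₁⁻¹ with hν
  set ρ := t₁ * u' * t₁⁻¹ with hρ
  have hN : ∀ {g : G}, g * a = a * g → ∀ {x}, x ∈ D → g * x * g⁻¹ ∈ D := fun {g} hg {x} hx =>
    conj_mem_of_mem_normalizer (Good.le_normalizer_a H T hD hg) hx
  have h1D := hN F.tog_s.ta hu.mem
  have h2D := hN F.tog_t.ta hu.mem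
  have h3D := hN F.tog_t.ta h1D
  have h1z := keep_inv F.tog_s.tz hu.inv
  have h1w : w * u' * w⁻¹ = u' := keep_fix F.s_comm hu.fix
  have h1w' : w' * u' * w'⁻¹ = u'⁻¹ := flip_fix P.z_inv F.tog_s.tz F.s_anti hu.inv hu.fix'
  have h2w : w * ν * w⁻¹ = ν⁻¹ := flip_fix P.z_inv F.tog_t.tz F.t_anti hu.inv hu.fix
  have h2w' : w' * ν * w'⁻¹ = ν := keep_fix F.t_comm hu.fix'
  have h3w : w * ρ * w⁻¹ = ρ⁻¹ := flip_fix P.z_inv F.tog_t.tz F.t_anti h1z h1w
  have h3w' : w' * ρ * w'⁻¹ = ρ⁻¹ := keep_inv F.t_comm h1w'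
  have hup := hD.pow u hu.mem
  have hu'p := hD.pow u' h1D
  have hu'1 : u' ≠ 1 := fun e => hu1 (conj_eq_one_iff.1 e)
  have hU : Elem 3 (zpowers u ⊔ zpowers u') :=
    hDe.mono (sup_le (zpowers_le.2 hu.mem) (zpowers_le.2 h1D))
  set A₂ := zpowers a ⊔ (zpowers u ⊔ zpowers u') with hA₂
  have hA₂D : A₂ ≤ D :=
    sup_le (zpowers_le.2 hD.mem_a) (sup_le (zpowers_le.2 hu.mem) (zpowers_le.2 h1D))
  have hA₂c : Nat.card A₂ = 3 ^ n := by
    rw [hA₂, card_sup_of_commute (fun x hx y hy => hDe.1 x (zpowers_le.2 hD.mem_a hx) y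
        (sup_le (zpowers_le.2 hu.mem) (zpowers_le.2 h1D) hy))
      (disjoint_of_fix_inv H.prime H.ne_two (zpowers_le.2 (mem_centralizer_singleton.2 T.az))
        (elem_zpowers T.a_pow).2
        (Inv.sup hU (inv_zpowers_iff.2 hu.inv) (inv_zpowers_iff.2 h1z))),
      card_sup_of_commute (fun x hx y hy => hDe.1 x (zpowers_le.2 hu.mem hx) y
        (zpowers_le.2 h1D hy))
      (disjoint_of_fix_inv H.prime H.ne_two (fix_zpowers hu.fix') (elem_zpowers hup).2
        (inv_zpowers h1w')), card_zpowers_of_pow H.prime T.a_pow T.ne_one,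
      card_zpowers_of_pow H.prime hup hu1, card_zpowers_of_pow H.prime hu'p hu'1, hn]
    norm_num
  have P₂ : IsPair 3 n w A₂ := ⟨orderOf_eq_prime F.sq F.ne_one, hDe.mono hA₂D, hA₂c,
    sup_le (zpowers_le.2 (mem_centralizer_singleton.2 F.aw.symm))
      (fix_sup (fix_zpowers hu.fix) (fix_zpowers h1w))⟩
  -- two live hyperplanes meeting nontrivially
  have haA₂ : a ∈ A₂ := mem_sup_left (mem_zpowers a)
  obtain ⟨M, hM, -⟩ := exists_live_notMem H P₂ haA₂ T.ne_one
  obtain ⟨h, hh, hh1⟩ := (bot_or_exists_ne_one M).resolve_left fun e => by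
    have := hM.1.2
    rw [e, card_bot, one_mul, hA₂c, hn] at this
    norm_num at this
  obtain ⟨M', hM', hhM'⟩ := exists_live_notMem H P₂ (hM.1.1 hh) hh1
  have hMM' : M ≠ M' := fun e => hhM' (e ▸ hh)
  obtain ⟨y, hy, hy1⟩ := (bot_or_exists_ne_one (M ⊓ M')).resolve_left fun e => by
    have h1 := card_le_inf_mul P₂ hM.1.1 hM'.1
    have h2 := hM.1.2
    rw [hA₂c, hn] at h2
    rw [e, card_bot] at h1
    omega
  have hge : Nat.card (cB z a) ≤ Nat.card (cB w y) :=
    (card_cB_le_32 H T hD f).trans ((thirtytwo_le H P₂ hM hM' hMM').trans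
      (card_le_of_le (sup_le (TH_le_cB P₂ hy.1) (TH_le_cB P₂ hy.2))))
  have T₂ : MaxTriple 3 n w y A₂ :=
    ⟨P₂, hM.1.1 hy.1, hy1, fun z' a' A' k k' k'' => (T.max z' a' A' k k' k'').trans hge⟩
  obtain ⟨D₂, hD₂⟩ := exists_good H T₂
  have hyD := hA₂D (hM.1.1 hy.1)
  have hνP := Good.mem_cP_of_inv H T₂ hD₂ (k := 1) (hDe.1 ν h2D y hyD)
    (by rw [pow_one]; exact hD.pow ν h2D) h2w
  have hρP := Good.mem_cP_of_inv H T₂ hD₂ (k := 1) (hDe.1 ρ h3D y hyD)
    (by rw [pow_one]; exact hD.pow ρ h3D) h3w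
  have hν1 : ν ≠ 1 := fun e => hu1 (conj_eq_one_iff.1 e)
  have hρ1 : ρ ≠ 1 := fun e => hu'1 (conj_eq_one_iff.1 e)
  refine y_lemma H T₂ hνP hρP (hD.pow ν h2D) (hD.pow ρ h3D) h2w h3w
    (fun g hg => hDe.1 g (hA₂D hg) ν h2D) (fun g hg => hDe.1 g (hA₂D hg) ρ h3D) hν1 fun hmem => ?_
  exact hρ1 (eq_one_of_fix_inv H.prime H.ne_two (hD.pow ρ h3D)
    (fix_zpowers_iff.2 h2w' ρ hmem) h3w')

end CfsgLib.KlingerMason
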