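import Cfsg.Agent.Lib.KlingerMason.Quat

/-!
The theorem of Klinger and Mason: at most three live hyperplanes through `a`, `n ≤ 4`, `p = 3`
and every live hyperplane carries a quaternion group.
-/

set_option autoImplicit false
set_option linter.style.haveILetI false
set_option linter.unusedSectionVars false

namespace CfsgLib.KlingerMason

open Cfsg Subgroup
open scoped commutatorElement

variable {G : Type*} [Group G] [Finite G] {p n : ℕ} {z a : G} {A D : Subgroup G}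

section

variable (H : Hyp p n G) (T : MaxTriple p n z a A) (hD : Good p z a D)
include H T

/-- A subgroup of `A` larger than `⟨a⟩` misses some live hyperplane through `a`. -/
theorem exists_live_not_le {X : Subgroup G} (hX : X ≤ A) (hc : p < Nat.card X) :
    ∃ K, Live p z A K ∧ a ∈ K ∧ ¬ X ≤ K := by
  by_contra hcon
  simp only [not_exists, not_and, not_not] at hcon
  have hle : X ≤ zpowers a := fun h hh =>
    MaxTriple.centralizer_cB_le H T (hX hh) fun r hr =>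
      (mem_centralizer_singleton.1 (centralizes_of_live H T.pair T.mem (hX hh)
        (fun K hK haK => hcon K hK haK hh) hr)).symm
  have := card_le_of_le hle
  rw [card_zpowers_of_pow H.prime T.a_pow T.ne_one] at this
  omega

theorem exists_two_live :
    ∃ K L, Live p z A K ∧ Live p z A L ∧ a ∈ K ∧ a ∈ L ∧ K ≠ L := by
  have hp := H.prime
  obtain ⟨K, hK, haK, -⟩ := exists_live_not_le H T (le_refl A) (by
    rw [T.pair.card]
    calc p = p ^ 1 := (pow_one p).symm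
      _ < p ^ n := Nat.pow_lt_pow_right hp.one_lt (by have := H.three_le; omega))
  obtain ⟨L, hL, haL, hKL⟩ := exists_live_not_le H T hK.1.1 (by
    have h1 := hK.1.2
    rw [T.pair.card] at h1
    have h2 : p * p < p ^ n := by
      calc p * p = p ^ 2 := (pow_two p).symm
        _ < p ^ n := Nat.pow_lt_pow_right hp.one_lt (by have := H.three_le; omega)
    rw [← h1] at h2
    exact Nat.lt_of_mul_lt_mul_right h2)
  exact ⟨K, L, hK, hL, haK, haL, fun e => hKL (e ▸ le_rfl)⟩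

theorem kernel_card {K : Subgroup G} (hK : Kernel p A K) : Nat.card K * p = p ^ n :=
  hK.2.trans T.pair.card

include hD

/-- No four live hyperplanes pass through `a`. -/
theorem no_four {L₁ L₂ L₃ L₄ : Subgroup G} (h₁ : Live p z A L₁) (h₂ : Live p z A L₂)
    (h₃ : Live p z A L₃) (h₄ : Live p z A L₄) (a₁ : a ∈ L₁) (a₂ : a ∈ L₂) (a₃ : a ∈ L₃)
    (a₄ : a ∈ L₄) (d₁₂ : L₁ ≠ L₂) (d₁₃ : L₁ ≠ L₃) (d₁₄ : L₁ ≠ L₄) (d₂₃ : L₂ ≠ L₃)
    (d₂₄ : L₂ ≠ L₄) (d₃₄ : L₃ ≠ L₄) : False := by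
  have P := T.pair
  have hzz := zz H P
  obtain ⟨s₁, c₁, -, q₁⟩ := exists_qpair H P h₁
  obtain ⟨s₂, c₂, -, q₂⟩ := exists_qpair H P h₂
  obtain ⟨s₃, c₃, -, q₃⟩ := exists_qpair H P h₃
  obtain ⟨s₄, c₄, -, q₄⟩ := exists_qpair H P h₄
  set t₁ := c₁ * s₁ * c₁⁻¹
  set t₂ := c₂ * s₂ * c₂⁻¹
  set t₃ := c₃ * s₃ * c₃⁻¹
  set t₄ := c₄ * s₄ * c₄⁻¹
  set K := L₁ ⊓ L₂ ⊓ L₃ ⊓ L₄ with hK
  have k₁ : K ≤ L₁ := inf_le_left.trans (inf_le_left.trans inf_le_left)
  have k₂ : K ≤ L₂ := inf_le_left.trans (inf_le_left.trans inf_le_right)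
  have k₃ : K ≤ L₃ := inf_le_left.trans inf_le_right
  have k₄ : K ≤ L₄ := inf_le_right
  have haK : a ∈ K := ⟨⟨⟨a₁, a₂⟩, a₃⟩, a₄⟩
  have hcard : p ^ n ≤ Nat.card K * p ^ 4 := by
    have e₁ := kernel_card H T h₁.1
    have e₂ := card_le_inf_mul P h₁.1.1 h₂.1
    have e₃ := card_le_inf_mul P ((inf_le_left : L₁ ⊓ L₂ ≤ L₁).trans h₁.1.1) h₃.1
    have e₄ := card_le_inf_mul P
      ((inf_le_left.trans inf_le_left : L₁ ⊓ L₂ ⊓ L₃ ≤ L₁).trans h₁.1.1) h₄.1
    rw [← hK] at e₄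
    calc p ^ n = Nat.card L₁ * p := e₁.symm
      _ ≤ Nat.card ↥(L₁ ⊓ L₂) * p * p := Nat.mul_le_mul_right _ e₂
      _ ≤ Nat.card ↥(L₁ ⊓ L₂ ⊓ L₃) * p * p * p :=
        Nat.mul_le_mul_right _ (Nat.mul_le_mul_right _ e₃)
      _ ≤ Nat.card K * p * p * p * p :=
        Nat.mul_le_mul_right _ (Nat.mul_le_mul_right _ (Nat.mul_le_mul_right _ e₄))
      _ = _ := by ring
  have hR : ∀ {L x}, x ∈ TH z A L → x * z = z * x := fun hx => P.cR_comm (R1_le P hx.1)
  have x₁₂ := TH_commute H P h₁.1 h₂.1 d₁₂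
  have x₁₃ := TH_commute H P h₁.1 h₃.1 d₁₃
  have x₁₄ := TH_commute H P h₁.1 h₄.1 d₁₄
  have x₂₃ := TH_commute H P h₂.1 h₃.1 d₂₃
  have x₂₄ := TH_commute H P h₂.1 h₄.1 d₂₄
  have x₃₄ := TH_commute H P h₃.1 h₄.1 d₃₄
  have hzx : ∀ {L x}, x ∈ TH z A L → zpowers z ≤ centralizer ({x} : Set G) := fun hx =>
    zpowers_le.2 (mem_centralizer_singleton.2 (hR hx).symm)
  set w₀ := s₁ * s₂ with hw₀
  set w₁ := t₁ * t₂ with hw₁
  set w₂ := s₃ * s₄ with hw₂
  set w₃ := t₃ * t₄ with hw₃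
  have sq : ∀ {x y : G}, x ^ 2 = z → y ^ 2 = z → x * y = y * x → (x * y) ^ 2 = 1 :=
    fun hx hy h => by rw [(show Commute _ _ from h).mul_pow, hx, hy, hzz]
  -- anticommuting relations
  have b₁ : Anti z s₁ w₁ :=
    (anti_of_comm H P q₁.comm).mul_right (x₁₂ _ q₁.mem _ q₂.mem')
  have b₂ : Anti z t₁ w₀ :=
    (anti_of_comm H P (q₁.symm H P).comm).mul_right (x₁₂ _ q₁.mem' _ q₂.mem)
  have b₃ : Anti z s₃ w₃ :=
    (anti_of_comm H P q₃.comm).mul_right (x₃₄ _ q₃.mem _ q₄.mem')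
  have b₄ : Anti z t₃ w₂ :=
    (anti_of_comm H P (q₃.symm H P).comm).mul_right (x₃₄ _ q₃.mem' _ q₄.mem)
  have c01 : w₀ * w₁ = w₁ * w₀ := Anti.mul_commute hzz b₁
    ((anti_of_comm H P q₂.comm).mul_left (x₁₂ _ q₁.mem' _ q₂.mem).symm (hR q₁.mem'))
    (hR q₁.mem)
  have c23 : w₂ * w₃ = w₃ * w₂ := Anti.mul_commute hzz b₃
    ((anti_of_comm H P q₄.comm).mul_left (x₃₄ _ q₃.mem' _ q₄.mem).symm (hR q₃.mem'))
    (hR q₃.mem)
  have far : ∀ {x y : G}, x ∈ TH z A L₁ → y ∈ TH z A L₂ → ∀ {u v : G}, u ∈ TH z A L₃ →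
      v ∈ TH z A L₄ → (x * y) * (u * v) = (u * v) * (x * y) := fun {x y} hx hy {u v} hu hv =>
    (((show Commute _ u from x₁₃ _ hx _ hu).mul_right (x₁₄ _ hx _ hv)).mul_left
      ((show Commute _ u from x₂₃ _ hy _ hu).mul_right (x₂₄ _ hy _ hv))).eq
  have hR1 : ∀ {L}, TH z A L ≤ R1 z A := fun {L} => inf_le_left
  have m₀ : w₀ ∈ R1 z A := mul_mem (hR1 q₁.mem) (hR1 q₂.mem)
  have m₁ : w₁ ∈ R1 z A := mul_mem (hR1 q₁.mem') (hR1 q₂.mem')
  have m₂ : w₂ ∈ R1 z A := mul_mem (hR1 q₃.mem) (hR1 q₄.mem)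
  have m₃ : w₃ ∈ R1 z A := mul_mem (hR1 q₃.mem') (hR1 q₄.mem')
  have hzc : ∀ {w}, w ∈ R1 z A → zpowers z ≤ centralizer ({w} : Set G) := fun hw =>
    zpowers_le.2 (mem_centralizer_singleton.2 (P.cR_comm (R1_le P hw)).symm)
  set W := zpowers z ⊔ zpowers w₀ ⊔ zpowers w₁ ⊔ zpowers w₂ ⊔ zpowers w₃ with hW
  have hWe : Elem 2 W := ((((elem_zpowers P.z_sq).adjoin
    (sq q₁.sq q₂.sq (x₁₂ _ q₁.mem _ q₂.mem)) (hzc m₀)).adjoin
    (sq q₁.sq' q₂.sq' (x₁₂ _ q₁.mem' _ q₂.mem'))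
    (sup_le (hzc m₁) (zpowers_le.2 (mem_centralizer_singleton.2 c01)))).adjoin
    (sq q₃.sq q₄.sq (x₃₄ _ q₃.mem _ q₄.mem))
    (sup_le (sup_le (hzc m₂) (zpowers_le.2 (mem_centralizer_singleton.2
      (far q₁.mem q₂.mem q₃.mem q₄.mem)))) (zpowers_le.2 (mem_centralizer_singleton.2
      (far q₁.mem' q₂.mem' q₃.mem q₄.mem))))).adjoin
    (sq q₃.sq' q₄.sq' (x₃₄ _ q₃.mem' _ q₄.mem'))
    (sup_le (sup_le (sup_le (hzc m₃) (zpowers_le.2 (mem_centralizer_singleton.2
      (far q₁.mem q₂.mem q₃.mem' q₄.mem')))) (zpowers_le.2 (mem_centralizer_singleton.2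
      (far q₁.mem' q₂.mem' q₃.mem' q₄.mem')))) (zpowers_le.2 (mem_centralizer_singleton.2 c23)))
  have hTK : ∀ {L x}, K ≤ L → x ∈ TH z A L → x ∈ centralizer (K : Set G) := fun h hx =>
    centralizer_le (SetLike.coe_subset_coe.2 h) hx.2
  have hWK : W ≤ centralizer (K : Set G) := sup_le (sup_le (sup_le (sup_le
    (zpowers_le.2 (mem_centralizer_iff.2 fun x hx => P.z_comm (h₁.1.1 (k₁ hx))))
    (zpowers_le.2 (mul_mem (hTK k₁ q₁.mem) (hTK k₂ q₂.mem))))
    (zpowers_le.2 (mul_mem (hTK k₁ q₁.mem') (hTK k₂ q₂.mem'))))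
    (zpowers_le.2 (mul_mem (hTK k₃ q₃.mem) (hTK k₄ q₄.mem))))
    (zpowers_le.2 (mul_mem (hTK k₃ q₃.mem') (hTK k₄ q₄.mem')))
  have hWR : W ≤ R1 z A := sup_le (sup_le (sup_le (sup_le
    (zpowers_le.2 (z_mem_R1 H P)) (zpowers_le.2 m₀)) (zpowers_le.2 m₁)) (zpowers_le.2 m₂))
    (zpowers_le.2 m₃)
  have hzW : z ∈ W := mem_sup_left (mem_sup_left (mem_sup_left (mem_sup_left (mem_zpowers z))))
  have htog : ∀ {L x}, K ≤ L → x ∈ TH z A L → Tog z a K x := fun h hx =>
    tog_of_mem h haK (R1_le P hx.1) hx.2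
  refine false_of_bound H.prime hcard (toggles₄ H T hD (k₁.trans h₁.1.1) haK hWe hzW hWK
    (w₀ := w₀) (w₁ := w₁) (w₂ := w₂) (w₃ := w₃)
    (mem_sup_left (mem_sup_left (mem_sup_left (mem_sup_right (mem_zpowers _)))))
    (mem_sup_left (mem_sup_left (mem_sup_right (mem_zpowers _))))
    (mem_sup_left (mem_sup_right (mem_zpowers _))) (mem_sup_right (mem_zpowers _))
    (htog k₁ q₁.mem') (htog k₁ q₁.mem) (htog k₃ q₃.mem') (htog k₃ q₃.mem)
    (fun v hv => by
      have := conj_mem_of_le_R1 H P hWR hzW (inv_mem q₁.mem'.1) v hv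
      rwa [inv_inv] at this)
    b₂ b₁ b₄ b₃
    ((Commute.refl s₁).mul_right (x₁₂ _ q₁.mem _ q₂.mem)).eq
    ((show Commute t₃ s₁ from (x₁₃ _ q₁.mem _ q₃.mem').symm).mul_right
      (x₂₃ _ q₂.mem _ q₃.mem').symm).eq
    ((show Commute s₃ s₁ from (x₁₃ _ q₁.mem _ q₃.mem).symm).mul_right
      (x₂₃ _ q₂.mem _ q₃.mem).symm).eq
    ((show Commute s₁ s₃ from x₁₃ _ q₁.mem _ q₃.mem).mul_right (x₁₄ _ q₁.mem _ q₄.mem)).eq
    ((show Commute s₁ t₃ from x₁₃ _ q₁.mem _ q₃.mem').mul_right (x₁₄ _ q₁.mem _ q₄.mem')).eq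
    ((Commute.refl t₃).mul_right (x₃₄ _ q₃.mem' _ q₄.mem')).eq) (by norm_num)

/-- A hyperplane through `a` with a live companion carries only a quaternion group. -/
theorem small_through {K L : Subgroup G} (hK : Live p z A K) (hL : Live p z A L) (haK : a ∈ K)
    (haL : a ∈ L) (hne : K ≠ L) {s s' : G} (q : QPair z A K s s') : Small z A K s s' := by
  have P := T.pair
  have hzz := zz H P
  refine small_of_forall H P q fun u hu hsu hs'u => ?_
  by_contra hunz
  have hR : ∀ {M x}, x ∈ TH z A M → x * z = z * x := fun hx => P.cR_comm (R1_le P hx.1)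
  have hcm := fun {u v : G} => @commutatorElement_eq_one_iff_mul_comm G _ u v
  have a12 : Anti z s s' := anti_of_comm H P q.comm
  have a21 : Anti z s' s := anti_of_comm H P (q.symm H P).comm
  -- a partner of `u` centralising the pair
  obtain ⟨u', hu', hsu', hs'u', huu'⟩ : ∃ u' ∈ TH z A K,
      s * u' = u' * s ∧ s' * u' = u' * s' ∧ ⁅u, u'⁆ = z := by
    obtain ⟨v, hv, hv'⟩ : ∃ v ∈ TH z A K, u * v ≠ v * u := by
      by_contra hcon
      simp only [not_exists, not_and, not_not] at hcon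
      exact hunz (TH_nondeg H P hK.1 hu hcon)
    obtain ⟨y, hy, h1, h2, he⟩ := adjust H P q hv
    refine ⟨y, hy, h1, h2, (commutator_cases H P hu.1 hy.1).resolve_left fun h => hv' ?_⟩
    have cs : Commute u s := hsu.symm
    have cs' : Commute u s' := hs'u.symm
    have cy : Commute u y := hcm.1 h
    rcases he with e | e | e | e
    · rw [← e]; exact cy.eq
    · rw [show v = y * s⁻¹ by rw [e]; group]; exact (cy.mul_right cs.inv_right).eq
    · rw [show v = y * s'⁻¹ by rw [e]; group]; exact (cy.mul_right cs'.inv_right).eq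
    · rw [show v = y * s⁻¹ * s'⁻¹ by rw [e]; group]
      exact ((cy.mul_right cs.inv_right).mul_right cs'.inv_right).eq
  rcases P.mem_zpowers ((sympl_core H P).2.1 u hu.1) with hu2 | hu2
  swap
  · rcases P.mem_zpowers ((sympl_core H P).2.1 u' hu'.1) with hu2' | hu2'
    swap
    · exact two_qpairs_false H P hK.1 q ⟨hu, hu', hu2, hu2', huu'⟩ hsu hsu' hs'u hs'u'
    -- hyperbolic with `u'` an involution
    exact hyper u' u hu' hu hsu' hs'u' hsu hs'u hu2'
      ((commutator_symm H P hu.1 hu'.1).trans huu')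
  exact hyper u u' hu hu' hsu hs'u hsu' hs'u' hu2 huu'
where
  hyper (v v' : G) (hv : v ∈ TH z A K) (hv' : v' ∈ TH z A K) (hsv : s * v = v * s)
      (hs'v : s' * v = v * s') (hsv' : s * v' = v' * s) (hs'v' : s' * v' = v' * s')
      (hv2 : v ^ 2 = 1) (hvv' : ⁅v, v'⁆ = z) : False := by
    have P := T.pair
    have hzz := zz H P
    obtain ⟨x, c, -, q'⟩ := exists_qpair H P hL
    set y := c * x * c⁻¹
    have hR : ∀ {M w}, w ∈ TH z A M → w * z = z * w := fun hw => P.cR_comm (R1_le P hw.1)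
    have hKL := TH_commute H P hK.1 hL.1 hne
    set M := K ⊓ L with hM
    set w₁ := s * x with hw₁
    set w₂ := s' * y with hw₂
    have e₁ : w₁ ^ 2 = 1 := by
      rw [hw₁, (show Commute s x from hKL _ q.mem _ q'.mem).mul_pow, q.sq, q'.sq, hzz]
    have e₂ : w₂ ^ 2 = 1 := by
      rw [hw₂, (show Commute s' y from hKL _ q.mem' _ q'.mem').mul_pow, q.sq', q'.sq', hzz]
    have c₁ : Anti z s' w₁ :=
      (anti_of_comm H P (q.symm H P).comm).mul_right (hKL _ q.mem' _ q'.mem)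
    have c₂ : Anti z s w₂ := (anti_of_comm H P q.comm).mul_right (hKL _ q.mem _ q'.mem')
    have c₁₂ : w₁ * w₂ = w₂ * w₁ := Anti.mul_commute hzz c₂
      ((anti_of_comm H P q'.comm).mul_left (hKL _ q.mem' _ q'.mem).symm (hR q.mem')) (hR q.mem)
    have cv₁ : Commute v w₁ := (show Commute v s from hsv.symm).mul_right (hKL _ hv _ q'.mem)
    have cv₂ : Commute v w₂ := (show Commute v s' from hs'v.symm).mul_right (hKL _ hv _ q'.mem')
    have m₁ : w₁ ∈ R1 z A := mul_mem q.mem.1 q'.mem.1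
    have m₂ : w₂ ∈ R1 z A := mul_mem q.mem'.1 q'.mem'.1
    have hzc : ∀ {w}, w ∈ R1 z A → zpowers z ≤ centralizer ({w} : Set G) := fun hw =>
      zpowers_le.2 (mem_centralizer_singleton.2 (P.cR_comm (R1_le P hw)).symm)
    set W := zpowers z ⊔ zpowers v ⊔ zpowers w₁ ⊔ zpowers w₂ with hW
    have hWe : Elem 2 W := (((elem_zpowers P.z_sq).adjoin hv2 (hzc hv.1)).adjoin e₁
      (sup_le (hzc m₁) (zpowers_le.2 (mem_centralizer_singleton.2 cv₁.eq)))).adjoin e₂
      (sup_le (sup_le (hzc m₂) (zpowers_le.2 (mem_centralizer_singleton.2 cv₂.eq)))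
        (zpowers_le.2 (mem_centralizer_singleton.2 c₁₂)))
    have hWR : W ≤ R1 z A := sup_le (sup_le (sup_le (zpowers_le.2 (z_mem_R1 H P))
      (zpowers_le.2 hv.1)) (zpowers_le.2 m₁)) (zpowers_le.2 m₂)
    have hMc : ∀ {w}, w ∈ TH z A K → w ∈ centralizer (M : Set G) := fun hw =>
      centralizer_le (SetLike.coe_subset_coe.2 inf_le_left) hw.2
    have hMc' : ∀ {w}, w ∈ TH z A L → w ∈ centralizer (M : Set G) := fun hw =>
      centralizer_le (SetLike.coe_subset_coe.2 inf_le_right) hw.2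
    have hWM : W ≤ centralizer (M : Set G) := sup_le (sup_le (sup_le
      (zpowers_le.2 (mem_centralizer_iff.2 fun w hw => P.z_comm (hK.1.1 hw.1)))
      (zpowers_le.2 (hMc hv))) (zpowers_le.2 (mul_mem (hMc q.mem) (hMc' q'.mem))))
      (zpowers_le.2 (mul_mem (hMc q.mem') (hMc' q'.mem')))
    have hzW : z ∈ W := mem_sup_left (mem_sup_left (mem_sup_left (mem_zpowers z)))
    have haM : a ∈ M := ⟨haK, haL⟩
    have htog : ∀ {w}, w ∈ TH z A K → Tog z a M w := fun hw =>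
      tog_of_mem inf_le_left haM (R1_le P hw.1) hw.2
    refine false_of_bound H.prime (j := 2) ?_ (toggles₃ H T hD
      ((inf_le_left : M ≤ K).trans hK.1.1) haM hWe hzW hWM (w₀ := v) (w₁ := w₁) (w₂ := w₂)
      (mem_sup_left (mem_sup_left (mem_sup_right (mem_zpowers _))))
      (mem_sup_left (mem_sup_right (mem_zpowers _))) (mem_sup_right (mem_zpowers _))
      (htog hv') (htog q.mem') (htog q.mem)
      (fun w hw => by
        have := conj_mem_of_le_R1 H P hWR hzW (inv_mem hv'.1) w hw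
        rwa [inv_inv] at this)
      (anti_of_comm H P ((commutator_symm H P hv.1 hv'.1).trans hvv')) c₁ c₂ hs'v
      ((Commute.refl s').mul_right (hKL _ q.mem' _ q'.mem')).eq hsv) (by norm_num)
    calc p ^ n = Nat.card K * p := (kernel_card H T hK.1).symm
      _ ≤ Nat.card M * p * p := Nat.mul_le_mul_right _ (card_le_inf_mul P hK.1.1 hL.1)
      _ = Nat.card M * p ^ 2 := by ring

theorem n_le_four : n ≤ 4 := by
  by_contra hn
  obtain ⟨K, L, hK, hL, haK, haL, hne⟩ := exists_two_live H T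
  have hp := H.prime
  have hbig : ∀ X : Subgroup G, ∀ j, j + 2 ≤ n → p ^ n ≤ Nat.card X * p ^ j →
      p < Nat.card X := fun X j hj h => by
    by_contra hle
    have h2 : p ^ n ≤ p ^ (j + 1) := h.trans (by
      rw [pow_succ, mul_comm (p ^ j)]; exact Nat.mul_le_mul_right _ (not_lt.1 hle))
    have := (Nat.pow_le_pow_iff_right hp.one_lt).1 h2
    omega
  have e₂ : p ^ n ≤ Nat.card ↥(K ⊓ L) * p ^ 2 := by
    calc p ^ n = Nat.card K * p := (kernel_card H T hK.1).symm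
      _ ≤ Nat.card ↥(K ⊓ L) * p * p := Nat.mul_le_mul_right _ (card_le_inf_mul T.pair hK.1.1 hL.1)
      _ = _ := by ring
  have hKLA : K ⊓ L ≤ A := (inf_le_left : K ⊓ L ≤ K).trans hK.1.1
  obtain ⟨M, hM, haM, hM'⟩ := exists_live_not_le H T hKLA (hbig _ 2 (by omega) e₂)
  have e₃ : p ^ n ≤ Nat.card ↥(K ⊓ L ⊓ M) * p ^ 3 := by
    calc p ^ n ≤ Nat.card ↥(K ⊓ L) * p ^ 2 := e₂
      _ ≤ Nat.card ↥(K ⊓ L ⊓ M) * p * p ^ 2 :=
        Nat.mul_le_mul_right _ (card_le_inf_mul T.pair hKLA hM.1)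
      _ = _ := by ring
  obtain ⟨N, hN, haN, hN'⟩ := exists_live_not_le H T
    ((inf_le_left : K ⊓ L ⊓ M ≤ K ⊓ L).trans hKLA) (hbig _ 3 (by omega) e₃)
  exact no_four H T hD hK hL hM hN haK haL haM haN hne
    (fun e => hM' (e ▸ inf_le_left)) (fun e => hN' (e ▸ inf_le_left.trans inf_le_left))
    (fun e => hM' (e ▸ inf_le_right)) (fun e => hN' (e ▸ inf_le_left.trans inf_le_right))
    (fun e => hN' (e ▸ inf_le_right))

theorem p_eq_three : p = 3 := by
  obtain ⟨K, L, hK, hL, haK, haL, hne⟩ := exists_two_live H T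
  have P := T.pair
  have hzz := zz H P
  obtain ⟨s, c, hc, q⟩ := exists_qpair H P hK
  set s' := c * s * c⁻¹ with hs'
  have hsm := small_through H T hD hK hL haK haL hne q
  have hcz : c * z = z * c := P.z_comm hc
  have hcp := P.elem.2 c hc
  have hsR : s * z = z * s := P.cR_comm (R1_le P q.mem.1)
  have hns : ¬ Commute c s := fun h => q.not_cls H P (Or.inl (conj_eq_iff.2 h.eq))
  -- an even power fixing a class fixes the element
  have sqfix : ∀ g : G, g * z = z * g → Cls z s (g * s * g⁻¹) → Commute (g * g) s := by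
    intro g hg h
    show g * g * s = s * (g * g)
    rw [← conj_eq_iff]
    rcases h with h | h
    · calc g * g * s * (g * g)⁻¹ = g * (g * s * g⁻¹) * g⁻¹ := by group
        _ = s := by rw [h, h]
    · calc g * g * s * (g * g)⁻¹ = g * (g * s * g⁻¹) * g⁻¹ := by group
        _ = g * (z * s) * g⁻¹ := by rw [h]
        _ = (g * z * g⁻¹) * (g * s * g⁻¹) := by group
        _ = s := by rw [conj_eq_iff.2 hg, h, ← mul_assoc, hzz, one_mul]
  rcases hsm (c * s' * c⁻¹) (conj_mem_of_mem_normalizer (le_normalizer_TH H P hK.1.1 hc) q.mem')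
    with h | h | h | h
  · exfalso
    have h1 := h.conj (show c⁻¹ * z = z * c⁻¹ from ((show Commute c z from hcz).inv_left).eq)
    have h2 : Cls z 1 s' := by
      simpa [mul_assoc] using h1
    refine P.z_ne_one (q.comm.symm.trans (commutatorElement_eq_one_iff_mul_comm.2 ?_))
    rcases h2 with e | e <;> rw [e]
    · simp
    · simpa using hsR
  · exfalso
    refine hns (commute_of_pow_coprime hcp (m := 4) ?_ ?_)
    · have h1 := sqfix (c * c) ((show Commute c z from hcz).mul_left hcz).eq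
        (by rw [hs'] at h; simpa [mul_assoc] using h)
      convert h1 using 1
      rw [show (4 : ℕ) = 2 * 2 from rfl, pow_mul, pow_two, pow_two]
    · exact ((Nat.coprime_primes Nat.prime_two H.prime).2 fun e => H.ne_two e.symm).pow_left 2
  · exfalso
    have h1 := h.conj (show c⁻¹ * z = z * c⁻¹ from ((show Commute c z from hcz).inv_left).eq)
    have h2 : Cls z s s' := by
      rw [hs'] at h1
      simpa [mul_assoc, hs'] using h1
    exact q.not_cls H P h2
  · by_contra h3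
    refine hns (commute_of_pow_coprime hcp (m := 6) ?_ ?_)
    · -- `c³ s` is in the class of `s`
      have e1 : Cls z (c * (s * s') * c⁻¹) (c * (c * s' * c⁻¹) * c⁻¹) := h.conj hcz
      have e2 : Cls z (s' * (s * s')) (c * (s * s') * c⁻¹) := by
        rw [show c * (s * s') * c⁻¹ = s' * (c * s' * c⁻¹) by rw [hs']; group]
        rcases h with e | e
        · exact Or.inl (by rw [e])
        · exact Or.inr (by
            rw [e, ← mul_assoc, P.cR_comm (R1_le P q.mem'.1), mul_assoc])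
      have e3 : s' * (s * s') = s := by
        have ha : Anti z s' s := anti_of_comm H P (q.symm H P).comm
        calc s' * (s * s') = (s' * s * s'⁻¹) * s' ^ 2 := by group
          _ = (z * s) * z := by rw [ha, q.sq']
          _ = s := by rw [mul_assoc, hsR, ← mul_assoc, hzz, one_mul]
      rw [e3] at e2
      have e4 : Cls z s ((c * c * c) * s * (c * c * c)⁻¹) := by
        convert e2.trans hzz e1 using 1
        rw [hs']; group
      have h1 := sqfix (c * c * c)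
        (((show Commute c z from hcz).mul_left hcz).mul_left hcz).eq e4
      convert h1 using 1
      simp [pow_succ, mul_assoc]
    · rw [show (6 : ℕ) = 2 * 3 from rfl]
      exact Nat.Coprime.mul_left ((Nat.coprime_primes Nat.prime_two H.prime).2
        fun e => H.ne_two e.symm) ((Nat.coprime_primes Nat.prime_three H.prime).2 fun e => h3 e.symm)

end

end CfsgLib.KlingerMason
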