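import Cfsg.Agent.Lib.KlingerMason.Pairs
import Cfsg.Agent.Lib.PGroups.TrivialOnCharAbelian

/-!
The theorem of Klinger and Mason: `[O_2(C(z)), A]` is of symplectic type and is the central
product of the centralisers of the hyperplanes of `A`.
-/

set_option autoImplicit false
set_option linter.style.haveILetI false
set_option linter.unusedSectionVars false

namespace CfsgLib.KlingerMason

open Cfsg Subgroup
open scoped commutatorElement

variable {G : Type*} [Group G] [Finite G] {p n : ℕ}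

/-- `[O_2(C(z)), A]`. -/
def R1 (z : G) (A : Subgroup G) : Subgroup G := ⁅cR z, A⁆

/-- The part centralised by `K`. -/
def TH (z : G) (A K : Subgroup G) : Subgroup G := R1 z A ⊓ centralizer (K : Set G)

/-- A hyperplane of `A`. -/
def Kernel (p : ℕ) (A K : Subgroup G) : Prop := K ≤ A ∧ Nat.card K * p = Nat.card A

/-- A hyperplane with a centraliser larger than `⟨z⟩`. -/
def Live (p : ℕ) (z : G) (A K : Subgroup G) : Prop :=
  Kernel p A K ∧ ¬ TH z A K ≤ zpowers z

/-- The products of the orbit of `y` under `h`. -/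
def orbitProd (h y : G) : ℕ → G
  | 0 => 1
  | i + 1 => y * (h * orbitProd h y i * h⁻¹)

theorem orbitProd_succ (h y : G) : ∀ i : ℕ,
    orbitProd h y (i + 1) = orbitProd h y i * (h ^ i * y * (h ^ i)⁻¹)
  | 0 => by simp [orbitProd]
  | i + 1 => by
    conv_lhs => rw [orbitProd, orbitProd_succ h y i]
    conv_rhs => rw [orbitProd, pow_succ']
    group

variable {z : G} {A : Subgroup G}

theorem IsPair.mem_zpowers (P : IsPair p n z A) {x : G} (hx : x ∈ zpowers z) :
    x = 1 ∨ x = z := by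
  obtain ⟨i, rfl⟩ := Subgroup.mem_zpowers_iff.1 hx
  have h2 : z ^ (2 : ℤ) = 1 := by exact_mod_cast P.z_sq
  rcases Int.even_or_odd i with ⟨j, rfl⟩ | ⟨j, rfl⟩
  · left; rw [← two_mul, zpow_mul, h2, one_zpow]
  · right; rw [zpow_add_one, zpow_mul, h2, one_zpow, one_mul]

theorem IsPair.sq_eq_one (P : IsPair p n z A) {x : G} (hx : x ∈ zpowers z) : x ^ 2 = 1 := by
  rcases P.mem_zpowers hx with rfl | rfl
  · exact one_pow 2
  · exact P.z_sq

theorem R1_le (P : IsPair p n z A) : R1 z A ≤ cR z :=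
  Coprime.commutator_le_of_le_normalizer P.le_normalizer_cR

theorem le_normalizer_R1 : A ≤ normalizer (R1 z A : Set G) :=
  normalizer_commutator_ge_right _ _

/-- `O_2(C(z)) = [O_2(C(z)), A] C(A)`. -/
theorem decomp (H : Hyp p n G) (P : IsPair p n z A) {r : G} (hr : r ∈ cR z) :
    ∃ c ∈ cR z ⊓ centralizer (A : Set G), r * c⁻¹ ∈ R1 z A :=
  Coprime.exists_commutator_mul_centralizer P.le_normalizer_cR
    (coprime_two_group H.prime H.ne_two P.elem.isPGroup (isPGroup_cR z))
    (Or.inl (Group.isSolvable_of_comm fun x y => Subtype.ext (P.elem.1 x x.2 y y.2))) hr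

/-- An element of `A` centralising `[O_2(C(z)), A]` is trivial. -/
theorem eq_one_of_centralizes_R1 (H : Hyp p n G) (P : IsPair p n z A) {h : G} (hh : h ∈ A)
    (hc : h ∈ centralizer (R1 z A : Set G)) : h = 1 := by
  refine eq_one_of_centralizes_cR H P.order_z (P.le hh) (P.elem.2 h hh)
    (mem_centralizer_iff.2 fun r hr => ?_)
  obtain ⟨c, hcA, hrc⟩ := decomp H P hr
  have h1 : Commute (r * c⁻¹) h := mem_centralizer_iff.1 hc _ hrc
  have h2 : Commute c h := (mem_centralizer_iff.1 hcA.2 h hh).symm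
  simpa using (h1.mul_left h2).eq

/-- The structure of `[O_2(C(z)), A]`. -/
theorem sympl_core (H : Hyp p n G) (P : IsPair p n z A) :
    (∀ x ∈ R1 z A, ∀ y ∈ R1 z A, ⁅x, y⁆ ∈ zpowers z) ∧
      (∀ x ∈ R1 z A, x ^ 2 ∈ zpowers z) ∧
      (∀ x ∈ R1 z A, x ∈ centralizer (A : Set G) → x ∈ zpowers z) ∧
      (∀ x ∈ R1 z A, (∀ y ∈ R1 z A, x * y = y * x) → x ∈ zpowers z) ∧ z ∈ R1 z A := by
  haveI := Fact.mk Nat.prime_two
  haveI := Fact.mk H.prime
  set S := R1 z A with hS
  have hS2 : IsPGroup 2 S := (isPGroup_cR z).to_le (R1_le P)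
  let φ : A →* MulAut S := S.normalizerMonoidHom.comp (inclusion le_normalizer_R1)
  have hφ : ∀ (a : A) (x : S), ((φ a x : S) : G) = (a : G) * x * (a : G)⁻¹ := fun _ _ => rfl
  have hcop : (Nat.card φ.range).Coprime 2 := by
    refine Nat.Coprime.coprime_dvd_left (Subgroup.card_range_dvd φ) ?_
    rw [P.card]
    exact ((Nat.coprime_primes H.prime Nat.prime_two).2 H.ne_two).pow_left n
  have hgen : Subgroup.closure {x : S | ∃ g : S, ∃ a ∈ φ.range, x = g⁻¹ * a g} = ⊤ := by
    apply Subgroup.map_injective S.subtype_injective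
    rw [MonoidHom.map_closure, ← MonoidHom.range_eq_map, range_subtype]
    have he : ⁅S, A⁆ = S := Coprime.commutator_commutator_eq P.le_normalizer_cR
      (coprime_two_group H.prime H.ne_two P.elem.isPGroup (isPGroup_cR z))
      (Or.inl (Group.isSolvable_of_comm fun x y => Subtype.ext (P.elem.1 x x.2 y y.2)))
    conv_rhs => rw [← he, Subgroup.commutator_def]
    congr 1
    ext x
    constructor
    · rintro ⟨_, ⟨g, _, ⟨a, rfl⟩, rfl⟩, rfl⟩
      refine ⟨(g⁻¹ : S), SetLike.coe_mem _, a, a.2, ?_⟩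
      simp [commutatorElement_def, hφ, mul_assoc]
    · rintro ⟨g, hg, a, ha, rfl⟩
      exact ⟨_, ⟨⟨g, hg⟩⁻¹, φ ⟨a, ha⟩, ⟨_, rfl⟩, rfl⟩,
        by simp [commutatorElement_def, hφ, mul_assoc]⟩
  have hchar : ∀ K : Subgroup S, K.Characteristic → IsMulCommutative K →
      ∀ a ∈ φ.range, ∀ k ∈ K, a k = k := by
    rintro K hK hKc _ ⟨a, rfl⟩ k hk
    haveI := hK
    have h1 := centralizes_abelian H P (K := K.map S.subtype) (by
        rintro _ ⟨x, hx, rfl⟩ _ ⟨y, hy, rfl⟩
        exact congrArg (fun t : K => ((t : S) : G)) (hKc.is_comm.comm ⟨x, hx⟩ ⟨y, hy⟩))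
      ((map_subtype_le K).trans (R1_le P))
      (le_normalizer_R1.trans (Base.normalizer_le_normalizer_map_subtype S K))
    exact Subtype.ext (by
      rw [hφ]; exact conj_eq_iff.2 (mem_centralizer_iff.1 (h1 ⟨k, hk, rfl⟩) a a.2))
  obtain ⟨⟨-, hfr, hco⟩, hzc⟩ := PGroups.TrivialOnCharAbelian.isSpecial φ.range hS2 hcop hgen hchar
  have hsqc : ∀ x : S, x ^ 2 ∈ center S := fun x => hfr ▸ PGroups.pow_mem_frattini hS2 x
  -- the centre
  have hcen : ∀ x : S, x ∈ center S → ((x : S) : G) ∈ zpowers z := by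
    intro x hx
    have hx2 : x ^ 2 = 1 := by
      rw [← hco, commutator_eq_closure] at hx
      induction hx using closure_induction with
      | mem u hu =>
        obtain ⟨v, w, rfl⟩ := hu
        have hc : ∀ g : S, ⁅v, w⁆ * g = g * ⁅v, w⁆ := fun g =>
          (mem_center_iff.1 (hco ▸ commutator_mem_commutator (mem_top v) (mem_top w)) g).symm
        have h1 : ⁅v ^ 2, w⁆ = ⁅v, w⁆ ^ 2 := by
          rw [pow_two, pow_two, commutatorElement_def (v * v)]
          calc v * v * w * (v * v)⁻¹ * w⁻¹ = v * ⁅v, w⁆ * v⁻¹ * ⁅v, w⁆ := by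
                rw [commutatorElement_def]; group
            _ = ⁅v, w⁆ * ⁅v, w⁆ := by rw [← hc v, mul_inv_cancel_right]
        rw [← h1, commutatorElement_eq_one_iff_mul_comm]
        exact (mem_center_iff.1 (hsqc v) w).symm
      | one => exact one_pow 2
      | mul u v hu hv ihu ihv =>
        have : Commute u v := by
          have : u ∈ center S := by rw [← hco, commutator_eq_closure]; exact hu
          exact (mem_center_iff.1 this v).symm
        rw [this.mul_pow, ihu, ihv, one_mul]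
      | inv u _ ih => rw [inv_pow, ih, inv_one]
    by_cases h1 : x = 1
    · simp [h1]
    · have hA : (x : G) ∈ centralizer (A : Set G) := mem_centralizer_iff.2 fun a ha =>
        conj_eq_iff.1 (congrArg Subtype.val ((hzc x).1 hx _ ⟨⟨a, ha⟩, rfl⟩))
      rw [eq_z_of_sq H P hA (P.cR_comm (R1_le P x.2)) (congrArg Subtype.val hx2)
        fun h => h1 (Subtype.ext h)]
      exact mem_zpowers z
  refine ⟨fun x hx y hy => ?_, fun x hx => ?_, fun x hx hxA => ?_, fun x hx hxc => ?_, ?_⟩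
  · exact hcen ⁅(⟨x, hx⟩ : S), ⟨y, hy⟩⁆
      (hco ▸ commutator_mem_commutator (mem_top _) (mem_top _))
  · exact hcen (⟨x, hx⟩ ^ 2) (hsqc _)
  · refine hcen ⟨x, hx⟩ ((hzc _).2 ?_)
    rintro _ ⟨a, rfl⟩
    exact Subtype.ext (by rw [hφ]; exact conj_eq_iff.2 (mem_centralizer_iff.1 hxA a a.2))
  · exact hcen ⟨x, hx⟩ (mem_center_iff.2 fun y => Subtype.ext (hxc y y.2).symm)
  · -- `S` is nontrivial, so its centre is `⟨z⟩`
    haveI : Nontrivial S := by
      refine nontrivial_iff_ne_bot S |>.2 fun h => ?_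
      obtain ⟨a, ha, ha1⟩ := (bot_or_exists_ne_one A).resolve_left fun hA => by
        have h2 := P.card
        rw [hA, card_bot] at h2
        exact absurd h2.symm (Nat.one_lt_pow (by have := H.three_le; omega) H.prime.one_lt).ne'
      exact ha1 (eq_one_of_centralizes_R1 H P ha (mem_centralizer_iff.2 fun x hx => by
        rw [hS] at h
        rw [h, SetLike.mem_coe, mem_bot] at hx
        simp [hx]))
    haveI := hS2.center_nontrivial
    obtain ⟨⟨x, hx⟩, hx1⟩ := exists_ne (1 : center S)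
    rcases P.mem_zpowers (hcen x hx) with h | h
    · exact absurd (Subtype.ext (Subtype.ext h)) hx1
    · exact h ▸ x.2

section

variable (H : Hyp p n G) (P : IsPair p n z A)
include H P

theorem z_mem_R1 : z ∈ R1 z A := (sympl_core H P).2.2.2.2

theorem commutator_cases {x y : G} (hx : x ∈ R1 z A) (hy : y ∈ R1 z A) :
    ⁅x, y⁆ = 1 ∨ ⁅x, y⁆ = z :=
  P.mem_zpowers ((sympl_core H P).1 x hx y hy)

theorem commutator_comm_R1 {x y r : G} (hx : x ∈ R1 z A) (hy : y ∈ R1 z A) (hr : r ∈ cR z) :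
    ⁅x, y⁆ * r = r * ⁅x, y⁆ := by
  rcases commutator_cases H P hx hy with h | h <;> rw [h]
  · simp
  · exact (P.cR_comm hr).symm

theorem commutator_mul_left {x y w : G} (hx : x ∈ R1 z A) (hy : y ∈ R1 z A) (hw : w ∈ R1 z A) :
    ⁅x * y, w⁆ = ⁅x, w⁆ * ⁅y, w⁆ := by
  have h1 : ⁅x * y, w⁆ = x * ⁅y, w⁆ * x⁻¹ * ⁅x, w⁆ := by
    simp only [commutatorElement_def]; group
  rw [h1, ← commutator_comm_R1 H P hy hw (R1_le P hx), mul_inv_cancel_right]
  exact commutator_comm_R1 H P hy hw (R1_le P (mul_mem (mul_mem (mul_mem hx hw) (inv_mem hx))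
    (inv_mem hw)))

theorem commutator_symm {x y : G} (hx : x ∈ R1 z A) (hy : y ∈ R1 z A) : ⁅y, x⁆ = ⁅x, y⁆ := by
  rw [← commutatorElement_inv]
  rcases commutator_cases H P hx hy with h | h <;> rw [h]
  · exact inv_one
  · exact P.z_inv

theorem commutator_mul_right {x y w : G} (hx : x ∈ R1 z A) (hy : y ∈ R1 z A) (hw : w ∈ R1 z A) :
    ⁅w, x * y⁆ = ⁅w, x⁆ * ⁅w, y⁆ := by
  rw [commutator_symm H P (mul_mem hx hy) hw, commutator_mul_left H P hx hy hw,
    commutator_symm H P hw hx, commutator_symm H P hw hy]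

/-- `x` fixed by `h` commutes with an `h`-invariant `T` on which `h` fixes only `⟨z⟩`. -/
theorem commute_of_shift {T : Subgroup G} (hT : T ≤ R1 z A) {h x y : G} (hh : h ∈ A)
    (hhT : h ∈ normalizer (T : Set G))
    (hfix : ∀ u ∈ T, h * u * h⁻¹ = u → u ∈ zpowers z)
    (hx : x ∈ R1 z A) (hhx : h * x * h⁻¹ = x) (hy : y ∈ T) : x * y = y * x := by
  have hmem : ∀ i, orbitProd h y i ∈ T := by
    intro i
    induction i with
    | zero => exact one_mem T
    | succ i ih => exact mul_mem hy (conj_mem_of_mem_normalizer hhT ih)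
  set P₀ := orbitProd h y p with hP₀
  have hcomm : ∀ i, ⁅x, orbitProd h y i⁆ = ⁅x, y⁆ ^ i := by
    intro i
    induction i with
    | zero => simp [orbitProd]
    | succ i ih =>
      have hi := hT (hmem i)
      have h1 : ⁅x, h * orbitProd h y i * h⁻¹⁆ = ⁅x, orbitProd h y i⁆ := by
        nth_rw 1 [← hhx]
        rw [← conj_commutator]
        rcases commutator_cases H P hx hi with e | e <;> rw [e]
        · simp
        · rw [P.z_comm hh, mul_inv_cancel_right]
      rw [orbitProd, commutator_mul_right H P (hT hy)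
        (hT (conj_mem_of_mem_normalizer hhT (hmem i))) hx, h1, ih, pow_succ']
  have hP : h * P₀ * h⁻¹ = y⁻¹ * P₀ * y := by
    have h1 := orbitProd_succ h y p
    rw [orbitProd, P.elem.2 h hh, one_mul, inv_one, mul_one] at h1
    rw [mul_assoc y⁻¹, hP₀, ← h1, inv_mul_cancel_left]
  set ζ := ⁅y⁻¹, P₀⁆ with hζ
  have hP0T : P₀ ∈ T := hmem p
  have hζP : h * P₀ * h⁻¹ = ζ * P₀ := by
    rw [hP, hζ, commutatorElement_def]; group
  have hζc := commutator_cases H P (inv_mem (hT hy)) (hT hP0T)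
  have hhζ : h * ζ * h⁻¹ = ζ := by
    rcases hζc with e | e <;> rw [hζ, e]
    · simp
    · rw [P.z_comm hh, mul_inv_cancel_right]
  have hpow : ∀ i : ℕ, h ^ i * P₀ * (h ^ i)⁻¹ = ζ ^ i * P₀ := by
    intro i
    induction i with
    | zero => simp
    | succ i ih =>
      calc h ^ (i + 1) * P₀ * (h ^ (i + 1))⁻¹ = h * (h ^ i * P₀ * (h ^ i)⁻¹) * h⁻¹ := by
            rw [pow_succ']; group
        _ = (h * ζ * h⁻¹) ^ i * (h * P₀ * h⁻¹) := by rw [ih, conj_pow]; group
        _ = ζ ^ (i + 1) * P₀ := by rw [hhζ, hζP, pow_succ, mul_assoc]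
  have hζ1 : ζ = 1 := by
    have h1 := hpow p
    rw [P.elem.2 h hh, one_mul, inv_one, mul_one] at h1
    refine eq_one_of_pow_eq_one_of_coprime (mul_eq_right.mp h1.symm) (m := p) (k := 2) ?_
      ((Nat.coprime_primes H.prime Nat.prime_two).2 H.ne_two)
    rcases hζc with e | e <;> rw [hζ, e]
    · exact one_pow 2
    · exact P.z_sq
  have hPz := hfix P₀ hP0T (by rw [hζP, hζ1, one_mul])
  have h1 := hcomm p
  have h0 : ⁅x, P₀⁆ = 1 := commutatorElement_eq_one_iff_mul_comm.2 (by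
    rcases P.mem_zpowers hPz with e | e <;> rw [e]
    · simp
    · exact P.cR_comm (R1_le P hx))
  rw [← hP₀, h0] at h1
  rw [← commutatorElement_eq_one_iff_mul_comm]
  refine eq_one_of_pow_eq_one_of_coprime h1.symm (k := 2) ?_
    ((Nat.coprime_primes H.prime Nat.prime_two).2 H.ne_two)
  rcases commutator_cases H P hx (hT hy) with e | e <;> rw [e]
  · exact one_pow 2
  · exact P.z_sq

theorem z_mem_TH {K : Subgroup G} (hK : K ≤ A) : z ∈ TH z A K :=
  ⟨z_mem_R1 H P, mem_centralizer_iff.2 fun _ hx => P.z_comm (hK hx)⟩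

theorem le_normalizer_TH {K : Subgroup G} (hK : K ≤ A) :
    A ≤ normalizer (TH z A K : Set G) :=
  Coprime.le_normalizer_inf_inf le_normalizer_R1 (Coprime.le_normalizer_centralizer
    (le_normalizer_of_commute fun x hx y hy => P.elem.1 x hx y (hK hy)))

theorem sup_zpowers_eq {K : Subgroup G} (hK : Kernel p A K) {h : G} (hh : h ∈ A) (hhK : h ∉ K) :
    K ⊔ zpowers h = A := by
  refine eq_of_le_of_card_ge (sup_le hK.1 (zpowers_le.2 hh)) ?_
  have hlt : Nat.card K < Nat.card ↥(K ⊔ zpowers h) := lt_of_not_ge fun hge =>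
    hhK ((eq_of_le_of_card_ge le_sup_left hge).ge (mem_sup_right (mem_zpowers h)))
  haveI := Fact.mk H.prime
  obtain ⟨i, hi⟩ := IsPGroup.iff_card.1 (P.elem.mono hK.1).isPGroup
  obtain ⟨j, hj⟩ := IsPGroup.iff_card.1 (P.elem.mono (sup_le hK.1 (zpowers_le.2 hh))).isPGroup
  rw [hi, hj] at hlt
  rw [← hK.2, hi, hj, ← pow_succ]
  exact Nat.pow_le_pow_right H.prime.pos ((Nat.pow_lt_pow_iff_right H.prime.one_lt).1 hlt)

theorem kernel_eq_of_le {K L : Subgroup G} (hK : Kernel p A K) (hL : Kernel p A L) (h : K ≤ L) :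
    K = L :=
  eq_of_le_of_card_ge h (le_of_eq (Nat.eq_of_mul_eq_mul_right H.prime.pos (hL.2.trans hK.2.symm)))

/-- Distinct hyperplanes give commuting centralisers. -/
theorem TH_commute {K L : Subgroup G} (hK : Kernel p A K) (hL : Kernel p A L) (hne : K ≠ L) :
    ∀ x ∈ TH z A K, ∀ y ∈ TH z A L, x * y = y * x := by
  obtain ⟨h, hh, hhL⟩ := SetLike.not_le_iff_exists.1 fun hle =>
    hne (kernel_eq_of_le H P hK hL hle)
  intro x hx y hy
  refine commute_of_shift H P inf_le_left (hK.1 hh) (le_normalizer_TH H P hL.1 (hK.1 hh))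
    (fun u hu hfix => ?_) hx.1 (conj_eq_iff.2 (mem_centralizer_iff.1 hx.2 h hh)) hy
  refine (sympl_core H P).2.2.1 u hu.1 ?_
  rw [← sup_zpowers_eq H P hL (hK.1 hh) hhL]
  exact mem_centralizer_sup hu.2 hfix

/-- The centralisers of hyperplanes generate. -/
theorem R1_inf_le {X R : Subgroup G} (hX : A ≤ normalizer (X : Set G)) (hXR : X ≤ R1 z A)
    (hz : z ∈ R)
    (hR : ∀ K, Kernel p A K → X ⊓ centralizer (K : Set G) ≤ R) : X ≤ R := by
  haveI := Fact.mk H.prime
  haveI := P.elem.isMulCommutative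
  refine Coprime.le_of_cyclic_quotient hX (coprime_two_group H.prime H.ne_two P.elem.isPGroup
    ((isPGroup_cR z).to_le (hXR.trans (R1_le P)))) fun B hB ⟨a, ha, hBa⟩ => ?_
  by_cases hBA : B = A
  · intro x hx
    exact zpowers_le.2 hz ((sympl_core H P).2.2.1 x (hXR hx.1) (hBA ▸ hx.2))
  · exact hR B ⟨hB, card_mul_of_sup_zpowers H.prime P.elem hB ha hBa hBA⟩

/-- An element of `TH` commuting with all of it lies in `⟨z⟩`. -/
theorem TH_nondeg {K : Subgroup G} (hK : Kernel p A K) {x : G} (hx : x ∈ TH z A K)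
    (hc : ∀ y ∈ TH z A K, x * y = y * x) : x ∈ zpowers z := by
  refine (sympl_core H P).2.2.2.1 x hx.1 fun y hy => ?_
  refine (mem_centralizer_singleton.1 (R1_inf_le H P (X := R1 z A) (R := centralizer ({x} : Set G))
    le_normalizer_R1 le_rfl (mem_centralizer_singleton.2 (P.cR_comm (R1_le P hx.1)).symm)
    (fun L hL w hw => mem_centralizer_singleton.2 ?_) hy)).symm
  by_cases hKL : K = L
  · subst hKL; exact (hc w hw).symm
  · exact (TH_commute H P hK hL hKL x hx w hw).symm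

/-- An invariant nondegenerate part supplies an element of order 4 and a non-commuting
conjugate. -/
theorem exists_quaternion_pair_in {T : Subgroup G} (hT : T ≤ R1 z A) (hTz : ¬ T ≤ zpowers z)
    (hnd : ∀ x ∈ T, (∀ y ∈ T, x * y = y * x) → x ∈ zpowers z) :
    ∃ t ∈ T, ∃ c ∈ A, t ^ 2 = z ∧ ⁅t, c * t * c⁻¹⁆ = z := by
  obtain ⟨t, ht, ht2⟩ : ∃ t ∈ T, t ^ 2 = z := by
    by_contra hno
    have hsq : ∀ x ∈ T, x ^ 2 = 1 := fun x hx =>
      (P.mem_zpowers ((sympl_core H P).2.1 x (hT hx))).resolve_right fun h => hno ⟨x, hx, h⟩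
    refine hTz fun x hx => hnd x hx fun y hy => ?_
    have e : ∀ v ∈ T, v⁻¹ = v := fun v hv =>
      inv_eq_of_mul_eq_one_left (by rw [← pow_two]; exact hsq v hv)
    calc x * y = (x * y)⁻¹ := (e _ (mul_mem hx hy)).symm
      _ = y * x := by rw [mul_inv_rev, e x hx, e y hy]
  refine ⟨t, ht, ?_⟩
  by_contra hno
  simp only [not_exists, not_and] at hno
  have hcc : ∀ c ∈ A, Commute t (c * t * c⁻¹) := fun c hc =>
    commutatorElement_eq_one_iff_mul_comm.1 <| (commutator_cases H P (hT ht)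
      (conj_mem_of_mem_normalizer (le_normalizer_R1 hc) (hT ht))).resolve_right (hno c hc ht2)
  set S : Set G := {x | ∃ c ∈ A, x = c * t * c⁻¹} with hS
  have hcomm : S ⊆ centralizer S := by
    rintro _ ⟨b, hb, rfl⟩
    refine mem_centralizer_iff.2 ?_
    rintro _ ⟨c, hc, rfl⟩
    have h := Commute.map (hcc (c⁻¹ * b) (mul_mem (inv_mem hc) hb)) (MulAut.conj c)
    simp only [MulAut.conj_apply] at h
    have e : c * (c⁻¹ * b * t * (c⁻¹ * b)⁻¹) * c⁻¹ = b * t * b⁻¹ := by group
    rw [e] at h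
    exact h.eq
  have h1 := centralizes_abelian H P (K := Subgroup.closure S)
    (fun x hx y hy => (mem_centralizer_iff.1 ((closure_le _).2 (hcomm.trans
      (by rw [centralizer_closure])) hx) y hy).symm)
    ((closure_le _).2 (by
      rintro _ ⟨c, hc, rfl⟩
      exact R1_le P (conj_mem_of_mem_normalizer (le_normalizer_R1 hc) (hT ht))))
    (fun g hg => by
      rw [mem_normalizer_iff_map_conj_eq, MonoidHom.map_closure]
      congr 1
      ext x
      constructor
      · rintro ⟨_, ⟨c, hc, rfl⟩, rfl⟩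
        exact ⟨g * c, mul_mem hg hc, by simp [mul_assoc]⟩
      · rintro ⟨c, hc, rfl⟩
        exact ⟨_, ⟨g⁻¹ * c, mul_mem (inv_mem hg) hc, rfl⟩, by simp [mul_assoc]⟩)
    (subset_closure (show t ∈ S from ⟨1, one_mem A, by simp⟩))
  exact P.z_ne_one (ht2 ▸ P.sq_eq_one ((sympl_core H P).2.2.1 t (hT ht) h1))

/-- A live hyperplane supplies an element of order 4 and a non-commuting conjugate. -/
theorem exists_quaternion_pair {K : Subgroup G} (hK : Live p z A K) :
    ∃ t ∈ TH z A K, ∃ c ∈ A, t ^ 2 = z ∧ ⁅t, c * t * c⁻¹⁆ = z :=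
  exists_quaternion_pair_in H P inf_le_left hK.2 fun _ hx => TH_nondeg H P hK.1 hx

/-- An element of `A` lying in all live hyperplanes through `a` centralises `C_R(a)`. -/
theorem centralizes_of_live {a h : G} (ha : a ∈ A) (hh : h ∈ A)
    (hlive : ∀ K, Live p z A K → a ∈ K → h ∈ K) :
    cR z ⊓ centralizer ({a} : Set G) ≤ centralizer ({h} : Set G) := by
  have hzh : z ∈ centralizer ({h} : Set G) := mem_centralizer_singleton.2 (P.z_comm hh).symm
  have key : R1 z A ⊓ centralizer ({a} : Set G) ≤ centralizer ({h} : Set G) := by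
    refine R1_inf_le H P (Coprime.le_normalizer_inf_inf le_normalizer_R1
      (fun g hg => le_normalizer (mem_centralizer_singleton.2 (P.elem.1 g hg a ha))))
      inf_le_left hzh fun K hK x hx => ?_
    by_cases haK : a ∈ K
    · by_cases hl : Live p z A K
      · exact mem_centralizer_singleton.2 (mem_centralizer_iff.1 hx.2 h (hlive K hl haK)).symm
      · exact zpowers_le.2 hzh (not_not.1 (fun h' => hl ⟨hK, h'⟩) ⟨hx.1.1, hx.2⟩)
    · refine zpowers_le.2 hzh ((sympl_core H P).2.2.1 x hx.1.1 ?_)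
      rw [← sup_zpowers_eq H P hK ha haK]
      exact mem_centralizer_sup hx.2 (conj_eq_iff.2 (mem_centralizer_singleton.1 hx.1.2).symm)
  rintro r ⟨hr, hra⟩
  obtain ⟨c, hcA, hrc⟩ := decomp H P hr
  have hca : c ∈ centralizer ({a} : Set G) :=
    centralizer_le (Set.singleton_subset_iff.2 ha) hcA.2
  have h1 := key ⟨hrc, Subgroup.mul_mem _ hra (Subgroup.inv_mem _ hca)⟩
  have h2 : c ∈ centralizer ({h} : Set G) :=
    centralizer_le (Set.singleton_subset_iff.2 hh) hcA.2
  simpa using mul_mem h1 h2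

end

end CfsgLib.KlingerMason
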