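import Cfsg.Agent.Lib.KlingerMason.Weights

/-!
The theorem of Klinger and Mason: chains of doublings and the rank bounds they give.
-/

set_option autoImplicit false
set_option linter.style.haveILetI false
set_option linter.unusedSectionVars false

namespace CfsgLib.KlingerMason

open Cfsg Subgroup
open scoped commutatorElement

variable {G : Type*} [Group G] [Finite G] {p n : ℕ}

/-- `t` moves `x` to `z x`. -/
def Anti (z t x : G) : Prop := t * x * t⁻¹ = z * x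

/-- `t` commutes with `z`, `a` and `K`. -/
structure Tog (z a : G) (K : Subgroup G) (t : G) : Prop where
  tz : t * z = z * t
  ta : t * a = a * t
  tK : ∀ k ∈ K, k * t = t * k

namespace Anti

variable {z t t' x y : G}

theorem mul_right (h : Anti z t x) (h' : t * y = y * t) : Anti z t (x * y) := by
  show t * (x * y) * t⁻¹ = z * (x * y)
  calc t * (x * y) * t⁻¹ = (t * x * t⁻¹) * (t * y * t⁻¹) := by group
    _ = _ := by rw [h, conj_eq_iff.2 h', mul_assoc]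

theorem mul_left (h : t * x = x * t) (h' : Anti z t y) (hx : x * z = z * x) :
    Anti z t (x * y) := by
  show t * (x * y) * t⁻¹ = z * (x * y)
  calc t * (x * y) * t⁻¹ = (t * x * t⁻¹) * (t * y * t⁻¹) := by group
    _ = _ := by rw [h', conj_eq_iff.2 h, ← mul_assoc, hx, mul_assoc]

theorem commute_mul (hz : z * z = 1) (h : Anti z t x) (h' : Anti z t y) (hx : x * z = z * x) :
    t * (x * y) = (x * y) * t := by
  rw [← conj_eq_iff]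
  calc t * (x * y) * t⁻¹ = (t * x * t⁻¹) * (t * y * t⁻¹) := by group
    _ = z * (x * z) * y := by rw [h, h']; group
    _ = x * y := by rw [hx, ← mul_assoc z z, hz, one_mul]

theorem mul_commute (hz : z * z = 1) (h : Anti z t x) (h' : Anti z t' x) (ht : t * z = z * t) :
    (t * t') * x = x * (t * t') := by
  rw [← conj_eq_iff]
  calc t * t' * x * (t * t')⁻¹ = t * (t' * x * t'⁻¹) * t⁻¹ := by group
    _ = (t * z) * x * t⁻¹ := by rw [h']; group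
    _ = z * (t * x * t⁻¹) := by rw [ht]; group
    _ = x := by rw [h, ← mul_assoc, hz, one_mul]

theorem ne_one (h : Anti z t x) (hz : z ≠ 1) : x ≠ 1 := fun e => hz (by
  have h' : t * x * t⁻¹ = z * x := h
  simpa [e] using h'.symm)

end Anti

variable {z a : G} {A D K : Subgroup G}

theorem tog_of_mem {L : Subgroup G} {t : G} (hKL : K ≤ L) (haK : a ∈ K)
    (htR : t ∈ cR z) (ht : t ∈ centralizer (L : Set G)) : Tog z a K t :=
  ⟨mem_centralizer_singleton.1 (cR_le_centralizer z htR),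
    (mem_centralizer_iff.1 ht a (hKL haK)).symm,
    fun k hk => mem_centralizer_iff.1 ht k (hKL hk)⟩

theorem card_le_inf_mul (P : IsPair p n z A) {X L : Subgroup G} (hX : X ≤ A)
    (hL : Kernel p A L) : Nat.card X ≤ Nat.card ↥(X ⊓ L) * p := by
  have hc : ∀ x ∈ X, ∀ y ∈ L, x * y = y * x := fun x hx y hy =>
    P.elem.1 x (hX hx) y (hL.1 hy)
  have h1 := Coprime.card_sup_mul_card_inf (le_normalizer_of_commute hc)
  have h2 : Nat.card ↥(X ⊔ L) ≤ Nat.card L * p := by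
    rw [hL.2]; exact card_le_of_le (sup_le hX hL.1)
  have h3 : Nat.card X * Nat.card L ≤ Nat.card ↥(X ⊓ L) * p * Nat.card L :=
    calc Nat.card X * Nat.card L = Nat.card ↥(X ⊔ L) * Nat.card ↥(X ⊓ L) := h1.symm
      _ ≤ Nat.card L * p * Nat.card ↥(X ⊓ L) := Nat.mul_le_mul_right _ h2
      _ = _ := by ring
  exact Nat.le_of_mul_le_mul_right h3 Nat.card_pos

theorem false_of_bound (hp : p.Prime) {X : Subgroup G} {i j : ℕ} (h1 : p ^ n ≤ Nat.card X * p ^ j)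
    (h2 : Nat.card X * p ^ i ≤ p ^ n) (hij : j < i) : False := by
  have h3 : Nat.card X * p ^ j < Nat.card X * p ^ i :=
    Nat.mul_lt_mul_of_pos_left (Nat.pow_lt_pow_right hp.one_lt hij) Nat.card_pos
  omega

section

variable (H : Hyp p n G) (T : MaxTriple p n z a A) (hD : Good p z a D)
include H T hD

/-- An eigen block fixed by `w₀`. -/
theorem toggle_base (hKA : K ≤ A) (haK : a ∈ K) {W : Subgroup G} (hW : Elem 2 W) (hzW : z ∈ W)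
    (hWK : W ≤ centralizer (K : Set G)) {w₀ t₀ : G} (hw₀ : w₀ ∈ W) (ht₀ : Tog z a K t₀)
    (htW : ∀ v ∈ W, t₀⁻¹ * v * t₀ ∈ W) (hanti : Anti z t₀ w₀) :
    ∃ F, Block p z D K F ∧ Nat.card F = p ∧ Fix w₀ F ∧ ∀ v ∈ W, Scalar v F := by
  obtain ⟨F, hF, hFc, hFs⟩ := exists_base H T hD (T.pair.elem.mono hKA).isPGroup
    (hKA.trans T.le_centralizer_a) (hKA.trans T.pair.le) hW hzW
    (hWK.trans (centralizer_le (Set.singleton_subset_iff.2 haK))) hWK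
  obtain ⟨F', hF', hF'c, h1, h2⟩ := hF.fix_or_flip H T hD hw₀ hFs ht₀.tz ht₀.ta ht₀.tK htW hanti
  exact ⟨F', hF', hF'c.trans hFc, h1, h2⟩

/-- Two doublings. -/
theorem two_doubles {F : Subgroup G} (hF : Block p z D K F) {w₁ w₂ t₁ t₂ : G}
    (hw₁a : w₁ * a = a * w₁) (hw₂a : w₂ * a = a * w₂) (hs₁ : Scalar w₁ F) (hs₂ : Scalar w₂ F)
    (ht₁ : Tog z a K t₁) (ht₂ : Tog z a K t₂) (h₁ : Anti z t₁ w₁) (h₂ : Anti z t₂ w₂)
    (h₁₂ : t₁ * w₂ = w₂ * t₁) :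
    ∃ F', Block p z D K F' ∧
      Nat.card F' = Nat.card F * Nat.card F * (Nat.card F * Nat.card F) ∧
      ∀ v, t₁ * v = v * t₁ → t₂ * v = v * t₂ →
        (Fix v F → Fix v F') ∧ (Inv v F → Inv v F') := by
  obtain ⟨F₁, hF₁, hc₁, hk₁⟩ := hF.double H T hD ht₁.tz ht₁.ta ht₁.tK hw₁a hs₁ h₁
  obtain ⟨F₂, hF₂, hc₂, hk₂⟩ := hF₁.double H T hD ht₂.tz ht₂.ta ht₂.tK hw₂a
    (hs₂.imp (hk₁ _ h₁₂).1 (hk₁ _ h₁₂).2) h₂
  exact ⟨F₂, hF₂, by rw [hc₂, hc₁], fun v hv₁ hv₂ =>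
    ⟨fun h => (hk₂ v hv₂).1 ((hk₁ v hv₁).1 h), fun h => (hk₂ v hv₂).2 ((hk₁ v hv₁).2 h)⟩⟩

/-- Three toggles. -/
theorem toggles₃ (hKA : K ≤ A) (haK : a ∈ K) {W : Subgroup G} (hW : Elem 2 W) (hzW : z ∈ W)
    (hWK : W ≤ centralizer (K : Set G)) {w₀ w₁ w₂ t₀ t₁ t₂ : G}
    (hw₀ : w₀ ∈ W) (hw₁ : w₁ ∈ W) (hw₂ : w₂ ∈ W)
    (ht₀ : Tog z a K t₀) (ht₁ : Tog z a K t₁) (ht₂ : Tog z a K t₂)
    (htW : ∀ v ∈ W, t₀⁻¹ * v * t₀ ∈ W)
    (h₀ : Anti z t₀ w₀) (h₁ : Anti z t₁ w₁) (h₂ : Anti z t₂ w₂)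
    (h₁₀ : t₁ * w₀ = w₀ * t₁) (h₁₂ : t₁ * w₂ = w₂ * t₁) (h₂₀ : t₂ * w₀ = w₀ * t₂) :
    Nat.card K * p ^ 4 ≤ p ^ n := by
  obtain ⟨F, hF, hFc, hfix, hsc⟩ := toggle_base H T hD hKA haK hW hzW hWK hw₀ ht₀ htW h₀
  have hWa : ∀ v ∈ W, v * a = a * v := fun v hv =>
    (mem_centralizer_iff.1 (hWK hv) a haK).symm
  obtain ⟨F', hF', hc, hk⟩ := two_doubles H T hD hF (hWa _ hw₁) (hWa _ hw₂) (hsc _ hw₁)
    (hsc _ hw₂) ht₁ ht₂ h₁ h₂ h₁₂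
  have := hF'.bound H T hD (T.pair.elem.mono hKA) (hKA.trans T.pair.le) (hW.2 _ hw₀)
    (h₀.ne_one T.pair.z_ne_one)
    (fun k hk' => mem_centralizer_singleton.2 (mem_centralizer_iff.1 (hWK hw₀) k hk'))
    ((hk _ h₁₀ h₂₀).1 hfix)
  rw [hc, hFc] at this
  calc Nat.card K * p ^ 4 = Nat.card K * (p * p * (p * p)) := by ring
    _ ≤ _ := this

/-- Four toggles. -/
theorem toggles₄ (hKA : K ≤ A) (haK : a ∈ K) {W : Subgroup G} (hW : Elem 2 W) (hzW : z ∈ W)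
    (hWK : W ≤ centralizer (K : Set G)) {w₀ w₁ w₂ w₃ t₀ t₁ t₂ t₃ : G}
    (hw₀ : w₀ ∈ W) (hw₁ : w₁ ∈ W) (hw₂ : w₂ ∈ W) (hw₃ : w₃ ∈ W)
    (ht₀ : Tog z a K t₀) (ht₁ : Tog z a K t₁) (ht₂ : Tog z a K t₂) (ht₃ : Tog z a K t₃)
    (htW : ∀ v ∈ W, t₀⁻¹ * v * t₀ ∈ W)
    (h₀ : Anti z t₀ w₀) (h₁ : Anti z t₁ w₁) (h₂ : Anti z t₂ w₂) (h₃ : Anti z t₃ w₃)
    (h₁₀ : t₁ * w₀ = w₀ * t₁) (h₂₀ : t₂ * w₀ = w₀ * t₂) (h₃₀ : t₃ * w₀ = w₀ * t₃)
    (h₁₂ : t₁ * w₂ = w₂ * t₁) (h₁₃ : t₁ * w₃ = w₃ * t₁) (h₂₃ : t₂ * w₃ = w₃ * t₂) :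
    Nat.card K * p ^ 8 ≤ p ^ n := by
  obtain ⟨F, hF, hFc, hfix, hsc⟩ := toggle_base H T hD hKA haK hW hzW hWK hw₀ ht₀ htW h₀
  have hWa : ∀ v ∈ W, v * a = a * v := fun v hv =>
    (mem_centralizer_iff.1 (hWK hv) a haK).symm
  obtain ⟨F', hF', hc, hk⟩ := two_doubles H T hD hF (hWa _ hw₁) (hWa _ hw₂) (hsc _ hw₁)
    (hsc _ hw₂) ht₁ ht₂ h₁ h₂ h₁₂
  obtain ⟨F'', hF'', hc', hk'⟩ := hF'.double H T hD ht₃.tz ht₃.ta ht₃.tK (hWa _ hw₃)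
    ((hsc _ hw₃).imp (hk _ h₁₃ h₂₃).1 (hk _ h₁₃ h₂₃).2) h₃
  have := hF''.bound H T hD (T.pair.elem.mono hKA) (hKA.trans T.pair.le) (hW.2 _ hw₀)
    (h₀.ne_one T.pair.z_ne_one)
    (fun k hk'' => mem_centralizer_singleton.2 (mem_centralizer_iff.1 (hWK hw₀) k hk''))
    ((hk' _ h₃₀).1 ((hk _ h₁₀ h₂₀).1 hfix))
  rw [hc', hc, hFc] at this
  calc Nat.card K * p ^ 8 = Nat.card K * (p * p * (p * p) * (p * p * (p * p))) := by ring
    _ ≤ _ := this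

end

end CfsgLib.KlingerMason
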