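import Cfsg.Agent.Lib.KlingerMason.Good

/-!
The theorem of Klinger and Mason: blocks of eigen-elements in `D`, and doubling them by elements
which anticommute with one member of an elementary 2-group.
-/

set_option autoImplicit false
set_option linter.style.haveILetI false
set_option linter.unusedSectionVars false

namespace CfsgLib.KlingerMason

open Cfsg Subgroup
open scoped commutatorElement

variable {G : Type*} [Group G] [Finite G] {p n : ℕ}

/-- An elementary subgroup of `D`, inverted by `z` and centralised by `K`. -/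
structure Block (p : ℕ) (z : G) (D K F : Subgroup G) : Prop where
  elem : Elem p F
  le : F ≤ D
  inv : ∀ x ∈ F, z * x * z⁻¹ = x⁻¹
  comm : ∀ k ∈ K, ∀ x ∈ F, k * x = x * k

/-- `w` centralises `F`. -/
def Fix (w : G) (F : Subgroup G) : Prop := ∀ x ∈ F, w * x * w⁻¹ = x

/-- `w` inverts `F`. -/
def Inv (w : G) (F : Subgroup G) : Prop := ∀ x ∈ F, w * x * w⁻¹ = x⁻¹

/-- `w` is a scalar on `F`. -/
def Scalar (w : G) (F : Subgroup G) : Prop := Fix w F ∨ Inv w F

theorem Fix.le_centralizer {w : G} {F : Subgroup G} (h : Fix w F) :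
    F ≤ centralizer ({w} : Set G) :=
  fun x hx => mem_centralizer_singleton.2 (conj_eq_iff.1 (h x hx)).symm

theorem Fix.sup {w : G} {E F : Subgroup G} (hE : Fix w E) (hF : Fix w F) : Fix w (E ⊔ F) :=
  fun _ hx => conj_eq_iff.2
    (mem_centralizer_singleton.1 (fix_sup hE.le_centralizer hF.le_centralizer hx)).symm

theorem Inv.sup {q : ℕ} {w : G} {E F : Subgroup G} (hEF : Elem q (E ⊔ F)) (hE : Inv w E)
    (hF : Inv w F) : Inv w (E ⊔ F) := by
  intro x hx
  have hc : ∀ u ∈ E, ∀ v ∈ F, u * v = v * u := fun u hu v hv =>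
    hEF.1 u (mem_sup_left hu) v (mem_sup_right hv)
  obtain ⟨u, hu, v, hv, rfl⟩ := (mem_sup_of_commute hc).1 hx
  calc w * (u * v) * w⁻¹ = (w * u * w⁻¹) * (w * v * w⁻¹) := by group
    _ = (v * u)⁻¹ := by rw [hE u hu, hF v hv, mul_inv_rev]
    _ = (u * v)⁻¹ := by rw [hc u hu v hv]

theorem fix_zpowers_iff {w u : G} : Fix w (zpowers u) ↔ w * u * w⁻¹ = u :=
  ⟨fun h => h u (mem_zpowers u), fun h x hx =>
    conj_eq_iff.2 (mem_centralizer_singleton.1 (fix_zpowers h hx)).symm⟩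

theorem inv_zpowers_iff {w u : G} : Inv w (zpowers u) ↔ w * u * w⁻¹ = u⁻¹ :=
  ⟨fun h => h u (mem_zpowers u), inv_zpowers⟩

/-- Image of `F` under conjugation by `t`. -/
def conjG (t : G) (F : Subgroup G) : Subgroup G := F.map (MulAut.conj t).toMonoidHom

theorem mem_conjG {t x : G} {F : Subgroup G} : x ∈ conjG t F ↔ ∃ f ∈ F, t * f * t⁻¹ = x := by
  simp [conjG]

theorem card_conjG (t : G) (F : Subgroup G) : Nat.card (conjG t F) = Nat.card F :=
  (Nat.card_congr (F.equivMapOfInjective _ (MulAut.conj t).injective).toEquiv).symm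

theorem fix_conjG {t v : G} {F : Subgroup G} (h : Fix (t⁻¹ * v * t) F) : Fix v (conjG t F) := by
  intro x hx
  obtain ⟨f, hf, rfl⟩ := mem_conjG.1 hx
  calc v * (t * f * t⁻¹) * v⁻¹ = t * ((t⁻¹ * v * t) * f * (t⁻¹ * v * t)⁻¹) * t⁻¹ := by group
    _ = _ := by rw [h f hf]

theorem inv_conjG {t v : G} {F : Subgroup G} (h : Inv (t⁻¹ * v * t) F) : Inv v (conjG t F) := by
  intro x hx
  obtain ⟨f, hf, rfl⟩ := mem_conjG.1 hx
  calc v * (t * f * t⁻¹) * v⁻¹ = t * ((t⁻¹ * v * t) * f * (t⁻¹ * v * t)⁻¹) * t⁻¹ := by group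
    _ = _ := by rw [h f hf]; group

theorem conj_eq_of_commute {t v : G} (h : t * v = v * t) : t⁻¹ * v * t = v := by
  rw [mul_assoc, ← h, inv_mul_cancel_left]

theorem conj_of_anticommute {z t w : G} (hz : z⁻¹ = z) (htz : t * z = z * t)
    (h : t * w * t⁻¹ = z * w) : t⁻¹ * w * t = z * w := by
  calc t⁻¹ * w * t = t⁻¹ * (z⁻¹ * (z * w)) * t := by rw [inv_mul_cancel_left]
    _ = (t⁻¹ * z * t) * w := by rw [← h, hz]; group
    _ = z * w := by rw [conj_eq_of_commute htz]

theorem fix_zmul {z w : G} {F : Subgroup G} (hz : Inv z F) (h : Inv w F) : Fix (z * w) F :=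
  fun x hx => fix_of_mul (.inr ⟨hz x hx, h x hx⟩)

theorem inv_zmul {z w : G} {F : Subgroup G} (hz : Inv z F) (h : Fix w F) : Inv (z * w) F :=
  fun x hx => by
    calc z * w * x * (z * w)⁻¹ = z * (w * x * w⁻¹) * z⁻¹ := by group
      _ = x⁻¹ := by rw [h x hx, hz x hx]

variable {z a : G} {A D K F : Subgroup G}

section

variable (H : Hyp p n G) (T : MaxTriple p n z a A) (hD : Good p z a D)
include H T hD

theorem Block.conj (hF : Block p z D K F) {t : G} (htz : t * z = z * t) (hta : t * a = a * t)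
    (htK : ∀ k ∈ K, k * t = t * k) : Block p z D K (conjG t F) := by
  refine ⟨⟨?_, ?_⟩, ?_, inv_conjG (by rw [conj_eq_of_commute htz]; exact hF.inv), ?_⟩
  · intro x hx y hy
    obtain ⟨f, hf, rfl⟩ := mem_conjG.1 hx
    obtain ⟨g, hg, rfl⟩ := mem_conjG.1 hy
    rw [conj_mul, conj_mul, hF.elem.1 f hf g hg]
  · intro x hx
    obtain ⟨f, hf, rfl⟩ := mem_conjG.1 hx
    rw [conj_pow, hF.elem.2 f hf, mul_one, mul_inv_cancel]
  · intro x hx
    obtain ⟨f, hf, rfl⟩ := mem_conjG.1 hx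
    exact conj_mem_of_mem_normalizer (Good.le_normalizer_a H T hD hta) (hF.le hf)
  · intro k hk x hx
    obtain ⟨f, hf, rfl⟩ := mem_conjG.1 hx
    exact (((show Commute k t from htK k hk).mul_right (hF.comm k hk f hf)).mul_right
      (show Commute k t from htK k hk).inv_right).eq

/-- Doubling a block by an element anticommuting with `w`. -/
theorem Block.double (hF : Block p z D K F) {t w : G} (htz : t * z = z * t)
    (hta : t * a = a * t) (htK : ∀ k ∈ K, k * t = t * k) (hwa : w * a = a * w)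
    (hsc : Scalar w F) (htw : t * w * t⁻¹ = z * w) :
    ∃ F', Block p z D K F' ∧ Nat.card F' = Nat.card F * Nat.card F ∧
      ∀ v, t * v = v * t → (Fix v F → Fix v F') ∧ (Inv v F → Inv v F') := by
  have hC := hF.conj H T hD htz hta htK
  have hw' := conj_of_anticommute T.pair.z_inv htz htw
  have hsc' : (Fix w F ∧ Inv w (conjG t F)) ∨ (Inv w F ∧ Fix w (conjG t F)) := hsc.imp
    (fun h => ⟨h, inv_conjG (by rw [hw']; exact inv_zmul hF.inv h)⟩)
    (fun h => ⟨h, fix_conjG (by rw [hw']; exact fix_zmul hF.inv h)⟩)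
  have hc : ∀ x ∈ F, ∀ y ∈ conjG t F, x * y = y * x := by
    intro x hx y hy
    rcases hsc' with ⟨h1, h2⟩ | ⟨h1, h2⟩
    · exact Good.commute_of_fix_inv H T hD (hF.le hx) (hC.le hy) hwa (h1 x hx) (h2 y hy)
    · exact (Good.commute_of_fix_inv H T hD (hC.le hy) (hF.le hx) hwa (h2 y hy) (h1 x hx)).symm
  have hd : F ⊓ conjG t F = ⊥ := by
    rcases hsc' with ⟨h1, h2⟩ | ⟨h1, h2⟩
    · exact disjoint_of_fix_inv H.prime H.ne_two h1.le_centralizer hF.elem.2 h2
    · rw [inf_comm]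
      exact disjoint_of_fix_inv H.prime H.ne_two h2.le_centralizer hC.elem.2 h1
  refine ⟨F ⊔ conjG t F, ⟨hF.elem.sup hC.elem hc, sup_le hF.le hC.le,
    Inv.sup (hF.elem.sup hC.elem hc) hF.inv hC.inv, fun k hk x hx => ?_⟩,
    by rw [card_sup_of_commute hc hd, card_conjG],
    fun v hv => ⟨fun h => h.sup (fix_conjG (by rw [conj_eq_of_commute hv]; exact h)),
      fun h => Inv.sup (hF.elem.sup hC.elem hc) h
        (inv_conjG (by rw [conj_eq_of_commute hv]; exact h))⟩⟩
  obtain ⟨f, hf, g, hg, rfl⟩ := (mem_sup_of_commute hc).1 hx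
  exact ((show Commute k f from hF.comm k hk f hf).mul_right (hC.comm k hk g hg)).eq

/-- The rank bound. -/
theorem Block.bound (hF : Block p z D K F) (hK : Elem p K) (hKz : K ≤ centralizer ({z} : Set G))
    {w : G} (hw : w ^ 2 = 1) (hw1 : w ≠ 1) (hKw : K ≤ centralizer ({w} : Set G))
    (hfix : Fix w F) : Nat.card K * Nat.card F ≤ p ^ n := by
  rw [← card_sup_of_commute hF.comm
    (disjoint_of_fix_inv H.prime H.ne_two hKz hK.2 hF.inv)]
  refine H.bound _ (zpowers w) (hK.sup hF.elem hF.comm) (elem_zpowers hw).isPGroup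
    (by simpa using hw1) ?_
  exact (fix_sup hKw hfix.le_centralizer).trans (centralizer_le_normalizer_zpowers w)

/-- `D` is larger than `⟨a⟩`. -/
theorem Good.ne_zpowers : ¬ D ≤ zpowers a := fun h =>
  T.pair.z_ne_one (hD.detect z T.z_mem_centralizer_a
    (orderOf_coprime_of_sq H.prime H.ne_two T.pair.z_sq)
    (mem_centralizer_iff.2 fun x hx =>
      (Good.comm_of_mem_zpowers H T hD (h hx) T.az.symm).symm))

/-- A `p`-group commuting with `z` and `a` fixes an element of `D` inverted by `z`. -/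
theorem exists_inv_fixed {E : Subgroup G} (hED : E ≤ D) (haE : a ∈ E) (hE : ¬ E ≤ zpowers a)
    {M : Subgroup G} (hM : IsPGroup p M)
    (hME : M ≤ normalizer (E : Set G)) (hMz : M ≤ centralizer ({z} : Set G)) :
    ∃ u ∈ E, z * u * z⁻¹ = u⁻¹ ∧ u ≠ 1 ∧ ∀ m ∈ M, m * u = u * m := by
  haveI := Fact.mk H.prime
  let S := {x : G // x ∈ E ∧ z * x * z⁻¹ = x⁻¹}
  have hz : ∀ m : M, (m : G) * z = z * m := fun m => mem_centralizer_singleton.1 (hMz m.2)
  letI : MulAction M S :=
    { smul := fun m x => ⟨(m : G) * x.1 * (m : G)⁻¹,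
        conj_mem_of_mem_normalizer (hME m.2) x.2.1, by
          calc z * ((m : G) * x.1 * (m : G)⁻¹) * z⁻¹
              = (z * m) * x.1 * (z * (m : G))⁻¹ := by group
            _ = (m : G) * (z * x.1 * z⁻¹) * (m : G)⁻¹ := by rw [← hz]; group
            _ = _ := by rw [x.2.2]; group⟩
      one_smul := fun x => Subtype.ext (show (((1 : M) : G) * x.1 * ((1 : M) : G)⁻¹) = x.1 by simp)
      mul_smul := fun m m' x => Subtype.ext
        (show (((m * m' : M) : G) * x.1 * ((m * m' : M) : G)⁻¹) =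
          (m : G) * ((m' : G) * x.1 * (m' : G)⁻¹) * (m : G)⁻¹ by simp [mul_assoc]) }
  have hsmul : ∀ (m : M) (x : S), (m • x).1 = (m : G) * x.1 * (m : G)⁻¹ := fun _ _ => rfl
  -- `|E| = p |S|`
  have hbij : Nat.card (S × zpowers a) = Nat.card E := by
    refine Nat.card_congr (Equiv.ofBijective
      (fun q : S × zpowers a => (⟨q.1.1 * q.2, mul_mem q.1.2.1 (zpowers_le.2 haE q.2.2)⟩ : E))
      ⟨fun q r h => ?_, fun x => ?_⟩)
    · have h' : q.1.1 * (q.2 : G) = r.1.1 * r.2 := congrArg Subtype.val h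
      have he : q.1.1 = r.1.1 := Good.inv_unique H T hD q.1.2.2 r.1.2.2 (hED q.1.2.1) (by
        have e : q.1.1⁻¹ * r.1.1 = (q.2 : G) * (r.2 : G)⁻¹ := by
          rw [eq_mul_inv_iff_mul_eq, mul_assoc, ← h', inv_mul_cancel_left]
        rw [e]
        exact mul_mem q.2.2 (inv_mem r.2.2))
      exact Prod.ext (Subtype.ext he) (Subtype.ext (mul_left_cancel (he ▸ h')))
    · obtain ⟨d, hd, hdi, hdx⟩ := Good.exists_inv H T hD (hED x.2)
      have hdE : d ∈ E := by
        have h1 := mul_mem x.2 (inv_mem (zpowers_le.2 haE hdx))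
        rwa [mul_inv_rev, inv_inv, mul_inv_cancel_left] at h1
      exact ⟨(⟨d, hdE, hdi⟩, ⟨_, hdx⟩), Subtype.ext (mul_inv_cancel_left d x)⟩
  rw [Nat.card_prod, card_zpowers_of_pow H.prime T.a_pow T.ne_one] at hbij
  obtain ⟨k, hk⟩ := IsPGroup.iff_card.1 ((isPGroup_cP a).to_le (hED.trans hD.le))
  have hk2 : 2 ≤ k := by
    by_contra hlt
    refine hE (eq_of_le_of_card_ge (zpowers_le.2 haE) ?_).ge
    rw [hk, card_zpowers_of_pow H.prime T.a_pow T.ne_one]
    calc p ^ k ≤ p ^ 1 := Nat.pow_le_pow_right H.prime.pos (by omega)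
      _ = p := pow_one p
  obtain ⟨j, rfl⟩ := Nat.exists_eq_add_of_le hk2
  have hdiv : p ∣ Nat.card S := ⟨p ^ j, Nat.eq_of_mul_eq_mul_right H.prime.pos (by
    rw [hbij, hk, show 2 + j = j + 1 + 1 by omega, pow_succ, pow_succ, mul_comm (p ^ j)])⟩
  obtain ⟨u, hu, hu1⟩ := hM.exists_fixed_point_of_prime_dvd_card_of_fixed_point S hdiv
    (a := (⟨1, one_mem E, by simp⟩ : S))
    (fun m => Subtype.ext (by simp [hsmul]))
  exact ⟨u.1, u.2.1, u.2.2, fun e => hu1 (Subtype.ext e.symm), fun m hm =>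
    conj_eq_iff.1 ((hsmul ⟨m, hm⟩ u).symm.trans (congrArg Subtype.val (hu ⟨m, hm⟩)))⟩

/-- A common eigen-element of `W` inside `C_D(K)` inverted by `z`. -/
theorem exists_base (hK : IsPGroup p K) (hKa : K ≤ centralizer ({a} : Set G))
    (hKz : K ≤ centralizer ({z} : Set G)) {W : Subgroup G} (hW : Elem 2 W) (hzW : z ∈ W)
    (hWa : W ≤ centralizer ({a} : Set G)) (hWK : W ≤ centralizer (K : Set G)) :
    ∃ F, Block p z D K F ∧ Nat.card F = p ∧ ∀ w ∈ W, Scalar w F := by
  set D' := D ⊓ centralizer (K : Set G) with hD'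
  have hWD' : W ≤ normalizer (D' : Set G) := Coprime.le_normalizer_inf_inf
    (hWa.trans hD.norm)
    (Coprime.le_normalizer_centralizer (hWK.trans (centralizer_le_normalizer _)))
  obtain ⟨v, hv, hvz, hv1, hvK⟩ := exists_inv_fixed H T hD le_rfl hD.mem_a
    (Good.ne_zpowers H T hD) hK (hKa.trans hD.norm) hKz
  obtain ⟨u, hu, hu1, hzu, hsgn⟩ := exists_eigen H.prime H.ne_two hW
    ((isPGroup_cP a).to_le (inf_le_left.trans hD.le)) hWD' hzW fun hzc => hv1
      (eq_one_of_fix_inv H.prime H.ne_two (hD.pow v hv)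
        (fix_of_mem_centralizer hzc ⟨hv, mem_centralizer_iff.2 hvK⟩) hvz)
  exact ⟨zpowers u, ⟨elem_zpowers (hD.pow u hu.1), zpowers_le.2 hu.1, inv_zpowers hzu,
    fun k hk x hx => mem_centralizer_iff.1 (zpowers_le.2 hu.2 hx) k hk⟩,
    card_zpowers_of_pow H.prime (hD.pow u hu.1) hu1,
    fun w hw => (hsgn w hw).imp fix_zpowers_iff.2 inv_zpowers_iff.2⟩

/-- Moving a block so that `w` fixes it. -/
theorem Block.fix_or_flip {W : Subgroup G} (hF : Block p z D K F) {t w : G} (hw : w ∈ W)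
    (hsc : ∀ v ∈ W, Scalar v F) (htz : t * z = z * t) (hta : t * a = a * t)
    (htK : ∀ k ∈ K, k * t = t * k) (htW : ∀ v ∈ W, t⁻¹ * v * t ∈ W)
    (htw : t * w * t⁻¹ = z * w) :
    ∃ F', Block p z D K F' ∧ Nat.card F' = Nat.card F ∧ Fix w F' ∧ ∀ v ∈ W, Scalar v F' := by
  rcases hsc w hw with h | h
  · exact ⟨F, hF, rfl, h, hsc⟩
  · exact ⟨conjG t F, hF.conj H T hD htz hta htK, card_conjG t F,
      fix_conjG (by rw [conj_of_anticommute T.pair.z_inv htz htw]; exact fix_zmul hF.inv h),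
      fun v hv => (hsc _ (htW v hv)).imp fix_conjG inv_conjG⟩

end

end CfsgLib.KlingerMason
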